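import Mathlib

/-!
Perps of subgroups under a bilinear pairing into the complex numbers, and families of subgroups covering a group.
-/

set_option autoImplicit false
set_option linter.unusedSectionVars false

namespace Cfsg.Lib.Known.MinIndexSp

universe u

variable {W : Type u} [AddCommGroup W]

/-- A nondegenerate pairing into the complex numbers. -/
structure Pairing (W : Type u) [AddCommGroup W] where
  χ : W → AddChar W ℂ
  add_left : ∀ v v' w, χ (v + v') w = χ v w * χ v' w
  nd : ∀ v, (∀ w, χ v w = 1) → v = 0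

namespace Pairing

variable (P : Pairing W)

theorem inj : Function.Injective P.χ := fun v v' e => by
  refine sub_eq_zero.1 (P.nd _ fun w => ?_)
  have h1 := P.add_left (v - v') v' w
  rw [sub_add_cancel, e] at h1
  have hne : P.χ v' w ≠ 0 := fun h0 => by
    have h2 := (P.χ v').map_add_eq_mul w (-w)
    rw [add_neg_cancel, AddChar.map_zero_eq_one, h0, zero_mul] at h2
    exact one_ne_zero h2
  exact mul_right_cancel₀ hne (by rw [one_mul]; exact h1.symm)

theorem surj [Finite W] : Function.Surjective P.χ := by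
  have := Fintype.ofFinite W
  refine (P.inj.bijective_of_nat_card_le (le_of_eq ?_)).2
  rw [Nat.card_eq_fintype_card, Nat.card_eq_fintype_card, AddChar.card_eq]

theorem zero_left (w : W) : P.χ 0 w = 1 := by
  have h := P.add_left 0 0 w
  rw [add_zero] at h
  have hne : P.χ 0 w ≠ 0 := fun h0 => by
    have h2 := (P.χ 0).map_add_eq_mul w (-w)
    rw [add_neg_cancel, AddChar.map_zero_eq_one, h0, zero_mul] at h2
    exact one_ne_zero h2
  exact mul_right_cancel₀ hne (by rw [one_mul]; exact h.symm)

/-- The vectors pairing trivially with a subgroup. -/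
def perp (K : AddSubgroup W) : AddSubgroup W where
  carrier := {v | ∀ k ∈ K, P.χ v k = 1}
  zero_mem' k _ := P.zero_left k
  add_mem' {v v'} hv hv' k hk := by rw [P.add_left, hv k hk, hv' k hk, one_mul]
  neg_mem' {v} hv k hk := by
    have h := P.add_left v (-v) k
    rw [add_neg_cancel, P.zero_left, hv k hk, one_mul] at h
    exact h.symm

theorem mem_perp {K : AddSubgroup W} {v : W} : v ∈ P.perp K ↔ ∀ k ∈ K, P.χ v k = 1 := Iff.rfl

/-- A perp vector as a character of the quotient. -/
noncomputable def quotChar (K : AddSubgroup W) (v : P.perp K) : AddChar (W ⧸ K) ℂ :=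
  AddChar.toAddMonoidHomEquiv.symm (QuotientAddGroup.lift K (AddChar.toAddMonoidHomEquiv (P.χ v.1))
    fun φ hφ => by
      rw [AddMonoidHom.mem_ker]
      exact congrArg Additive.ofMul (v.2 φ hφ))

theorem quotChar_bij [Finite W] (K : AddSubgroup W) : Function.Bijective (P.quotChar K) := by
  refine ⟨fun v v' e => Subtype.ext (P.inj (DFunLike.ext _ _ fun w => ?_)), fun ψ => ?_⟩
  · exact DFunLike.congr_fun e (QuotientAddGroup.mk w)
  · obtain ⟨v, hv⟩ := P.surj (ψ.compAddMonoidHom (QuotientAddGroup.mk' K))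
    have hv' : ∀ w, P.χ v w = ψ (QuotientAddGroup.mk w) := fun w => DFunLike.congr_fun hv w
    refine ⟨⟨v, fun k hk => ?_⟩, DFunLike.ext _ _ fun x => ?_⟩
    · rw [hv', (QuotientAddGroup.eq_zero_iff k).2 hk, AddChar.map_zero_eq_one]
    · induction x using QuotientAddGroup.induction_on with
      | H w => exact hv' w

theorem card_perp [Finite W] (K : AddSubgroup W) : Nat.card (P.perp K) * Nat.card K = Nat.card W := by
  have := Fintype.ofFinite (W ⧸ K)
  rw [Nat.card_congr (Equiv.ofBijective _ (P.quotChar_bij K)), Nat.card_eq_fintype_card, AddChar.card_eq,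
    ← Nat.card_eq_fintype_card, ← AddSubgroup.index, K.index_mul_card]

theorem perp_ne_bot [Finite W] {K : AddSubgroup W} (hK : K ≠ ⊤) : P.perp K ≠ ⊥ := fun h => by
  refine hK (AddSubgroup.eq_top_of_card_eq _ ?_)
  rw [← P.card_perp K, h, AddSubgroup.card_bot, one_mul]

theorem perp_ne_top [Finite W] {K : AddSubgroup W} (hK : K ≠ ⊥) : P.perp K ≠ ⊤ := fun h => by
  refine hK (AddSubgroup.eq_bot_of_card_eq _ ?_)
  have e := P.card_perp K
  rw [h, AddSubgroup.card_top] at e
  exact Nat.eq_of_mul_eq_mul_left Nat.card_pos (by rw [e, mul_one])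

theorem perp_inj [Finite W] : Function.Injective P.perp := by
  have key : ∀ K K' : AddSubgroup W, P.perp K = P.perp K' → K ≤ K' := by
    intro K K' e k hk
    by_contra hk'
    obtain ⟨ψ, hψ⟩ := AddChar.exists_apply_ne_zero.2
      (show (QuotientAddGroup.mk k : W ⧸ K') ≠ 0 from fun e' => hk' ((QuotientAddGroup.eq_zero_iff k).1 e'))
    obtain ⟨v, rfl⟩ := (P.quotChar_bij K').2 ψ
    exact hψ ((P.mem_perp).1 (show v.1 ∈ P.perp K by rw [e]; exact v.2) k hk)
  exact fun K K' e => le_antisymm (key _ _ e) (key _ _ e.symm)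

end Pairing

open scoped Classical in
/-- A family of subgroups meeting every nonzero vector a given number of times. -/
theorem count_cover [Fintype W] (S : Finset (AddSubgroup W)) (k : ℕ)
    (h : ∀ v : W, v ≠ 0 → k ≤ (S.filter (v ∈ ·)).card) :
    k * (Nat.card W - 1) + S.card ≤ ∑ P ∈ S, Nat.card P := by
  have e : ∀ P : AddSubgroup W, Nat.card P = ∑ v : W, if v ∈ P then 1 else 0 := fun P => by
    rw [Nat.card_eq_fintype_card, Fintype.card_subtype, Finset.card_filter]
  simp only [e, Finset.sum_comm (s := S)]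
  rw [Finset.sum_eq_add_sum_sdiff_singleton_of_mem (Finset.mem_univ (0 : W))]
  have h0 : (∑ P ∈ S, if (0 : W) ∈ P then 1 else 0) = S.card := by simp
  rw [h0, add_comm]
  refine Nat.add_le_add_left ?_ _
  refine le_trans (le_of_eq ?_) (Finset.card_nsmul_le_sum _ _ k fun v hv => ?_)
  · rw [smul_eq_mul, mul_comm, Finset.card_sdiff, Finset.singleton_inter_of_mem (Finset.mem_univ _),
      Finset.card_singleton, Finset.card_univ, Nat.card_eq_fintype_card]
  · rw [← Finset.card_filter]
    exact h v (by simpa using hv)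

open scoped Classical in
theorem count_cover_one [Fintype W] (S : Finset (AddSubgroup W)) (h : ∀ v : W, v ≠ 0 → ∃ P ∈ S, v ∈ P) :
    Nat.card W - 1 + S.card ≤ ∑ P ∈ S, Nat.card P := by
  have := count_cover S 1 fun v hv => by
    obtain ⟨P, hP, hvP⟩ := h v hv
    exact Finset.card_pos.2 ⟨P, Finset.mem_filter.2 ⟨hP, hvP⟩⟩
  rwa [one_mul] at this

end Cfsg.Lib.Known.MinIndexSp
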