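import Cfsg.Agent.Known.MinIndexSp.Centres

/-!
In small degree no point is fixed by a whole transvection group.
-/

set_option autoImplicit false
set_option linter.unusedSectionVars false
set_option linter.unusedSimpArgs false
set_option linter.style.haveILetI false

namespace Cfsg.Lib.Known.MinIndexSp

open Cfsg.Lib.Classical

universe u v w

variable {F : Type u} [Field F] [Finite F] {V : Type v} [AddCommGroup V] [Module F V] [FiniteDimensional F V]
  {B : LinearMap.BilinForm F V} {X : Type w} [MulAction (BilinIsom B) X] [Fintype X]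

namespace Frame

variable (C : Frame B)

theorem fixed_rho {x : X} (hZ : Z1 C.hA C.a x = ⊤) (hK : C.Kb x = ⊤) (u : C.U) (z : F) :
    rho C.hA C.a (u : V) z • x = x := by
  obtain ⟨z', hz'⟩ := C.mem_Kb.1 (hK ▸ AddSubgroup.mem_top u : u ∈ C.Kb x)
  have h := rho_mul C.hA (a := C.a) (u := 0) (u' := (u : V)) (map_zero _) (C.au u) (z - z') z'
  rw [rho_zero, zero_add, sub_add_cancel, map_zero, add_zero] at h
  rw [← h, mul_smul, hz']
  exact mem_Z1.1 (hZ ▸ AddSubgroup.mem_top (z - z'))

/-- Full orbits transported to every centre. -/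
theorem full_transport (hK : ∀ x : X, C.a ∈ cen C.hA x → C.Kb x = ⊤) {v u : V} {x : X}
    (hv : v ∈ cen C.hA x) (hv0 : v ≠ 0) (hvu : B v u = 0) (z : F) : rho C.hA v u z • x = x := by
  obtain ⟨g, hg⟩ := C.exists_to_a hv0
  have ha : C.a ∈ cen C.hA (g • x) := by rw [← hg]; exact (cen_map C.hA g x v).2 hv
  rw [← fix_conj (X := X) g, rho_conj, hg]
  have hgu : B C.a ((g : V ≃ₗ[F] V) u) = 0 := by rw [← hg, BilinIsom.map_form, hvu]
  set y := (g : V ≃ₗ[F] V) u with hy
  have hyz : B y C.a = 0 := alt_zero C.hA hgu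
  have hdec : y = ((⟨_, C.proj_mem y⟩ : C.U) : V) + B y C.b • C.a := by
    show y = y - B y C.b • C.a + B y C.a • C.b + B y C.b • C.a
    rw [hyz, zero_smul, add_zero, sub_add_cancel]
  rw [hdec, rho_shift C.hA (C.au _)]
  exact C.fixed_rho (Z1_top.2 ha) (hK _ ha) _ _

open scoped _root_.Classical in
theorem cen_count {x : X} (hx : C.a ∈ cen C.hA x) (hK : C.Kb x ≠ ⊤) :
    Nat.card C.U ≤ Nat.card {y : X // C.a ∈ cen C.hA y} := by
  have : Finite C.U := Module.finite_of_finite F
  obtain ⟨ψ, hψ⟩ := AddChar.exists_apply_ne_zero.2 (one_ne_zero : (1 : F) ≠ 0)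
  have hψ' : ψ ≠ 1 := fun h => hψ (by rw [h]; rfl)
  obtain ⟨S, hS, hinj, hmem⟩ := C.exists_reps x
  have hZ : Z1 C.hA C.a x = ⊤ := Z1_top.2 hx
  have hi : Nat.card (C.orb x) = Nat.card ((C.pairing ψ hψ').perp (C.Kb x)) := by
    have h := C.orb_perp ψ hψ' x
    rw [hZ, AddSubgroup.card_top, mul_comm] at h
    exact Nat.eq_of_mul_eq_mul_left Nat.card_pos h
  have hd : (S : Set X).PairwiseDisjoint fun y => (C.orb y).toFinset := fun y hy z hz hyz =>
    Finset.disjoint_left.2 fun t ht ht' => hyz (hinj hy hz (by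
      rw [Set.mem_toFinset] at ht ht'
      exact ((C.inv_orb ht).2.symm.trans (C.inv_orb ht').2)))
  have h1 : ∑ y ∈ S, Nat.card (C.orb y) ≤ Nat.card {y : X // C.a ∈ cen C.hA y} := by
    calc ∑ y ∈ S, Nat.card (C.orb y) = ∑ y ∈ S, (C.orb y).toFinset.card :=
          Finset.sum_congr rfl fun y _ => by rw [Set.toFinset_card, Nat.card_eq_fintype_card]
      _ = (S.biUnion fun y => (C.orb y).toFinset).card := (Finset.card_biUnion hd).symm
      _ ≤ _ := by
        rw [Nat.card_eq_fintype_card, Fintype.card_subtype]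
        refine Finset.card_le_card fun t ht => ?_
        obtain ⟨y, hy, ht⟩ := Finset.mem_biUnion.1 ht
        rw [Set.mem_toFinset] at ht
        exact Finset.mem_filter.2 ⟨Finset.mem_univ _, Z1_top.1 (by rw [(C.inv_orb ht).1, (hmem y hy).1, hZ])⟩
  rw [Finset.sum_congr rfl fun y hy => (hmem y hy).2.2, Finset.sum_const, hS, smul_eq_mul, hi] at h1
  have h2 := C.cover_le ((C.pairing ψ hψ').perp_ne_bot hK)
  rw [C.perp_imgs ψ hψ'] at h2
  have h3 : 1 ≤ (C.imgs (C.Kb x)).card := Finset.card_pos.2 ⟨_, C.self_imgs _⟩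
  omega

/-- The degree bound when some transvection group has a fixed point. -/
theorem no_centres [MulAction.IsPretransitive (BilinIsom B) X] (hq : 3 ≤ Nat.card F)
    (hd : Nat.card X * (Nat.card F - 1) + 1 < Nat.card V)
    (hmove : ∀ x : X, MulAction.stabilizer (BilinIsom B) x ≠ ⊤) (x : X) : C.a ∉ cen C.hA x := by
  by_cases hK : ∀ y : X, C.a ∈ cen C.hA y → C.Kb y = ⊤
  · exact C.no_full hd hmove (fun v u y hv hv0 hvu z => C.full_transport hK hv hv0 hvu z) x
  push Not at hK
  obtain ⟨y, hy, hyK⟩ := hK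
  exfalso
  have : Finite V := Module.finite_of_finite F
  have hA := C.hA
  have hf := C.cen_count hy hyK
  have hdc := C.double_count y
  set q := Nat.card F with hqdef
  set U := Nat.card C.U with hU
  set P := Nat.card (cen C.hA y) with hP
  have hU1 : 1 ≤ U := Nat.card_pos
  have hV : Nat.card V = q ^ 2 * U := C.card_V
  have hbig : (q - 1) * U + 1 < P := by
    by_contra h
    push Not at h
    have h1 : (Nat.card V - 1) * U ≤ Nat.card X * ((q - 1) * U) := by
      refine le_trans (Nat.mul_le_mul_left _ hf) ?_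
      rw [← hdc]
      exact Nat.mul_le_mul_left _ (by omega)
    rw [← mul_assoc] at h1
    have := Nat.le_of_mul_le_mul_right h1 (by omega)
    omega
  have hsm : ∀ v ∈ cen C.hA y, ∀ c : F, c • v ∈ cen C.hA y := fun v hv c => cen_smul hA hv c
  by_cases horth : ∀ u ∈ cen C.hA y, ∀ v ∈ cen C.hA y, B u v = 0
  · let W : Submodule F V := Submodule.span F (cen C.hA y)
    have hW1 : W ≤ B.orthogonal W := by
      refine Submodule.span_le.2 fun v hv z hz => ?_
      induction hz using Submodule.span_induction with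
      | mem z hz => exact horth z hz v hv
      | zero => show B 0 v = 0; rw [map_zero]; rfl
      | add z z' _ _ h h' => show B (z + z') v = 0; rw [map_add, LinearMap.add_apply, h, h', add_zero]
      | smul c z _ h => show B (c • z) v = 0; rw [map_smul, LinearMap.smul_apply, h, smul_zero]
    obtain ⟨hc, hsq⟩ := C.iso_bound (W := W) (fun p hp r hr => hW1 hr p hp) (Submodule.subset_span hy)
    have h1 : P ≤ Nat.card W := Nat.card_mono (Set.toFinite (W : Set V)) Submodule.subset_span
    set b := Nat.card (C.bar W) with hb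
    rw [hc] at h1
    have hb1 : 1 ≤ b := by
      have : Finite C.U := Module.finite_of_finite F
      exact Nat.card_pos
    rw [← hU] at hsq
    obtain ⟨r, hr⟩ : ∃ r, q = r + 3 := ⟨q - 3, by omega⟩
    rw [hr, show r + 3 - 1 = r + 2 by omega] at hbig
    rw [← hqdef, hr] at h1
    rcases Nat.lt_or_ge b 2 with hb2 | hb2
    · have : b = 1 := by omega
      rw [this] at h1
      have := Nat.le_mul_of_pos_right (r + 2) (show 0 < U by omega)
      omega
    · have h2 : (r + 3) * b ≤ (r + 2) * b ^ 2 := by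
        have h0 : r + 3 ≤ (r + 2) * 2 := by omega
        calc (r + 3) * b ≤ (r + 2) * 2 * b := Nat.mul_le_mul_right _ h0
          _ ≤ (r + 2) * b * b := Nat.mul_le_mul_right _ (Nat.mul_le_mul_left _ hb2)
          _ = _ := by ring
      have h3 := Nat.mul_le_mul_left (r + 2) hsq
      omega
  push Not at horth
  obtain ⟨p, hp, r, hr, hpr⟩ := horth
  rcases closed_cases hA C.hB hq hsm (fun v hv w hw h => cen_add hA hv hw h) hp hr hpr with h | ⟨b, hb, hsub, hsup⟩ | h
  · exact hmove y (eq_top_of_transCentres (hA := hA) C.hB fun v => show v ∈ cen C.hA y by rw [h]; trivial)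
  · have key : ∀ g : BilinIsom B, g • y = y → (g : V ≃ₗ[F] V) b ∈ Submodule.span F ({b} : Set V) := by
      intro g hg
      obtain ⟨p, hp⟩ := exists_hyperbolic_partner C.hB hb
      obtain ⟨w0, hw0, hw0b⟩ : ∃ w, B b w = 0 ∧ w ∉ Submodule.span F ({b} : Set V) := by
        obtain ⟨g', hg'⟩ := C.exists_to_a hb
        obtain ⟨u, hu0⟩ : ∃ u : C.U, u ≠ 0 := by
          have : Nontrivial C.U := Module.nontrivial_of_finrank_pos (R := F) (by
            rw [C.finrank_U]; have := C.hn; omega)
          exact exists_ne 0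
        refine ⟨((g'⁻¹ : BilinIsom B) : V ≃ₗ[F] V) (u : V), ?_, fun h => hu0 ?_⟩
        · rw [← BilinIsom.map_form g', hg', BilinIsom.apply_inv_self, C.au]
        · obtain ⟨c, hc⟩ := Submodule.mem_span_singleton.1 h
          have e := congrArg (g' : V ≃ₗ[F] V) hc
          rw [map_smul, hg', BilinIsom.apply_inv_self] at e
          refine C.nd_U fun v => ?_
          rw [← e]
          simp [C.au v]
      have hstab : ∀ w, B b w = 0 → B b ((g : V ≃ₗ[F] V) w) = 0 := by
        have h0 : ∀ w, B b w = 0 → w ∉ Submodule.span F ({b} : Set V) → B b ((g : V ≃ₗ[F] V) w) = 0 :=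
          fun w hw hwb => hsub (cen_stab hA hg (hsup w hw hwb))
        intro w hw
        by_cases hwb : w ∈ Submodule.span F ({b} : Set V)
        · have h1 := h0 (w + w0) (by simp [hw, hw0]) (fun h => hw0b ((Submodule.add_mem_iff_right _ hwb).1 h))
          rw [map_add, map_add, h0 w0 hw0 hw0b, add_zero] at h1
          exact h1
        · exact h0 w hw hwb
      set b' := ((g⁻¹ : BilinIsom B) : V ≃ₗ[F] V) b with hb'
      have hgb : (g : V ≃ₗ[F] V) b' = b := BilinIsom.apply_inv_self g b
      have h1 : b' = B b' p • b := by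
        refine sub_eq_zero.1 (C.hB.1 _ fun s => ?_)
        have h2 := hstab (s - B b s • p) (by simp [hp])
        rw [← hgb, BilinIsom.map_form] at h2
        rw [hgb] at h2
        simp only [map_sub, map_smul, LinearMap.sub_apply, LinearMap.smul_apply, smul_eq_mul] at h2 ⊢
        linear_combination h2
      have h2 : b = B b' p • (g : V ≃ₗ[F] V) b := by
        conv_lhs => rw [← hgb, h1, map_smul]
      have hne : B b' p ≠ 0 := fun h0 => hb (by rw [h2, h0, zero_smul])
      exact Submodule.mem_span_singleton.2 ⟨(B b' p)⁻¹, by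
        conv_lhs => rw [h2, smul_smul, inv_mul_cancel₀ hne, one_smul]⟩
    have h1 := C.line_bound hb key
    rw [← hqdef] at h1
    omega
  · rw [← hP, ← hqdef, hV] at h
    have h1 : P ≤ 2 * U := Nat.le_of_mul_le_mul_right (h.trans (le_of_eq (by ring))) (by positivity)
    have h2 : 2 * U ≤ (q - 1) * U := Nat.mul_le_mul_right _ (by omega)
    omega

end Frame

end Cfsg.Lib.Known.MinIndexSp
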