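import Cfsg.Agent.Known.MinIndexSp.Lift
import Cfsg.Agent.Known.MinIndexSp.NoCentres

/-!
Counting orbits of the radical: second orbits, isotropy, lower bounds on orbit lengths.
-/

set_option autoImplicit false
set_option linter.unusedSectionVars false
set_option linter.unusedSimpArgs false
set_option linter.style.haveILetI false

namespace Cfsg.Lib.Known.MinIndexSp

open Cfsg.Lib.Classical

universe u v w

variable {F : Type u} [Field F] [Finite F] {V : Type v} [AddCommGroup V] [Module F V] [FiniteDimensional F V]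
  {B : LinearMap.BilinForm F V} {X : Type w} [MulAction (BilinIsom B) X] [Fintype X]

namespace Frame

variable (C : Frame B)

/-- A second orbit with the same invariants adds to the family. -/
theorem family_two {x y : X} (hZ : Z1 C.hA C.a y = Z1 C.hA C.a x) (hK : C.Kb y = C.Kb x) (hy : y ∉ C.orb x) :
    (C.imgs (C.Kb x)).card * Nat.card (C.orb x) + Nat.card (C.orb x) ≤ Nat.card X := by
  classical
  obtain ⟨S, hS, hinj, hmem⟩ := C.exists_reps x
  obtain ⟨y', hy', hiy, hKy⟩ : ∃ y', (∀ z ∈ S, y' ∉ C.orb z) ∧ Nat.card (C.orb y') = Nat.card (C.orb x) ∧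
      C.Kb y' = C.Kb x := by
    have hzK : ∀ {z w : X}, w ∈ C.orb z → C.Kb w = C.Kb x → C.Kb z = C.Kb x := fun h e => by
      rw [← (C.inv_orb h).2, e]
    by_cases hx : ∀ z ∈ S, x ∉ C.orb z
    · exact ⟨x, hx, rfl, rfl⟩
    push Not at hx
    obtain ⟨z, hz, hxz⟩ := hx
    refine ⟨y, fun z' hz' hyz => hy ?_, C.orb_card_pos_dvd hZ (by rw [hK]), hK⟩
    have e : z = z' := hinj hz hz' ((hzK hxz rfl).trans (hzK hyz hK).symm)
    subst e
    rw [C.orb_eq hxz]
    exact hyz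
  have hnot : y' ∉ S := fun h => hy' y' h (C.self_orb _)
  refine le_trans (le_of_eq ?_) (C.sum_le (insert y' S) ?_)
  · rw [Finset.sum_insert hnot, hiy, Finset.sum_congr rfl fun z hz => (hmem z hz).2.2, Finset.sum_const, hS,
      smul_eq_mul, add_comm]
  · intro z hz w hw hwz
    rw [Finset.mem_insert] at hz hw
    rcases hz with rfl | hz <;> rcases hw with rfl | hw
    · rfl
    · exact absurd (show z ∈ C.orb w by rw [C.orb_eq hwz]; exact C.self_orb z) (hy' w hw)
    · exact absurd hwz (hy' z hz)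
    · exact hinj hz hw (C.inv_orb hwz).2.symm

theorem Kb_dil (l : F) (hl : l ≠ 0) (ε : F) (hε : ε * ε = 1) (x : X) {u : C.U} :
    (l * ε) • u ∈ C.Kb (C.dil l hl ε hε • x) ↔ u ∈ C.Kb x := by
  constructor
  · rintro ⟨z, hz⟩
    refine ⟨(l ^ 2)⁻¹ * z, (fix_conj (X := X) (C.dil l hl ε hε) _).1 ?_⟩
    rwa [C.dil_rho, ← mul_assoc, mul_inv_cancel₀ (pow_ne_zero 2 hl), one_mul]
  · rintro ⟨z, hz⟩
    refine ⟨l ^ 2 * z, ?_⟩
    rw [← C.dil_rho l hl ε hε, fix_conj]
    exact hz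

theorem Z1_dil (l : F) (hl : l ≠ 0) (ε : F) (hε : ε * ε = 1) (x : X) {z : F} :
    l ^ 2 * z ∈ Z1 C.hA C.a (C.dil l hl ε hε • x) ↔ z ∈ Z1 C.hA C.a x := by
  rw [mem_Z1, mem_Z1, ← C.dil_t l hl ε hε, fix_conj]

theorem add_sub_Z1 {x : X} {u u' : C.U} (hu : u ∈ C.Kb x) (hu' : u' ∈ C.Kb x) :
    2 * B (u : V) (u' : V) ∈ Z1 C.hA C.a x := by
  obtain ⟨z, hz⟩ := hu
  obtain ⟨z', hz'⟩ := hu'
  have h1 : rho C.hA C.a (u : V) (z + 2 * B (u : V) (u' : V)) • x = x := by
    rw [← rho_conj_rho C.hA (C.au u) (C.au u') z z', mul_smul, mul_smul,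
      show (rho C.hA C.a (u' : V) z')⁻¹ • x = x by rw [inv_smul_eq_iff]; exact hz'.symm, hz, hz']
  rw [mem_Z1]
  conv_lhs => rw [← hz, smul_smul, C.t_mul_rho, add_comm]
  exact h1

theorem isotropy (h2 : (2 : F) ≠ 0) {x : X} (hZ : Z1 C.hA C.a x ≠ ⊤) :
    Nat.card (C.Kb x) ^ 2 ≤ Nat.card C.U := by
  have : Finite C.U := Module.finite_of_finite F
  obtain ⟨c, hc⟩ : ∃ c, c ∉ Z1 C.hA C.a x := by
    by_contra h
    push Not at h
    exact hZ (eq_top_iff.2 fun c _ => h c)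
  obtain ⟨χ, hχ⟩ := AddChar.exists_apply_ne_zero.2
    (show (QuotientAddGroup.mk c : F ⧸ Z1 C.hA C.a x) ≠ 0 from fun e => hc ((QuotientAddGroup.eq_zero_iff c).1 e))
  let ψ : AddChar F ℂ := χ.compAddMonoidHom (QuotientAddGroup.mk' (Z1 C.hA C.a x))
  have hψ : ψ ≠ 1 := fun h => hχ (by
    have := DFunLike.congr_fun h c
    simpa [ψ] using this)
  rw [← (C.pairing ψ hψ).card_perp (C.Kb x), sq]
  refine Nat.mul_le_mul_right _ (Nat.card_le_card_of_injective
    (AddSubgroup.inclusion (show C.Kb x ≤ (C.pairing ψ hψ).perp (C.Kb x) from fun v hv k hk => ?_))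
    (AddSubgroup.inclusion_injective _))
  rw [C.pairing_apply]
  let f : Z1 C.hA C.a x → Z1 C.hA C.a x := fun t => t + t
  have hf : Function.Injective f := fun t t' e => by
    have e' : (t : F) + t = (t' : F) + t' := congrArg Subtype.val e
    refine Subtype.ext (mul_left_cancel₀ h2 ?_)
    linear_combination e'
  obtain ⟨t, ht⟩ := (Finite.injective_iff_surjective.1 hf) ⟨_, C.add_sub_Z1 hv hk⟩
  have ht' : (t : F) + t = 2 * B (v : V) (k : V) := congrArg Subtype.val ht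
  have e : B (v : V) (k : V) = (t : F) := mul_left_cancel₀ h2 (by linear_combination -ht')
  rw [e]
  show χ (QuotientAddGroup.mk (t : F)) = 1
  rw [(QuotientAddGroup.eq_zero_iff (t : F)).2 t.2, AddChar.map_zero_eq_one]

end Frame

end Cfsg.Lib.Known.MinIndexSp
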