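import Cfsg.Agent.Known.MinIndexSp.Closure

/-!
The points fixed by a whole transvection group.
-/

set_option autoImplicit false
set_option linter.unusedSectionVars false
set_option linter.unusedSimpArgs false
set_option linter.style.haveILetI false

namespace Cfsg.Lib.Known.MinIndexSp

open Cfsg.Lib.Classical

universe u v w

variable {F : Type u} [Field F] [Finite F] {V : Type v} [AddCommGroup V] [Module F V] [FiniteDimensional F V]
  {B : LinearMap.BilinForm F V} {X : Type w} [MulAction (BilinIsom B) X] [Fintype X]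

/-- The centres of the transvection groups fixing a point. -/
def cen (hA : B.IsAlt) (x : X) : Set V := transCentres hA (MulAction.stabilizer (BilinIsom B) x)

theorem cen_map (hA : B.IsAlt) (g : BilinIsom B) (x : X) (v : V) :
    (g : V ≃ₗ[F] V) v ∈ cen hA (g • x) ↔ v ∈ cen hA x := by
  rw [cen, cen, ← Z1_top, ← Z1_top, Z1_map]

theorem cen_add (hA : B.IsAlt) {x : X} {v w : V} (hv : v ∈ cen hA x) (hw : w ∈ cen hA x) (h : B v w ≠ 0) :
    v + w ∈ cen hA x := transCentres_add hv hw h

theorem cen_smul (hA : B.IsAlt) {x : X} {v : V} (hv : v ∈ cen hA x) (c : F) : c • v ∈ cen hA x :=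
  transCentres_smul hv c

theorem cen_stab (hA : B.IsAlt) {x : X} {g : BilinIsom B} (hg : g • x = x) {v : V} (hv : v ∈ cen hA x) :
    (g : V ≃ₗ[F] V) v ∈ cen hA x := transCentres_map hv hg

namespace Frame

variable (C : Frame B)

/-- Frames are conjugate. -/
theorem exists_to_a (C : Frame B) {v : V} (hv : v ≠ 0) : ∃ g : BilinIsom B, (g : V ≃ₗ[F] V) v = C.a :=
  sympIsom_transitive C.hA C.hB hv C.ha0

/-- The trace of an isotropic subspace on the orthogonal space. -/
def bar (W : Submodule F V) : AddSubgroup C.U := W.toAddSubgroup.comap C.U.subtype.toAddMonoidHom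

theorem mem_bar {W : Submodule F V} {u : C.U} : u ∈ C.bar W ↔ (u : V) ∈ W := Iff.rfl

theorem iso_bound {W : Submodule F V} (hW : ∀ x ∈ W, ∀ y ∈ W, B x y = 0) (ha : C.a ∈ W) :
    Nat.card W = Nat.card F * Nat.card (C.bar W) ∧ Nat.card (C.bar W) ^ 2 ≤ Nat.card C.U := by
  have : Finite C.U := Module.finite_of_finite F
  constructor
  · rw [← Nat.card_prod]
    refine Nat.card_congr
      { toFun := fun w => (B (w : V) C.b, ⟨⟨_, C.proj_mem w⟩, ?_⟩)
        invFun := fun p => ⟨p.1 • C.a + ((p.2 : C.U) : V), W.add_mem (W.smul_mem _ ha) p.2.2⟩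
        left_inv := fun w => Subtype.ext ?_
        right_inv := fun p => Prod.ext ?_ (Subtype.ext (Subtype.ext ?_)) }
    · rw [C.mem_bar]
      show (w : V) - B (w : V) C.b • C.a + B (w : V) C.a • C.b ∈ W
      rw [hW w w.2 C.a ha, zero_smul, add_zero]
      exact W.sub_mem w.2 (W.smul_mem _ ha)
    · show B (w : V) C.b • C.a + ((w : V) - B (w : V) C.b • C.a + B (w : V) C.a • C.b) = w
      rw [hW w w.2 C.a ha, zero_smul, add_zero, add_sub_cancel]
    · show B (p.1 • C.a + ((p.2 : C.U) : V)) C.b = p.1
      simp [C.hab, C.ub]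
    · show p.1 • C.a + ((p.2 : C.U) : V) - B (p.1 • C.a + ((p.2 : C.U) : V)) C.b • C.a +
        B (p.1 • C.a + ((p.2 : C.U) : V)) C.a • C.b = _
      simp [C.hab, C.ub, C.ua, C.hA C.a]
  · obtain ⟨ψ, hψ⟩ := AddChar.exists_apply_ne_zero.2 (one_ne_zero : (1 : F) ≠ 0)
    have hψ' : ψ ≠ 1 := fun h => hψ (by rw [h]; rfl)
    rw [← (C.pairing ψ hψ').card_perp (C.bar W), sq]
    refine Nat.mul_le_mul_right _ (Nat.card_le_card_of_injective
      (AddSubgroup.inclusion (show C.bar W ≤ (C.pairing ψ hψ').perp (C.bar W) from fun v hv k hk => by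
        rw [C.pairing_apply, hW (v : V) hv (k : V) hk, AddChar.map_zero_eq_one])) (AddSubgroup.inclusion_injective _))

theorem card_cen [MulAction.IsPretransitive (BilinIsom B) X] (x y : X) :
    Nat.card (cen C.hA y) = Nat.card (cen C.hA x) := by
  obtain ⟨g, rfl⟩ := MulAction.exists_smul_eq (BilinIsom B) x y
  exact (Nat.card_congr ((g : V ≃ₗ[F] V).toEquiv.subtypeEquiv fun v => (cen_map C.hA g x v).symm)).symm

open scoped _root_.Classical in
/-- Double counting of fixed points of transvection groups. -/
theorem double_count [MulAction.IsPretransitive (BilinIsom B) X] (x : X) :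
    Nat.card X * (Nat.card (cen C.hA x) - 1) =
      (Nat.card V - 1) * Nat.card {y : X // C.a ∈ cen C.hA y} := by
  have : Finite V := Module.finite_of_finite F
  have := Fintype.ofFinite V
  let D : Finset V := Finset.univ.erase 0
  have h1 : ∀ v ∈ D, (Finset.univ.filter fun y : X => v ∈ cen C.hA y).card =
      Nat.card {y : X // C.a ∈ cen C.hA y} := fun v hv => by
    obtain ⟨g, hg⟩ := C.exists_to_a (Finset.ne_of_mem_erase hv)
    rw [← Fintype.card_subtype, ← Nat.card_eq_fintype_card]
    exact Nat.card_congr ((MulAction.toPerm g).subtypeEquiv fun y => by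
      rw [MulAction.toPerm_apply, ← hg, cen_map])
  have h2 : ∀ y : X, (D.filter (· ∈ cen C.hA y)).card = Nat.card (cen C.hA x) - 1 := fun y => by
    rw [← C.card_cen x y, Nat.card_eq_fintype_card]
    have h : D.filter (· ∈ cen C.hA y) = (cen C.hA y).toFinset.erase 0 := by
      ext v
      simp [D]
    rw [h, Finset.card_erase_of_mem (by
      rw [Set.mem_toFinset]
      exact transCentres_zero C.hA _), Set.toFinset_card]
  have hswap : ∑ v ∈ D, (Finset.univ.filter fun y : X => v ∈ cen C.hA y).card =
      ∑ y : X, (D.filter (· ∈ cen C.hA y)).card := by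
    simp only [Finset.card_filter]
    exact Finset.sum_comm
  rw [Finset.sum_congr rfl h1, Finset.sum_congr rfl fun y _ => h2 y, Finset.sum_const, Finset.sum_const,
    smul_eq_mul, smul_eq_mul, Finset.card_univ, ← Nat.card_eq_fintype_card] at hswap
  rw [← hswap, Finset.card_erase_of_mem (Finset.mem_univ _), Finset.card_univ, ← Nat.card_eq_fintype_card]

open scoped _root_.Classical in
/-- A subspace kept by a point stabiliser bounds the degree below. -/
theorem subspace_bound [MulAction.IsPretransitive (BilinIsom B) X] {W : Submodule F V}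
    {x : X} (hx : ∀ g : BilinIsom B, g • x = x → ∀ w ∈ W, (g : V ≃ₗ[F] V) w ∈ W) (ha : C.a ∈ W) :
    (C.imgs (C.bar W)).card * (Nat.card V - 1) ≤ Nat.card X * (Nat.card W - 1) := by
  have : Finite V := Module.finite_of_finite F
  have := Fintype.ofFinite V
  let imgW : BilinIsom B → AddSubgroup V := fun g =>
    W.toAddSubgroup.map ((g : V ≃ₗ[F] V) : V ≃ₗ[F] V).toLinearMap.toAddMonoidHom
  have hmem : ∀ (g : BilinIsom B) (v : V), (g : V ≃ₗ[F] V) v ∈ imgW g ↔ v ∈ W := fun g v =>
    AddSubgroup.mem_map_iff_mem (g : V ≃ₗ[F] V).injective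
  have hcard : ∀ g, Nat.card (imgW g) = Nat.card W := fun g =>
    (Nat.card_congr (W.toAddSubgroup.equivMapOfInjective _ (g : V ≃ₗ[F] V).injective).toEquiv).symm
  choose r hr using fun y : X => MulAction.exists_smul_eq (BilinIsom B) x y
  have hwell : ∀ g, imgW (r (g • x)) = imgW g := fun g => by
    have hfix : (g⁻¹ * r (g • x)) • x = x := by rw [mul_smul, hr, inv_smul_smul]
    have hfix' : (g⁻¹ * r (g • x))⁻¹ • x = x := by rw [inv_smul_eq_iff, hfix]
    ext v
    constructor
    · rintro ⟨w, hw, rfl⟩
      refine ⟨((g⁻¹ * r (g • x) : BilinIsom B) : V ≃ₗ[F] V) w, hx _ hfix w hw, ?_⟩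
      show (g : V ≃ₗ[F] V) _ = ((r (g • x) : BilinIsom B) : V ≃ₗ[F] V) w
      rw [BilinIsom.mul_apply', BilinIsom.apply_inv_self]
    · rintro ⟨w, hw, rfl⟩
      refine ⟨(((g⁻¹ * r (g • x))⁻¹ : BilinIsom B) : V ≃ₗ[F] V) w, hx _ hfix' w hw, ?_⟩
      show ((r (g • x) : BilinIsom B) : V ≃ₗ[F] V) _ = (g : V ≃ₗ[F] V) w
      rw [← BilinIsom.mul_apply', mul_inv_rev, inv_inv, mul_inv_cancel_left]
  let S : Finset (AddSubgroup V) := Finset.univ.image fun y : X => imgW (r y)
  have hS : S.card ≤ Nat.card X := by
    rw [Nat.card_eq_fintype_card]; exact Finset.card_image_le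
  have hmemS : ∀ g, imgW g ∈ S := fun g => Finset.mem_image.2 ⟨g • x, Finset.mem_univ _, hwell g⟩
  have hk : ∀ v : V, v ≠ 0 → (C.imgs (C.bar W)).card ≤ (S.filter (v ∈ ·)).card := by
    intro v hv
    obtain ⟨h, hh⟩ := C.exists_to_a hv
    have hhv : ((h⁻¹ : BilinIsom B) : V ≃ₗ[F] V) C.a = v := by rw [← hh]; exact BilinIsom.inv_apply_self h v
    choose g hg using fun P : C.imgs (C.bar W) => C.mem_imgs.1 P.2
    let f : C.imgs (C.bar W) → AddSubgroup V := fun P => imgW (h⁻¹ * (g P : BilinIsom B))
    have hga : ∀ P, ((h⁻¹ * (g P : BilinIsom B) : BilinIsom B) : V ≃ₗ[F] V) C.a = v := fun P => by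
      rw [BilinIsom.mul_apply', (g P).2.1, hhv]
    have hf : Function.Injective f := fun P P' e => by
      refine Subtype.ext ?_
      rw [← hg P, ← hg P']
      have key : ∀ P P', f P = f P' → (C.bar W).map (C.res (g P)) ≤ (C.bar W).map (C.res (g P')) := by
        rintro P P' e u ⟨w, hw, rfl⟩
        have h1 : ((h⁻¹ * (g P : BilinIsom B) : BilinIsom B) : V ≃ₗ[F] V) (w : V) ∈ f P' := e ▸ (hmem _ _).2 hw
        obtain ⟨w', hw', e'⟩ := h1
        change ((h⁻¹ * (g P' : BilinIsom B) : BilinIsom B) : V ≃ₗ[F] V) w' = _ at e'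
        rw [BilinIsom.mul_apply', BilinIsom.mul_apply'] at e'
        have e2 := ((h⁻¹ : BilinIsom B) : V ≃ₗ[F] V).injective e'
        have hwU : w' ∈ C.U := by
          rw [C.mem_U]
          constructor
          · rw [← BilinIsom.map_form (g P' : BilinIsom B) C.a w', (g P').2.1, e2]
            exact (C.L_map_mem (g P) w).1
          · rw [← BilinIsom.map_form (g P' : BilinIsom B) C.b w', (g P').2.2, e2]
            exact (C.L_map_mem (g P) w).2
        exact ⟨⟨w', hwU⟩, hw', Subtype.ext e2⟩
      exact le_antisymm (key _ _ e) (key _ _ e.symm)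
    calc (C.imgs (C.bar W)).card = (Finset.univ.image f).card := by
          rw [Finset.card_image_of_injective _ hf, Finset.card_univ, Fintype.card_coe]
      _ ≤ _ := Finset.card_le_card fun P hP => by
          obtain ⟨P, -, rfl⟩ := Finset.mem_image.1 hP
          exact Finset.mem_filter.2 ⟨hmemS _, by rw [← hga P]; exact (hmem _ _).2 ha⟩
  have h := count_cover S _ hk
  rw [show ∑ P ∈ S, Nat.card P = ∑ P ∈ S, Nat.card W from Finset.sum_congr rfl fun P hP => by
    obtain ⟨y, -, rfl⟩ := Finset.mem_image.1 hP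
    exact hcard (r y), Finset.sum_const, smul_eq_mul] at h
  have h3 : S.card * Nat.card W = S.card * (Nat.card W - 1) + S.card := by
    rw [← Nat.mul_succ, Nat.succ_eq_add_one, Nat.sub_add_cancel Nat.card_pos]
  have h4 := Nat.mul_le_mul_right (Nat.card W - 1) hS
  omega

theorem line_bound (C : Frame B) [MulAction.IsPretransitive (BilinIsom B) X] {b : V} (hb : b ≠ 0) {x : X}
    (hx : ∀ g : BilinIsom B, g • x = x → (g : V ≃ₗ[F] V) b ∈ Submodule.span F ({b} : Set V)) :
    Nat.card V - 1 ≤ Nat.card X * (Nat.card F - 1) := by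
  obtain ⟨g, hg⟩ := C.exists_to_a hb
  have h := C.subspace_bound (W := Submodule.span F ({C.a} : Set V)) (x := g • x) (fun k hk w hw => by
    obtain ⟨c, rfl⟩ := Submodule.mem_span_singleton.1 hw
    have h1 := hx (g⁻¹ * k * g) (by rw [mul_smul, mul_smul, hk, inv_smul_smul])
    obtain ⟨e, he⟩ := Submodule.mem_span_singleton.1 h1
    rw [map_smul]
    refine Submodule.smul_mem _ _ (Submodule.mem_span_singleton.2 ⟨e, ?_⟩)
    have h2 := congrArg (g : V ≃ₗ[F] V) he
    rw [map_smul, hg, BilinIsom.mul_apply', BilinIsom.mul_apply', BilinIsom.apply_inv_self, hg] at h2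
    exact h2) (Submodule.mem_span_singleton_self _)
  have h1 : 1 ≤ (C.imgs (C.bar (Submodule.span F ({C.a} : Set V)))).card :=
    Finset.card_pos.2 ⟨_, C.self_imgs _⟩
  have h2 : Nat.card (Submodule.span F ({C.a} : Set V)) = Nat.card F := by
    rw [Module.natCard_eq_pow_finrank (K := F), finrank_span_singleton C.ha0, pow_one]
  rw [h2] at h
  exact le_trans (Nat.le_mul_of_pos_left _ h1) h

/-- When centres bring their radicals, there are no centres in small degree. -/
theorem no_full [MulAction.IsPretransitive (BilinIsom B) X]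
    (hd : Nat.card X * (Nat.card F - 1) + 1 < Nat.card V)
    (hmove : ∀ x : X, MulAction.stabilizer (BilinIsom B) x ≠ ⊤)
    (hfull : ∀ (v u : V) (x : X), v ∈ cen C.hA x → v ≠ 0 → B v u = 0 → ∀ z, rho C.hA v u z • x = x)
    (x : X) : C.a ∉ cen C.hA x := by
  intro hax
  have hA := C.hA
  by_cases horth : ∀ u ∈ cen hA x, ∀ v ∈ cen hA x, B u v = 0
  · let W : Submodule F V :=
      { carrier := cen hA x
        zero_mem' := transCentres_zero hA _
        add_mem' := fun {v w} hv hw => by
          rcases eq_or_ne v 0 with rfl | hv0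
          · rwa [zero_add]
          by_cases hwv : w ∈ Submodule.span F ({v} : Set V)
          · obtain ⟨c, rfl⟩ := Submodule.mem_span_singleton.1 hwv
            rw [show v + c • v = (1 + c) • v by module]
            exact cen_smul hA hv _
          obtain ⟨p, hp⟩ := exists_hyperbolic_partner C.hB hv0
          obtain ⟨u, hvu, hwu⟩ : ∃ u, B v u = 0 ∧ B w u ≠ 0 := by
            by_contra h
            push Not at h
            refine hwv (Submodule.mem_span_singleton.2 ⟨B w p, (sub_eq_zero.1 (C.hB.1 _ fun s => ?_)).symm⟩)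
            have h1 := h (s - B v s • p) (by simp [hp])
            simp only [map_sub, map_smul, LinearMap.sub_apply, LinearMap.smul_apply, smul_eq_mul] at h1 ⊢
            linear_combination h1
          have hvu' : B v ((B w u)⁻¹ • u) = 0 := by simp [hvu]
          have h1 := cen_stab hA (hfull v _ x hv hv0 hvu' 0) hw
          rw [rho_apply hA hvu', horth w hw v hv] at h1
          simp [hwu] at h1
          rwa [add_comm] at h1
        smul_mem' := fun c v hv => cen_smul hA hv c }
    obtain ⟨hWc, hW2⟩ := C.iso_bound (W := W) horth hax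
    have h := C.subspace_bound (W := W) (x := x) (fun g hg w hw => cen_stab hA hg hw) hax
    set N := (C.imgs (C.bar W)).card with hN
    have hN1 : 1 ≤ N := Finset.card_pos.2 ⟨_, C.self_imgs _⟩
    have : Finite C.U := Module.finite_of_finite F
    have : Finite (C.bar W) := Subtype.finite
    have hkey : Nat.card W - 1 ≤ N * (Nat.card F - 1) := by
      rw [hWc]
      have hq2 : 2 ≤ Nat.card F := Finite.one_lt_card
      rcases eq_or_ne (C.bar W) ⊥ with h0 | h0
      · rw [h0, AddSubgroup.card_bot, mul_one]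
        exact Nat.le_mul_of_pos_left _ hN1
      by_cases hsh : C.Shared (C.bar W)
      · have h1 := C.shared_le hsh
        rw [← hN] at h1
        have hb1 : 1 ≤ Nat.card (C.bar W) := Nat.card_pos
        generalize hb : Nat.card (C.bar W) = b at h1 hW2 hb1 ⊢
        have h2 : 2 * (b + 1) ≤ N := by
          by_contra h'
          push Not at h'
          have h3 : N * b + N ≤ (2 * b + 1) * b + N := by
            exact Nat.add_le_add_right (Nat.mul_le_mul_right _ (by omega)) _
          have h4 : (N : ℕ) + 2 * (b ^ 2 - 1) ≤ N * b := by omega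
          rcases Nat.lt_or_ge b 2 with hb2 | hb2
          · exact h0 (AddSubgroup.eq_bot_of_card_eq _ (by omega))
          have h5 : N * (b - 1) ≤ (2 * b + 1) * (b - 1) := Nat.mul_le_mul_right _ (by omega)
          obtain ⟨c, rfl⟩ : ∃ c, b = c + 2 := ⟨b - 2, by omega⟩
          have h6 : (c + 2) ^ 2 - 1 = (c + 1) * (c + 3) := by
            rw [show (c + 2) ^ 2 = (c + 1) * (c + 3) + 1 by ring, Nat.add_sub_cancel]
          rw [h6] at h4
          rw [show c + 2 - 1 = c + 1 by omega] at h5
          nlinarith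
        refine le_trans (Nat.sub_le _ 1) ?_
        obtain ⟨r, hr⟩ : ∃ r, Nat.card F = r + 2 := ⟨Nat.card F - 2, by omega⟩
        rw [hr, show r + 2 - 1 = r + 1 by omega]
        calc (r + 2) * b ≤ (2 * (b + 1)) * (r + 1) := by nlinarith
          _ ≤ _ := Nat.mul_le_mul_right _ h2
      · obtain ⟨v, hv, hv0⟩ : ∃ v ∈ C.bar W, v ≠ 0 := by
          by_contra h'
          push Not at h'
          exact h0 (eq_bot_iff.2 fun v hv => AddSubgroup.mem_bot.2 (h' v hv))
        have hnt : C.bar W ≠ ⊤ := fun ht => by
          rw [ht, AddSubgroup.card_top, C.card_U, ← pow_mul] at hW2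
          have h9 := (Nat.pow_le_pow_iff_right (show 1 < Nat.card F by omega)).1 hW2
          have := C.hn
          omega
        have : Finite (Submodule.span F ({v} : Set C.U)) := Module.finite_of_finite F
        have : Finite (C.bar W) := Subtype.finite
        have hle : Nat.card (C.bar W) ≤ Nat.card F := by
          refine le_trans (Nat.card_le_card_of_injective
            (fun w : C.bar W => (⟨w.1, C.rigid hsh hnt hv hv0 w.2⟩ : Submodule.span F ({v} : Set C.U)))
            fun a b e => Subtype.ext (congrArg Subtype.val e :)) (le_of_eq ?_)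
          rw [Module.natCard_eq_pow_finrank (K := F), finrank_span_singleton hv0, pow_one]
        have hge : Nat.card F ≤ Nat.card (C.bar W) := by
          refine le_trans (le_of_eq ?_) (Nat.card_le_card_of_injective
            (fun c : F => (⟨c • v, C.mem_bar.2 (W.smul_mem c (C.mem_bar.1 hv))⟩ : C.bar W))
            fun a b e => smul_left_injective F hv0 (congrArg Subtype.val e :))
          rfl
        have heq := le_antisymm hle hge
        have h1 := C.cover_le h0
        rw [← hN, heq] at h1
        rw [heq]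
        have h2 : Nat.card F ^ 2 ≤ Nat.card C.U := by
          rw [C.card_U]; exact Nat.pow_le_pow_right Nat.card_pos (by have := C.hn; omega)
        obtain ⟨r, hr⟩ : ∃ r, Nat.card F = r + 2 := ⟨Nat.card F - 2, by omega⟩
        rw [hr] at h1 h2 ⊢
        rw [show r + 2 - 1 = r + 1 by omega, ← sq]
        rw [show N * (r + 2) = N * (r + 1) + N by ring] at h1
        omega
    have h2 := Nat.mul_le_mul_right (Nat.card V - 1) hkey
    have hW1 : 1 ≤ Nat.card W - 1 := by
      have h1 : 2 ≤ Nat.card F := Finite.one_lt_card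
      have h2 : Nat.card F * 1 ≤ Nat.card F * Nat.card (C.bar W) := Nat.mul_le_mul_left _ Nat.card_pos
      omega
    have h3 : (Nat.card W - 1) * (Nat.card V - 1) ≤ Nat.card X * (Nat.card F - 1) * (Nat.card W - 1) := by
      refine h2.trans ?_
      calc N * (Nat.card F - 1) * (Nat.card V - 1) = N * (Nat.card V - 1) * (Nat.card F - 1) := by ring
        _ ≤ Nat.card X * (Nat.card W - 1) * (Nat.card F - 1) := Nat.mul_le_mul_right _ h
        _ = _ := by ring
    rw [mul_comm (Nat.card W - 1)] at h3
    have := Nat.le_of_mul_le_mul_right h3 (by omega)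
    omega
  · push Not at horth
    obtain ⟨p, hp, r, hr, hpr⟩ := horth
    have hp0 : p ≠ 0 := fun h => hpr (by rw [h, map_zero, LinearMap.zero_apply])
    obtain ⟨s, hs, hps⟩ : ∃ s ∈ cen hA x, B p s = 1 :=
      ⟨(B p r)⁻¹ • r, cen_smul hA hr _, by simp [hpr]⟩
    let D := C.move p s hps
    have h1 : ∀ y : V, B p y = 1 → y ∈ cen hA x := fun y hy => by
      have hu := D.proj_mem y
      have hpu : B p (-(y - B y s • p + B y p • s)) = 0 := by
        have := hu.1
        change B p (y - B y s • p + B y p • s) = 0 at this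
        rw [map_neg, this, neg_zero]
      have h2 := cen_stab hA (hfull p _ x hp hp0 hpu (-B y s)) hs
      have hsp : B s p = -1 := by rw [alt_swap hA p s, hps]
      have hsu : B s (-(y - B y s • p + B y p • s)) = 0 := by
        have := hu.2
        change B s (y - B y s • p + B y p • s) = 0 at this
        rw [map_neg, this, neg_zero]
      rw [rho_apply hA hpu, hsp, hsu, alt_swap hA p y, hy] at h2
      convert h2 using 1
      module
    have h2 : ∀ y : V, B p y ≠ 0 → y ∈ cen hA x := fun y hy => by
      have := cen_smul hA (h1 ((B p y)⁻¹ • y) (by simp [hy])) (B p y)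
      rwa [smul_smul, mul_inv_cancel₀ hy, one_smul] at this
    refine hmove x (eq_top_of_transCentres (hA := hA) C.hB fun y => ?_)
    by_cases hy : B p y = 0
    · rcases eq_or_ne y 0 with rfl | hy0
      · exact transCentres_zero hA _
      obtain ⟨t, -, ht1, ht2⟩ := exists_mem_ne_zero_pair (D := (⊤ : Submodule F V)) (f := B p) (g := B y)
        ⟨s, trivial, by rw [hps]; exact one_ne_zero⟩
        ⟨_, trivial, (exists_hyperbolic_partner C.hB hy0).choose_spec.trans_ne one_ne_zero⟩
      have h3 := cen_add hA (h2 (y + t) (by simp [hy, ht1])) (cen_smul hA (h2 t ht1) (-1))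
        (by simp [hA t, ht2])
      simp at h3
      exact h3
    · exact h2 y hy

end Frame

end Cfsg.Lib.Known.MinIndexSp
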