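import Cfsg.Agent.Known.MinIndexSp.Family

/-!
Sets of transvection centres closed under their own transvections.
-/

set_option autoImplicit false
set_option linter.unusedSectionVars false
set_option linter.unusedSimpArgs false
set_option linter.style.haveILetI false

namespace Cfsg.Lib.Known.MinIndexSp

open Cfsg.Lib.Classical

universe u v

variable {F : Type u} [Field F] [Finite F] {V : Type v} [AddCommGroup V] [Module F V] [FiniteDimensional F V]
  {B : LinearMap.BilinForm F V}

/-- A scalar avoiding three given ones. -/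
theorem exists_scalar (hq : 3 ≤ Nat.card F) (s t : F) : ∃ c : F, c ≠ 0 ∧ c ≠ t ∧ (s = 0 ∨ s = t → c ≠ s) := by
  classical
  have := Fintype.ofFinite F
  obtain ⟨c, hc⟩ : ∃ c, c ∉ ({0, t} : Finset F) := by
    by_contra h
    push Not at h
    have h1 := Finset.card_le_card (show (Finset.univ : Finset F) ⊆ {0, t} from fun c _ => h c)
    rw [Finset.card_univ, ← Nat.card_eq_fintype_card] at h1
    exact absurd (h1.trans Finset.card_le_two) (by omega)
  simp only [Finset.mem_insert, Finset.mem_singleton, not_or] at hc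
  exact ⟨c, hc.1, hc.2, fun h => h.elim (fun h => h ▸ hc.1) fun h => h ▸ hc.2⟩

/-- Two functionals and a proper subspace are avoided together. -/
theorem exists_avoid (hq : 3 ≤ Nat.card F) {D R : Submodule F V} {f g : V →ₗ[F] F} (hR : ¬ D ≤ R)
    (hf : ∃ z ∈ D, f z ≠ 0) (hg : ∃ z ∈ D, g z ≠ 0) : ∃ z ∈ D, f z ≠ 0 ∧ g z ≠ 0 ∧ z ∉ R := by
  obtain ⟨z, hz, hfz, hgz⟩ := exists_mem_ne_zero_pair hf hg
  by_cases hzR : z ∈ R
  swap
  · exact ⟨z, hz, hfz, hgz, hzR⟩
  obtain ⟨w, hw, hwR⟩ := SetLike.not_le_iff_exists.1 hR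
  have hout : ∀ c : F, c ≠ 0 → z + c • w ∉ R := fun c hc h =>
    hwR ((Submodule.smul_mem_iff _ hc).1 ((Submodule.add_mem_iff_right _ hzR).1 h))
  by_cases hfw : f w = 0
  · obtain ⟨c, hc0, hc, -⟩ := exists_scalar hq 0 (-(g z) * (g w)⁻¹)
    refine ⟨z + c • w, D.add_mem hz (D.smul_mem _ hw), by simp [hfw, hfz], fun e => ?_, hout c hc0⟩
    rw [map_add, map_smul, smul_eq_mul] at e
    rcases eq_or_ne (g w) 0 with h0 | h0
    · exact hgz (by simpa [h0] using e)
    · exact hc (by field_simp; linear_combination e)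
  by_cases hgw : g w = 0
  · obtain ⟨c, hc0, hc, -⟩ := exists_scalar hq 0 (-(f z) * (f w)⁻¹)
    refine ⟨z + c • w, D.add_mem hz (D.smul_mem _ hw), fun e => ?_, by simp [hgw, hgz], hout c hc0⟩
    rw [map_add, map_smul, smul_eq_mul] at e
    exact hc (by field_simp; linear_combination e)
  exact ⟨w, hw, hfw, hgw, hwR⟩

variable (hA : B.IsAlt) {P : Set V}

/-- A subspace all whose vectors outside its radical lie in the set. -/
def Good (B : LinearMap.BilinForm F V) (P : Set V) (W : Submodule F V) : Prop :=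
  (∃ u ∈ W, ∃ v ∈ W, B u v ≠ 0) ∧ ∀ x ∈ W, x ∉ B.orthogonal W → x ∈ P

include hA

theorem good_extend (hq : 3 ≤ Nat.card F) (hsm : ∀ v ∈ P, ∀ c : F, c • v ∈ P)
    (hsp : ∀ v ∈ P, ∀ w ∈ P, B v w ≠ 0 → v + w ∈ P) {W : Submodule F V} (hW : Good B P W) {b : V} (hb : b ∈ P)
    (hbo : b ∉ B.orthogonal W) : Good B P (W ⊔ Submodule.span F {b}) := by
  obtain ⟨⟨u, hu, v, hv, huv⟩, hW⟩ := hW
  refine ⟨⟨u, Submodule.mem_sup_left hu, v, Submodule.mem_sup_left hv, huv⟩, fun x hx hxo => ?_⟩
  have hbW : ∃ z ∈ W, B b z ≠ 0 := by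
    by_contra h
    push Not at h
    exact hbo fun z hz => show B z b = 0 from hA.isRefl _ _ (h z hz)
  have hrad : ¬ W ≤ W ⊓ B.orthogonal W := fun h => huv ((h hv).2 u hu)
  -- outside a hyperplane of the line through the new centre
  have main : ∀ y ∈ W, ∀ γ : F, γ ≠ 0 → (∃ z ∈ W, B (y + γ • b) z ≠ 0) → y + γ • b ∈ P := by
    intro y hy γ hγ hz
    have hstep : ∀ y' ∈ W, y' ∉ B.orthogonal W → B y' b ≠ 0 → y' + γ • b ∈ P := fun y' hy' ho hne =>
      hsp _ (hW y' hy' ho) _ (hsm b hb γ) (by simp [hγ, hne])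
    by_cases hyo : y ∈ B.orthogonal W ∨ B y b = 0
    swap
    · push Not at hyo
      exact hstep y hy hyo.1 hyo.2
    obtain ⟨z, hzW, hbz, hxz, hzR⟩ := exists_avoid hq (f := B b) (g := B (y + γ • b)) hrad hbW hz
    have hzo : z ∉ B.orthogonal W := fun h => hzR ⟨hzW, h⟩
    have hzb : B z b ≠ 0 := fun h => hbz (hA.isRefl _ _ h)
    -- the scalar must keep both conditions
    obtain ⟨c, hc0, hc1, hc2⟩ : ∃ c : F, c ≠ 0 ∧ y - c • z ∉ B.orthogonal W ∧ B (y - c • z) b ≠ 0 := by
      rcases hyo with hy0 | hy0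
      · obtain ⟨c, hc0, hc, -⟩ := exists_scalar hq 0 (B y b * (B z b)⁻¹)
        refine ⟨c, hc0, fun h => hzo ((Submodule.smul_mem_iff _ hc0).1 ((Submodule.sub_mem_iff_right _ hy0).1 h)),
          fun h => hc ?_⟩
        simp only [map_sub, map_smul, LinearMap.sub_apply, LinearMap.smul_apply, smul_eq_mul] at h
        field_simp
        linear_combination -h
      · by_cases hbad : ∃ c : F, y - c • z ∈ B.orthogonal W
        · obtain ⟨c', hc'⟩ := hbad
          obtain ⟨c, hc0, hc, -⟩ := exists_scalar hq 0 c'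
          refine ⟨c, hc0, fun h => hzo ?_, by simp [hy0, hc0, hzb]⟩
          have h1 := Submodule.sub_mem _ h hc'
          rw [show y - c • z - (y - c' • z) = (c' - c) • z by module] at h1
          exact (Submodule.smul_mem_iff _ (sub_ne_zero.2 hc.symm)).1 h1
        · push Not at hbad
          exact ⟨1, one_ne_zero, hbad 1, by simp [hy0, hzb]⟩
    have h1 := hstep _ (W.sub_mem hy (W.smul_mem c hzW)) hc1 hc2
    have h2 := hsp _ h1 _ (hsm z (hW z hzW hzo) c) (by
      simp only [map_add, map_sub, map_smul, LinearMap.add_apply, LinearMap.sub_apply, LinearMap.smul_apply,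
        smul_eq_mul, hA z, mul_zero, sub_zero] at hxz ⊢
      exact mul_ne_zero hc0 hxz)
    convert h2 using 1
    module
  obtain ⟨y, hy, w, hw, rfl⟩ := Submodule.mem_sup.1 hx
  obtain ⟨γ, rfl⟩ := Submodule.mem_span_singleton.1 hw
  have hne : (∃ z ∈ W, B (y + γ • b) z ≠ 0) ∨ B (y + γ • b) b ≠ 0 := by
    by_contra h
    push Not at h
    refine hxo fun z hz => show B z (y + γ • b) = 0 from hA.isRefl _ _ ?_
    obtain ⟨z1, hz1, z2, hz2, rfl⟩ := Submodule.mem_sup.1 hz
    obtain ⟨δ, rfl⟩ := Submodule.mem_span_singleton.1 hz2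
    rw [map_add, map_smul, h.1 z1 hz1, h.2, smul_zero, add_zero]
  rcases eq_or_ne γ 0 with rfl | hγ
  · rw [zero_smul, add_zero] at hne ⊢
    by_cases hyo : y ∈ B.orthogonal W
    swap
    · exact hW y hy hyo
    have hyb : B y b ≠ 0 := by
      rcases hne with ⟨z, hz, h⟩ | h
      · exact absurd (hA.isRefl _ _ (hyo z hz)) h
      · exact h
    have h1 := main y hy 1 one_ne_zero (by
      obtain ⟨z, hz, hbz⟩ := hbW
      exact ⟨z, hz, by simp [show B y z = 0 from hA.isRefl _ _ (hyo z hz), hbz]⟩)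
    have h2 := hsp _ h1 _ (hsm b hb (-1)) (by simpa [hA b] using hyb)
    simpa using h2
  · refine main y hy γ hγ ?_
    rcases hne with h | h
    · exact h
    · by_contra h'
      push Not at h'
      obtain ⟨z, hz, hbz⟩ := hbW
      rw [map_add, map_smul, LinearMap.add_apply, LinearMap.smul_apply, hA b, smul_zero, add_zero] at h
      by_cases hyo : y ∈ B.orthogonal W
      · have h3 := h' z hz
        rw [map_add, map_smul, LinearMap.add_apply, LinearMap.smul_apply,
          show B y z = 0 from hA.isRefl _ _ (hyo z hz), zero_add, smul_eq_mul] at h3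
        exact mul_ne_zero hγ hbz h3
      · have h3 := h' y hy
        rw [map_add, map_smul, LinearMap.add_apply, LinearMap.smul_apply, hA y, zero_add, smul_eq_mul,
          alt_swap hA y b, mul_neg, neg_eq_zero] at h3
        exact mul_ne_zero hγ h h3

/-- A closed set containing two nonorthogonal vectors: everything, inside a hyperplane, or small. -/
theorem closed_cases (hB : B.Nondegenerate) (hq : 3 ≤ Nat.card F) (hsm : ∀ v ∈ P, ∀ c : F, c • v ∈ P)
    (hsp : ∀ v ∈ P, ∀ w ∈ P, B v w ≠ 0 → v + w ∈ P) {u v : V} (hu : u ∈ P) (hv : v ∈ P) (huv : B u v ≠ 0) :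
    P = Set.univ ∨
      (∃ b : V, b ≠ 0 ∧ P ⊆ {x | B b x = 0} ∧ ∀ x, B b x = 0 → x ∉ Submodule.span F ({b} : Set V) → x ∈ P) ∨
      Nat.card P * Nat.card F ^ 2 ≤ 2 * Nat.card V := by
  classical
  have : Finite V := Module.finite_of_finite F
  have : Finite (Submodule F V) := Finite.of_injective (fun W : Submodule F V => (W : Set V)) SetLike.coe_injective
  have h0 : Good B P (Submodule.span F {u, v}) := by
    refine ⟨⟨u, Submodule.subset_span (by simp), v, Submodule.subset_span (by simp), huv⟩, fun x hx hxo => ?_⟩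
    obtain ⟨s, t, rfl⟩ := Submodule.mem_span_pair.1 hx
    rcases eq_or_ne s 0 with rfl | hs
    · rw [zero_smul, zero_add]; exact hsm v hv t
    rcases eq_or_ne t 0 with rfl | ht
    · rw [zero_smul, add_zero]; exact hsm u hu s
    exact hsp _ (hsm u hu s) _ (hsm v hv t) (by simp [hs, ht, huv])
  obtain ⟨W, hW, hmax⟩ := (Set.toFinite {W : Submodule F V | Good B P W}).exists_maximal ⟨_, h0⟩
  have hsub : ∀ x ∈ P, x ∈ W ∨ x ∈ B.orthogonal W := fun x hx => by
    by_contra h
    push Not at h
    exact h.1 (hmax (good_extend hA hq hsm hsp hW hx h.2) le_sup_left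
      (Submodule.mem_sup_right (Submodule.mem_span_singleton_self x)))
  obtain ⟨⟨u', hu', v', hv', huv'⟩, hWP⟩ := hW
  have h2 : 2 ≤ Module.finrank F W := by
    by_contra h
    push Not at h
    obtain ⟨⟨e, he⟩, hspan⟩ := finrank_le_one_iff.1 (show Module.finrank F W ≤ 1 by omega)
    obtain ⟨c1, e1⟩ := hspan ⟨u', hu'⟩
    obtain ⟨c2, e2⟩ := hspan ⟨v', hv'⟩
    have e1' : c1 • e = u' := congrArg Subtype.val e1
    have e2' : c2 • e = v' := congrArg Subtype.val e2
    exact huv' (by rw [← e1', ← e2']; simp [hA e])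
  have hdim := LinearMap.BilinForm.finrank_orthogonal hB W
  have hle := Submodule.finrank_le W
  rcases Nat.lt_or_ge (Module.finrank F (B.orthogonal W)) 2 with hk | hk
  · rcases Nat.eq_zero_or_pos (Module.finrank F (B.orthogonal W)) with hk0 | hk0
    · left
      have hbot : B.orthogonal W = ⊥ := Submodule.finrank_eq_zero.1 hk0
      have htop : W = ⊤ := Submodule.eq_top_of_finrank_eq (by omega)
      refine Set.eq_univ_of_forall fun x => ?_
      rcases eq_or_ne x 0 with rfl | hx
      · simpa using hsm u hu 0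
      · exact hWP x (by rw [htop]; trivial) (by rw [hbot, Submodule.mem_bot]; exact hx)
    · right; left
      obtain ⟨⟨b, hb⟩, hb0, hspan⟩ := finrank_eq_one_iff'.1 (show Module.finrank F (B.orthogonal W) = 1 by omega)
      have hline : B.orthogonal W = Submodule.span F {b} := by
        refine le_antisymm (fun x hx => ?_) ((Submodule.span_singleton_le_iff_mem _ _).2 hb)
        obtain ⟨c, hc⟩ := hspan ⟨x, hx⟩
        exact Submodule.mem_span_singleton.2 ⟨c, congrArg Subtype.val hc⟩
      have hWb : ∀ x, x ∈ W ↔ B b x = 0 := fun x => by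
        rw [← LinearMap.BilinForm.orthogonal_orthogonal hB hA.isRefl W, hline]
        refine ⟨fun h => h b (Submodule.mem_span_singleton_self b), fun h z hz => ?_⟩
        obtain ⟨c, rfl⟩ := Submodule.mem_span_singleton.1 hz
        show B (c • b) x = 0
        rw [map_smul, LinearMap.smul_apply, h, smul_zero]
      refine ⟨b, fun h => hb0 (Subtype.ext h), fun x hx => ?_, fun x hx hxb => hWP x ((hWb x).2 hx) (by rwa [hline])⟩
      rcases hsub x hx with h | h
      · exact (hWb x).1 h
      · rw [hline, Submodule.mem_span_singleton] at h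
        obtain ⟨c, rfl⟩ := h
        show B b (c • b) = 0
        rw [map_smul, hA b, smul_zero]
  · right; right
    refine le_trans (Nat.mul_le_mul_right _ ?_)
      (show (Nat.card W + Nat.card (B.orthogonal W)) * Nat.card F ^ 2 ≤ 2 * Nat.card V from ?_)
    · have hP : P ⊆ (W : Set V) ∪ (B.orthogonal W : Set V) := fun x hx => hsub x hx
      rw [Nat.card_coe_set_eq]
      refine (Set.ncard_le_ncard hP (Set.toFinite _)).trans ((Set.ncard_union_le _ _).trans (le_of_eq ?_))
      rw [← Nat.card_coe_set_eq, ← Nat.card_coe_set_eq]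
      rfl
    · rw [Module.natCard_eq_pow_finrank (K := F) (V := W), Module.natCard_eq_pow_finrank (K := F) (V := V),
        Module.natCard_eq_pow_finrank (K := F) (V := B.orthogonal W), add_mul, ← pow_add, ← pow_add, two_mul]
      exact Nat.add_le_add (Nat.pow_le_pow_right Nat.card_pos (by omega))
        (Nat.pow_le_pow_right Nat.card_pos (by omega))

end Cfsg.Lib.Known.MinIndexSp
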