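import Cfsg.Agent.Known.MinIndexSp.EvenParts

/-!
Characteristic two: every radical has full image in every point stabiliser.
-/

set_option autoImplicit false
set_option linter.unusedSectionVars false
set_option linter.unusedSimpArgs false
set_option linter.style.haveILetI false

namespace Cfsg.Lib.Known.MinIndexSp

open Cfsg.Lib.Classical

universe u v w

variable {F : Type u} [Field F] [Finite F] [CharP F 2] {V : Type v} [AddCommGroup V] [Module F V]
  [FiniteDimensional F V] {B : LinearMap.BilinForm F V} {X : Type w} [MulAction (BilinIsom B) X] [Fintype X]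

theorem add_self_V (F : Type*) [Field F] [CharP F 2] {V : Type*} [AddCommGroup V] [Module F V] (v : V) : v + v = 0 := by rw [← two_smul F, CharTwo.two_eq_zero, zero_smul]

/-- The symmetric element on an isotropic plane. -/
def sym2 (hA : B.IsAlt) (a w : V) (p t r : F) : BilinIsom B := rho hA a (t • w) p * sympT hA w r

theorem sym2_apply (hA : B.IsAlt) {a w : V} (h : B a w = 0) (p t r : F) (x : V) :
    ((sym2 hA a w p t r : BilinIsom B) : V ≃ₗ[F] V) x =
      x + (p * B x a + t * B x w) • a + (t * B x a + r * B x w) • w := by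
  rw [sym2, BilinIsom.mul_apply', sympT_apply, rho_apply hA (by simp [h])]
  simp only [map_add, map_smul, LinearMap.add_apply, LinearMap.smul_apply, hA w, alt_zero hA h, smul_eq_mul,
    mul_zero, add_zero]
  module

theorem sym2_add (hA : B.IsAlt) {a w : V} (h : B a w = 0) (p t r p' t' r' : F) :
    sym2 hA a w p t r * sym2 hA a w p' t' r' = sym2 hA a w (p + p') (t + t') (r + r') :=
  BilinIsom.ext' fun x => by
    rw [BilinIsom.mul_apply', sym2_apply hA h p' t' r' x, sym2_apply hA h, sym2_apply hA h]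
    simp only [map_add, map_smul, LinearMap.add_apply, LinearMap.smul_apply, hA a, hA w, h, alt_zero hA h,
      smul_eq_mul, mul_zero, add_zero]
    module

theorem sym2_t (hA : B.IsAlt) {a w : V} (p : F) : sym2 hA a w p 0 0 = sympT hA a p := by
  rw [sym2, zero_smul, rho_zero, sympT_zero, mul_one]

/-- The identities behind the vanishing of a symmetric relation. -/
theorem plane_zero (hA : B.IsAlt) (hq : 4 ≤ Nat.card F) {a w : V} (haw : B a w = 0) {x : X}
    (hbot : ∀ v : V, v ≠ 0 → Z1 hA v x = ⊥) (ha : a ≠ 0) {p r g : F}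
    (h1 : ∀ s : F, rho hA a (s • w) (s ^ 2 * p) • x = x) (h2 : ∀ s : F, rho hA w (s • a) (s ^ 2 * r) • x = x)
    (h3 : ∀ s : F, rho hA (a + w) (s • w) (s ^ 2 * g) • x = x) : p = 0 := by
  have hwa := alt_zero hA haw
  have s1 : ∀ s : F, sym2 hA a w (s ^ 2 * p) s 0 • x = x := fun s => by
    rw [sym2, sympT_zero, mul_one]; exact h1 s
  have s2 : ∀ s : F, sym2 hA a w 0 s (s ^ 2 * r) • x = x := fun s => by
    have e : sym2 hA a w 0 s (s ^ 2 * r) = rho hA w (s • a) (s ^ 2 * r) := BilinIsom.ext' fun y => by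
      rw [sym2_apply hA haw, rho_apply hA (by simp [hwa])]
      simp only [map_smul, smul_eq_mul]
      module
    rw [e]; exact h2 s
  have s3 : ∀ s : F, sym2 hA a w (s ^ 2 * g) (s + s ^ 2 * g) (s ^ 2 * g) • x = x := fun s => by
    have e : sym2 hA a w (s ^ 2 * g) (s + s ^ 2 * g) (s ^ 2 * g) = rho hA (a + w) (s • w) (s ^ 2 * g) :=
      BilinIsom.ext' fun y => by
        rw [sym2_apply hA haw, rho_apply hA (by simp [haw, hA w])]
        simp only [map_smul, map_add, smul_eq_mul]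
        linear_combination (norm := module) (-1 : F) • add_self_V F ((s * B y w) • w)
    rw [e]; exact h3 s
  have hsum : ∀ {p1 t1 r1 p2 t2 r2 : F}, sym2 hA a w p1 t1 r1 • x = x → sym2 hA a w p2 t2 r2 • x = x →
      sym2 hA a w (p1 + p2) (t1 + t2) (r1 + r2) • x = x := fun e e' => by
    rw [← sym2_add hA haw, mul_smul, e', e]
  have hzero : ∀ {p1 : F}, sym2 hA a w p1 0 0 • x = x → p1 = 0 := fun {p1} e => by
    rw [sym2_t] at e
    have h := mem_Z1.2 e
    rw [hbot a ha, AddSubgroup.mem_bot] at h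
    exact h
  by_contra hp
  have hr : r ≠ 0 := by
    intro hr
    have e := hsum (s1 1) (s2 1)
    rw [hr, mul_zero, add_zero, add_zero, CharTwo.add_self_eq_zero, one_pow, one_mul] at e
    exact hp (hzero e)
  have key : ∀ s : F, s ≠ 0 → g + p + s ^ 2 * g ^ 2 * p + g * p / r = 0 := by
    intro s hs
    obtain ⟨t, ht⟩ := exists_sqrt' (s ^ 2 * g / r)
    have e := hsum (hsum (s3 s) (s1 (s + s ^ 2 * g))) (hsum (s1 t) (s2 t))
    rw [CharTwo.add_self_eq_zero, CharTwo.add_self_eq_zero, add_zero, add_zero, add_zero, zero_add,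
      show t ^ 2 * r = s ^ 2 * g by rw [ht, div_mul_cancel₀ _ hr], CharTwo.add_self_eq_zero] at e
    have e' := hzero e
    refine (mul_eq_zero.1 (show s ^ 2 * (g + p + s ^ 2 * g ^ 2 * p + g * p / r) = 0 from ?_)).resolve_left
      (pow_ne_zero 2 hs)
    rw [ht, CharTwo.add_sq] at e'
    linear_combination e'
  obtain ⟨l, hl0, hl1⟩ : ∃ l : F, l ≠ 0 ∧ l ≠ 1 := by
    obtain ⟨_, l, -, h0, h1, -⟩ := exists_odd_torus hq
    exact ⟨l, h0, h1⟩
  have e1 := key 1 one_ne_zero
  have e2 := key l hl0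
  have hg : g = 0 := by
    have h : (l ^ 2 - 1) * (g ^ 2 * p) = 0 := by linear_combination e2 - e1
    have hne : l ^ 2 - 1 ≠ 0 := fun h => hl1 (CharTwo.sq_injective (show l ^ 2 = 1 ^ 2 by
      rw [one_pow]; exact sub_eq_zero.1 h))
    exact pow_eq_zero_iff two_ne_zero |>.1 ((mul_eq_zero.1 ((mul_eq_zero.1 h).resolve_left hne)).resolve_right hp)
  rw [hg] at e1
  exact hp (by simpa using e1)

namespace Frame

variable (C : Frame B)

theorem exists_rho_fix (hK : ∀ x : X, C.Kb x = ⊤) {v u : V} (hv : v ≠ 0) (hvu : B v u = 0) (x : X) :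
    ∃ z, rho C.hA v u z • x = x := by
  obtain ⟨g, hg⟩ := C.exists_to_a hv
  set y := (g : V ≃ₗ[F] V) u with hy
  have hya : B y C.a = 0 := by rw [← hg, BilinIsom.map_form, alt_zero C.hA hvu]
  have hdec : y = ((⟨_, C.proj_mem y⟩ : C.U) : V) + B y C.b • C.a := by
    show y = y - B y C.b • C.a + B y C.a • C.b + B y C.b • C.a
    rw [hya, zero_smul, add_zero, sub_add_cancel]
  obtain ⟨z, hz⟩ := C.mem_Kb.1 (show (⟨_, C.proj_mem y⟩ : C.U) ∈ C.Kb (g • x) by rw [hK]; trivial)
  refine ⟨z, ?_⟩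
  rw [← fix_conj (X := X) g, rho_conj, hg, ← hy, hdec, rho_shift C.hA (C.au _), CharTwo.two_eq_zero, zero_mul,
    add_zero]
  exact hz

/-- A transvection fixing a point yields a two-dimensional part of the radical. -/
theorem lift_part (hK : ∀ x : X, C.Kb x = ⊤) {a p : V} (ha : a ≠ 0) (hap : B a p = 0)
    (hind : p ∉ Submodule.span F ({a} : Set V)) {x : X} {e : F} (he : e ∈ Z1 C.hA p x) (σ : F) :
    rho C.hA a ((e * σ) • p) (e * σ ^ 2) • x = x := by
  have hA := C.hA
  obtain ⟨v, hva, hvp⟩ : ∃ v, B a v = 0 ∧ B v p = σ := by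
    obtain ⟨v, h1, h2⟩ : ∃ v, B a v = 0 ∧ B v p ≠ 0 := by
      by_contra h
      push Not at h
      obtain ⟨b, hb⟩ := exists_hyperbolic_partner C.hB ha
      refine hind (Submodule.mem_span_singleton.2 ⟨B p b, (sub_eq_zero.1 (C.hB.1 _ fun s => ?_)).symm⟩)
      have h1 := h (s - B a s • b) (by simp [hb])
      rw [alt_swap hA p (s - B a s • b), CharTwo.neg_eq] at h1
      simp only [map_sub, map_smul, LinearMap.sub_apply, LinearMap.smul_apply, smul_eq_mul] at h1 ⊢
      linear_combination h1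
    exact ⟨(σ * (B v p)⁻¹) • v, by simp [h1], by simp [h2]⟩
  obtain ⟨z, hz⟩ := C.exists_rho_fix hK ha hva x
  have h1 := (fix_conj (X := X) (sympT hA p e) (rho hA a v z)).2 hz
  rw [mem_Z1.1 he, rho_conj, sympT_apply, sympT_apply, hvp, hap, mul_zero, zero_smul, add_zero] at h1
  have h2 : (rho hA a (v + (e * σ) • p) z * rho hA a v z) • x = x := by rw [mul_smul, hz, h1]
  rw [rho_mul hA (by simp [hva, hap]) hva, map_add, map_smul, hA v, hvp, smul_eq_mul, zero_add,
    CharTwo.add_self_eq_zero, zero_add, show v + (e * σ) • p + v = (e * σ) • p by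
      rw [add_right_comm, add_self_V F, zero_add], show e * σ * σ = e * σ ^ 2 by ring] at h2
  exact h2

theorem center_trivial (hq : 4 ≤ Nat.card F) (hK : ∀ x : X, C.Kb x = ⊤)
    (hnc : ∀ x : X, Z1 C.hA C.a x ≠ ⊤) (x : X) : Z1 C.hA C.a x = ⊥ := by
  have hA := C.hA
  have hind : ∀ {a w : V} (c d : F), w ∉ Submodule.span F ({a} : Set V) → d ≠ 0 →
      c • a + d • w ∉ Submodule.span F ({a} : Set V) := fun c d hw hd h =>
    hw ((Submodule.smul_mem_iff _ hd).1 ((Submodule.add_mem_iff_right _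
      (Submodule.smul_mem _ c (Submodule.mem_span_singleton_self _))).1 h))
  -- a transvection spreads along the isotropic line
  have spread : ∀ {a w : V}, a ≠ 0 → B a w = 0 → w ∉ Submodule.span F ({a} : Set V) → ∀ {e : F},
      e ∈ Z1 hA w x → e ≠ 0 → ∀ γ : F, e ∈ Z1 hA (w + γ • a) x := by
    intro a w ha haw hwa e he he0 γ
    have h := C.lift_part hK ha haw hwa he γ
    have heq : sympT hA (w + γ • a) e = rho hA a ((e * γ) • w) (e * γ ^ 2) * sympT hA w e :=
      BilinIsom.ext' fun y => by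
        rw [BilinIsom.mul_apply', sympT_apply, sympT_apply, rho_apply hA (by simp [haw])]
        simp only [map_add, map_smul, LinearMap.add_apply, LinearMap.smul_apply, hA w, alt_zero hA haw, smul_eq_mul,
          mul_zero, add_zero]
        module
    rw [mem_Z1, heq, mul_smul, mem_Z1.1 he, h]
  have unique : ∀ {e e' : F} {p : V}, B C.a p = 0 → p ∉ Submodule.span F ({C.a} : Set V) →
      e ∈ Z1 hA p x → e' ∈ Z1 hA p x → e ≠ 0 → e' ≠ 0 → e = e' := by
    intro e e' p hap hp he he' he0 he0'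
    by_contra hne
    refine hnc x (eq_top_iff.2 fun z _ => ?_)
    have hfac : e + e ^ 2 / e' ≠ 0 := fun h => hne (by
      rw [← sub_eq_zero, sub_eq_add_neg, CharTwo.neg_eq]
      have h2 : e * (e' + e) = 0 := by field_simp at h; linear_combination h
      rw [add_comm]; exact (mul_eq_zero.1 h2).resolve_left he0)
    obtain ⟨σ, hσ⟩ := exists_sqrt' (z / (e + e ^ 2 / e'))
    have h1 := C.lift_part hK C.ha0 hap hp he σ
    have h2 := C.lift_part hK C.ha0 hap hp he' (e * σ / e')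
    rw [show e' * (e * σ / e') = e * σ by field_simp] at h2
    have h3 : (rho hA C.a ((e * σ) • p) (e * σ ^ 2) * rho hA C.a ((e * σ) • p) (e' * (e * σ / e') ^ 2)) • x = x := by
      rw [mul_smul, h2, h1]
    rw [rho_mul hA (by simp [hap]) (by simp [hap]), add_self_V F, hA _, add_zero, rho_zero] at h3
    rw [mem_Z1]
    convert h3 using 3
    rw [show z = σ ^ 2 * (e + e ^ 2 / e') by rw [hσ, div_mul_cancel₀ _ hfac]]
    field_simp
  by_contra hne
  obtain ⟨c, hc, hc0⟩ : ∃ c ∈ Z1 hA C.a x, c ≠ 0 := by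
    by_contra h
    push Not at h
    exact hne (eq_bot_iff.2 fun c hc => AddSubgroup.mem_bot.2 (h c hc))
  obtain ⟨w, hw0⟩ : ∃ w : C.U, w ≠ 0 := by
    have : Nontrivial C.U := Module.nontrivial_of_finrank_pos (R := F) (by rw [C.finrank_U]; have := C.hn; omega)
    exact exists_ne 0
  have hwa : (w : V) ∉ Submodule.span F ({C.a} : Set V) := fun h => hw0 (by
    obtain ⟨t, ht⟩ := Submodule.mem_span_singleton.1 h
    refine C.nd_U fun u => ?_
    rw [← ht]
    simp [C.au u])
  have haw : C.a ∉ Submodule.span F ({(w : V)} : Set V) := fun h => by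
    obtain ⟨t, ht⟩ := Submodule.mem_span_singleton.1 h
    have := congrArg (fun v => B v C.b) ht
    simp [C.ub, C.hab] at this
  have hwne : (w : V) ≠ 0 := fun h => hw0 (Subtype.ext h)
  have hp : c ∈ Z1 hA (C.a + (w : V)) x := by
    have := spread hwne (C.ua w) haw hc hc0 1
    rwa [one_smul] at this
  set p := C.a + (w : V) with hpdef
  have hap : B C.a p = 0 := by rw [hpdef, map_add, hA C.a, C.au, add_zero]
  have hpa : p ∉ Submodule.span F ({C.a} : Set V) := by
    have := hind 1 1 hwa one_ne_zero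
    rwa [one_smul, one_smul] at this
  have hpp : C.a ∉ Submodule.span F ({p} : Set V) := fun h => by
    obtain ⟨t, ht⟩ := Submodule.mem_span_singleton.1 h
    rcases eq_or_ne t 0 with rfl | ht0
    · exact C.ha0 (by rw [← ht, zero_smul])
    · exact hpa (Submodule.mem_span_singleton.2 ⟨t⁻¹, by rw [← ht, smul_smul, inv_mul_cancel₀ ht0, one_smul]⟩)
  have hp0 : p ≠ 0 := fun h => hpa (by rw [h]; exact zero_mem _)
  obtain ⟨δ, hδ0, hδ1⟩ : ∃ l : F, l ≠ 0 ∧ l ≠ 1 := by
    obtain ⟨_, l, -, h0, h1, -⟩ := exists_odd_torus hq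
    exact ⟨l, h0, h1⟩
  have ha := spread C.ha0 hap hpa hp hc0 δ⁻¹
  have hb := spread hp0 (alt_zero hA hap) hpp hc hc0 δ
  rw [show C.a + δ • p = δ • (p + δ⁻¹ • C.a) by rw [smul_add δ p, smul_inv_smul₀ hδ0, add_comm]] at hb
  rw [mem_Z1, sympT_smul, ← mem_Z1] at hb
  have h1 : B C.a (p + δ⁻¹ • C.a) = 0 := by simp [hap, hA C.a]
  have h2 : p + δ⁻¹ • C.a ∉ Submodule.span F ({C.a} : Set V) := by
    have := hind δ⁻¹ 1 hpa one_ne_zero
    rwa [one_smul, add_comm] at this
  have h3 := unique h1 h2 ha hb hc0 (mul_ne_zero (pow_ne_zero 2 hδ0) hc0)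
  have h4 : δ ^ 2 = 1 := mul_right_cancel₀ hc0 (by rw [one_mul]; exact h3.symm)
  exact hδ1 (CharTwo.sq_injective (show δ ^ 2 = 1 ^ 2 by rw [one_pow]; exact h4))

open scoped _root_.Classical in
/-- Two different forms on one orbit: too many orbits. -/
theorem nonlinear_false [Fintype C.U] {ψ : AddChar F ℂ} (hψ : ψ ≠ 1) (hsq : ∀ s, ψ (s ^ 2 + s) = 1)
    (hker : ∀ x, ψ x = 1 → ∃ s, s ^ 2 + s = x) (hval : ∀ x, ψ x = 1 ∨ ψ x = -1) (hq : 4 ≤ Nat.card F)
    (hd : Nat.card X * (Nat.card F - 1) + 1 < Nat.card V) {x : X} (hK : C.Kb x = ⊤)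
    (hbot : Z1 C.hA C.a x = ⊥) {c1 c2 : F} {Q1 Q2 : C.U → F} (h1 : C.HasForm ψ x c1 Q1)
    (h2 : C.HasForm ψ x c2 Q2) (hne : Q1 ≠ Q2) : False := by
  obtain ⟨u, hu⟩ := C.exists_diff hψ hsq h1.2.1 h2.2.1
  have hu0 : u ≠ 0 := fun h => hne (by
    rw [hu, h]
    funext v
    simp [shiftQ])
  set W := Finset.univ.filter fun v : C.U => ψ (Q1 v) = 1 with hW
  set A := Finset.univ.filter fun r : C.U => Q1 r ≠ 0 ∧ B (u : V) (r : V) ≠ 0 with hA'
  let rfl' : C.U → C.U := fun r => C.res (C.tU r (Q1 r)⁻¹) u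
  let R := insert u (A.image rfl')
  have hR : ∀ t ∈ R, ∃ g : C.L, (∀ v, Q1 (C.res g v) = Q1 v) ∧ (∀ v, Q2 (C.res g v) = C.shiftQ Q1 t v) := by
    intro t ht
    rcases Finset.mem_insert.1 ht with rfl | ht
    · refine ⟨1, fun v => ?_, fun v => ?_⟩
      · rfl
      · rw [hu]; rfl
    · obtain ⟨r, hr, rfl⟩ := Finset.mem_image.1 ht
      obtain ⟨hr1, -⟩ := (Finset.mem_filter.1 hr).2
      have hfix : ∀ v, Q1 (C.res (C.tU r (Q1 r)⁻¹) v) = Q1 v := fun v => by
        rw [h1.2.1.tU, show (Q1 r)⁻¹ ^ 2 * Q1 r + (Q1 r)⁻¹ = 0 by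
          field_simp; rw [mul_zero]; exact CharTwo.add_self_eq_zero (1 : F), zero_mul, add_zero]
      refine ⟨C.tU r (Q1 r)⁻¹, hfix, fun v => ?_⟩
      rw [hu]
      show Q1 _ + B ((C.res (C.tU r (Q1 r)⁻¹) v : C.U) : V) (u : V) ^ 2 = Q1 v + B (v : V) (rfl' r : V) ^ 2
      rw [hfix]
      congr 2
      simp only [rfl', C.res_tU, Submodule.coe_add, Submodule.coe_smul, map_add, map_smul, LinearMap.add_apply,
        LinearMap.smul_apply, smul_eq_mul]
      rw [alt_swap C.hA (r : V) (u : V), alt_swap C.hA (u : V) (r : V), neg_neg]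
      ring_nf
      exact CharTwo.sub_eq_add (R := F) _ _
  have hW' : ∀ w ∈ W, ∃ g : C.L, (fun v => Q1 (C.res g v)) = C.shiftQ Q1 w := fun w hw =>
    C.exists_shift hker h1.2.1 (Finset.mem_filter.1 hw).2
  choose gR hgR1 hgR2 using hR
  choose gW hgW using hW'
  let f : ↥(W ×ˢ R) → X := fun p =>
    (((gR p.1.2 (Finset.mem_product.1 p.2).2 * gW p.1.1 (Finset.mem_product.1 p.2).1)⁻¹ : C.L) : BilinIsom B) • x
  have hform1 : ∀ p, C.HasForm ψ (f p) c1 (C.shiftQ Q1 p.1.1) := fun p => by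
    have h := C.form_L h1 (gR p.1.2 (Finset.mem_product.1 p.2).2 * gW p.1.1 (Finset.mem_product.1 p.2).1)⁻¹
    rw [inv_inv] at h
    convert h using 1
    funext v
    rw [C.res_mul, hgR1 p.1.2 (Finset.mem_product.1 p.2).2, ← congrFun (hgW p.1.1 (Finset.mem_product.1 p.2).1) v]
  have hform2 : ∀ p, C.HasForm ψ (f p) c2
      (fun v => C.shiftQ Q1 p.1.2 (C.res (gW p.1.1 (Finset.mem_product.1 p.2).1) v)) := fun p => by
    have h := C.form_L h2 (gR p.1.2 (Finset.mem_product.1 p.2).2 * gW p.1.1 (Finset.mem_product.1 p.2).1)⁻¹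
    rw [inv_inv] at h
    convert h using 1
    funext v
    rw [C.res_mul, hgR2 p.1.2 (Finset.mem_product.1 p.2).2]
  have hKf : ∀ p, C.Kb (f p) = ⊤ := fun p => by
    show C.Kb (((_ : C.L) : BilinIsom B) • x) = ⊤
    rw [C.Kb_L, hK]
    exact eq_top_iff.2 fun v _ => ⟨_, trivial, C.res_inv' _ v⟩
  have hinj : ∀ p p', f p' ∈ C.orb (f p) → p = p' := fun p p' h => by
    have e1 := C.shiftQ_inj (C.form_unique hψ (hKf p') (C.form_orb h (hform1 p)) (hform1 p'))
    have e2 := C.form_unique hψ (hKf p') (C.form_orb h (hform2 p)) (hform2 p')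
    obtain ⟨⟨w, t⟩, hp⟩ := p
    obtain ⟨⟨w', t'⟩, hp'⟩ := p'
    dsimp only at e1 e2
    subst e1
    have e3 : C.shiftQ Q1 t = C.shiftQ Q1 t' := funext fun v => by
      have := congrFun e2 (C.res (gW w (Finset.mem_product.1 hp).1)⁻¹ v)
      simpa [C.res_inv'] using this
    exact Subtype.ext (Prod.ext rfl (C.shiftQ_inj e3))
  have hcard : ∀ p, Nat.card (C.orb (f p)) = Nat.card F := fun p => by
    have h := C.orb_card_full (hKf p)
    rwa [show Z1 C.hA C.a (f p) = ⊥ from (C.Z1_L _ x).trans hbot, AddSubgroup.card_bot, mul_one] at h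
  have hfi : Function.Injective f := fun p p' e => hinj p p' (by rw [e]; exact C.self_orb _)
  have hsum := C.sum_le (Finset.univ.image f) (fun a ha b hb hab => by
    obtain ⟨p, -, rfl⟩ := Finset.mem_image.1 ha
    obtain ⟨p', -, rfl⟩ := Finset.mem_image.1 hb
    rw [hinj p p' hab])
  rw [Finset.sum_image fun a _ b _ e => hfi e, Finset.sum_congr rfl fun p _ => hcard p, Finset.sum_const,
    Finset.card_univ, Fintype.card_coe, Finset.card_product, smul_eq_mul] at hsum
  -- the count of reflections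
  have hud : u ∉ A.image rfl' := fun h => by
    obtain ⟨r, hr, e⟩ := Finset.mem_image.1 h
    obtain ⟨hr1, hr2⟩ := (Finset.mem_filter.1 hr).2
    simp only [rfl', C.res_tU, add_eq_left] at e
    rcases smul_eq_zero.1 e with e | e
    · exact mul_ne_zero (inv_ne_zero hr1) hr2 e
    · exact hr2 (by rw [e, ZeroMemClass.coe_zero, map_zero])
  have hAR : A.card ≤ (Nat.card F - 1) * (A.image rfl').card := by
    rw [mul_comm, Finset.card_eq_sum_card_image rfl' A]
    refine (Finset.sum_le_card_nsmul _ _ _ fun t ht => ?_).trans (le_of_eq (smul_eq_mul _ _))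
    obtain ⟨r, hr, rfl⟩ := Finset.mem_image.1 ht
    obtain ⟨hr1, hr2⟩ := (Finset.mem_filter.1 hr).2
    have := Fintype.ofFinite F
    calc (A.filter fun s => rfl' s = rfl' r).card
        ≤ ((Finset.univ.erase (0 : F)).image fun c => c • r).card := by
          refine Finset.card_le_card fun s hs => ?_
          obtain ⟨hs, e⟩ := Finset.mem_filter.1 hs
          obtain ⟨hs1, hs2⟩ := (Finset.mem_filter.1 hs).2
          simp only [rfl', C.res_tU, add_right_inj] at e
          refine Finset.mem_image.2 ⟨((Q1 s)⁻¹ * B (u : V) (s : V))⁻¹ * ((Q1 r)⁻¹ * B (u : V) (r : V)),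
            Finset.mem_erase.2 ⟨mul_ne_zero (inv_ne_zero (mul_ne_zero (inv_ne_zero hs1) hs2))
              (mul_ne_zero (inv_ne_zero hr1) hr2), Finset.mem_univ _⟩, ?_⟩
          rw [mul_smul, ← e, inv_smul_smul₀ (mul_ne_zero (inv_ne_zero hs1) hs2)]
      _ ≤ Nat.card F - 1 := by
          refine Finset.card_image_le.trans ?_
          rw [Finset.card_erase_of_mem (Finset.mem_univ _), Finset.card_univ, Nat.card_eq_fintype_card]
  set Zs := Finset.univ.filter fun v : C.U => Q1 v = 0 with hZs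
  set K0 := Finset.univ.filter fun v : C.U => B (u : V) (v : V) = 0 with hK0
  have hsplit : Nat.card C.U + 1 ≤ A.card + Zs.card + K0.card := by
    have h0 : (Finset.univ : Finset C.U) = A ∪ (Zs ∪ K0) := by
      refine (Finset.eq_univ_iff_forall.2 fun v => ?_).symm
      simp only [A, Zs, K0, Finset.mem_union, Finset.mem_filter, Finset.mem_univ, true_and]
      tauto
    have h3 : 1 ≤ (Zs ∩ K0).card := Finset.card_pos.2 ⟨0, by simp [Zs, K0, h1.2.1.zero C]⟩
    rw [Nat.card_eq_fintype_card, ← Finset.card_univ, h0]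
    have h4 := Finset.card_union_add_card_inter Zs K0
    have h5 := Finset.card_union_le A (Zs ∪ K0)
    omega
  have hK0card : Nat.card F * K0.card = Nat.card C.U := by
    let φ : C.U →ₗ[F] F := (B (u : V)).comp C.U.subtype
    have hsurj : Function.Surjective φ := LinearMap.surjective_of_ne_zero fun h =>
      hu0 (C.nd_U fun w => LinearMap.congr_fun h w)
    have h := φ.toAddMonoidHom.ker.index_mul_card
    rw [AddSubgroup.index_ker, AddMonoidHom.range_eq_top.2 hsurj, AddSubgroup.card_top] at h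
    rw [← h, hK0, ← Fintype.card_subtype, ← Nat.card_eq_fintype_card (α := {v : C.U // B (u : V) (v : V) = 0})]
    rfl
  obtain ⟨hsum2, hS⟩ := C.plus_count hψ hval h1.2.1
  have hz := C.zero_count hψ h1.2.1
  rw [hS, ← hW, ← hZs] at hz
  have hzZ : (Nat.card F : ℤ) * Zs.card = Nat.card C.U + ((Nat.card F : ℤ) - 1) * (2 * (W.card : ℤ) - Nat.card C.U) := by
    exact_mod_cast hz
  obtain ⟨-, hpm⟩ := C.plus_ge hψ hval h1.2.1 W.card (by
    rw [hW, Nat.card_eq_fintype_card, Fintype.card_subtype])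
  have hRc : R.card = (A.image rfl').card + 1 := Finset.card_insert_of_notMem hud
  rw [C.card_V] at hd
  have hUg : (Nat.card C.U : ℤ) = ((Nat.card F : ℤ) ^ C.n) ^ 2 := by
    rw [C.card_U, ← pow_mul, mul_comm C.n 2]; push_cast; rfl
  set q := Nat.card F with hqdef
  set N := Nat.card C.U with hN
  have hgq : (q : ℤ) ≤ (q : ℤ) ^ C.n := le_self_pow₀ (by exact_mod_cast (show 1 ≤ q by omega)) (by have := C.hn; omega)
  have hA2 : (A.card : ℤ) ≤ ((q : ℤ) - 1) * ((R.card : ℤ) - 1) := by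
    have h : (A.card : ℤ) ≤ ((q - 1 : ℕ) : ℤ) * ((A.image rfl').card : ℤ) := by exact_mod_cast hAR
    rw [Nat.cast_sub (by omega), Nat.cast_one] at h
    rw [hRc]; push_cast; linarith
  have hB2 : (N : ℤ) + 1 ≤ A.card + Zs.card + K0.card := by exact_mod_cast hsplit
  have hK2 : (q : ℤ) * K0.card = N := by exact_mod_cast hK0card
  have hX : (W.card : ℤ) * R.card * q ≤ Nat.card X := by exact_mod_cast hsum
  have hd2 : (Nat.card X : ℤ) * ((q : ℤ) - 1) + 1 < (q : ℤ) ^ 2 * N := by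
    have h : ((Nat.card X * (q - 1) + 1 : ℕ) : ℤ) < ((q ^ 2 * N : ℕ) : ℤ) := by exact_mod_cast hd
    push_cast [Nat.cast_sub (show 1 ≤ q by omega)] at h
    linarith
  generalize hg : (q : ℤ) ^ C.n = g at hgq hUg hpm
  have hRlow : (N : ℤ) * (q - 2) - (q - 1) * (2 * (W.card : ℤ) - N) + q ^ 2 ≤ q * (q - 1) * R.card := by
    nlinarith
  have hmain : (W.card : ℤ) * ((N : ℤ) * (q - 2) - (q - 1) * (2 * (W.card : ℤ) - N) + q ^ 2) < q ^ 2 * N := by
    have h6 := mul_le_mul_of_nonneg_left hRlow (Int.natCast_nonneg W.card)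
    have h7 := mul_le_mul_of_nonneg_right hX (show (0 : ℤ) ≤ q - 1 by linarith)
    linarith
  have hq4 : (4 : ℤ) ≤ q := by exact_mod_cast hq
  obtain ⟨b, hb, hqb⟩ : ∃ b : ℤ, 0 ≤ b ∧ (q : ℤ) = 4 + b := ⟨q - 4, by linarith, by ring⟩
  obtain ⟨c, hc, hgc⟩ : ∃ c : ℤ, 0 ≤ c ∧ g = 4 + b + c := ⟨g - q, by linarith, by linarith⟩
  rw [hUg] at hmain hpm
  rw [hqb] at hmain
  rcases hpm with e | e
  · have hW2 : 2 * (W.card : ℤ) = g ^ 2 + g := by linarith
    have e2 : (g ^ 2 + g) * (g ^ 2 * (4 + b - 2) - (4 + b - 1) * g + (4 + b) ^ 2) < 2 * ((4 + b) ^ 2 * g ^ 2) := by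
      rw [show 2 * (W.card : ℤ) - g ^ 2 = g by linarith] at hmain
      calc _ = 2 * ((W.card : ℤ) * _) := by rw [← mul_assoc, hW2]
        _ < _ := by linarith [mul_lt_mul_of_pos_left hmain (two_pos : (0 : ℤ) < 2)]
    rw [hgc] at e2
    nlinarith [mul_nonneg hb hc, mul_nonneg (mul_nonneg hb hb) hc, mul_nonneg (mul_nonneg hb hc) hc,
      pow_nonneg hb 3, pow_nonneg hc 3, pow_nonneg hb 4, pow_nonneg hc 4, mul_nonneg (pow_nonneg hc 4) hb,
      mul_nonneg (pow_nonneg hb 4) hc, pow_nonneg hb 5, mul_nonneg (pow_nonneg hc 3) (pow_nonneg hb 2),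
      mul_nonneg (pow_nonneg hb 3) (pow_nonneg hc 2), mul_nonneg (pow_nonneg hc 3) hb,
      mul_nonneg (pow_nonneg hb 3) hc, mul_nonneg (pow_nonneg hb 2) (pow_nonneg hc 2), pow_nonneg hb 2, pow_nonneg hc 2]
  · have hW2 : 2 * (W.card : ℤ) = g ^ 2 - g := by linarith
    have e2 : (g ^ 2 - g) * (g ^ 2 * (4 + b - 2) + (4 + b - 1) * g + (4 + b) ^ 2) < 2 * ((4 + b) ^ 2 * g ^ 2) := by
      rw [show 2 * (W.card : ℤ) - g ^ 2 = -g by linarith] at hmain
      calc _ = 2 * ((W.card : ℤ) * _) := by rw [← mul_assoc, hW2]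
        _ < _ := by linarith [mul_lt_mul_of_pos_left hmain (two_pos : (0 : ℤ) < 2)]
    rw [hgc] at e2
    nlinarith [mul_nonneg hb hc, mul_nonneg (mul_nonneg hb hb) hc, mul_nonneg (mul_nonneg hb hc) hc,
      pow_nonneg hb 3, pow_nonneg hc 3, pow_nonneg hb 4, pow_nonneg hc 4, mul_nonneg (pow_nonneg hc 4) hb,
      mul_nonneg (pow_nonneg hb 4) hc, pow_nonneg hb 5, mul_nonneg (pow_nonneg hc 3) (pow_nonneg hb 2),
      mul_nonneg (pow_nonneg hb 3) (pow_nonneg hc 2), mul_nonneg (pow_nonneg hc 3) hb,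
      mul_nonneg (pow_nonneg hb 3) hc, mul_nonneg (pow_nonneg hb 2) (pow_nonneg hc 2), pow_nonneg hb 2, pow_nonneg hc 2]

/-- All images full: impossible. -/
theorem all_full_false [Nonempty X] (hq : 4 ≤ Nat.card F) (hd : Nat.card X * (Nat.card F - 1) + 1 < Nat.card V)
    (hK : ∀ x : X, C.Kb x = ⊤) (hnc : ∀ x : X, Z1 C.hA C.a x ≠ ⊤) : False := by
  have : Finite C.U := Module.finite_of_finite F
  have := Fintype.ofFinite C.U
  have hA := C.hA
  have hbot := C.center_trivial hq hK hnc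
  obtain ⟨ψ, hψ, hsq, hker, hval⟩ := exists_artin_schreier (F := F)
  have hlin : ∀ (x : X) (v u : V), v ≠ 0 → B v u = 0 → ∃ Q, ∀ s : F, rho hA v (s • u) (s ^ 2 * Q) • x = x := by
    intro x v u hv hvu
    obtain ⟨g, hg⟩ := C.exists_to_a hv
    set y := (g : V ≃ₗ[F] V) u with hy
    have hya : B y C.a = 0 := by rw [← hg, BilinIsom.map_form, alt_zero hA hvu]
    have hdec : y = ((⟨_, C.proj_mem y⟩ : C.U) : V) + B y C.b • C.a := by
      show y = y - B y C.b • C.a + B y C.a • C.b + B y C.b • C.a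
      rw [hya, zero_smul, add_zero, sub_add_cancel]
    have hex : ∀ c : F, c ≠ 0 → ∃ Q, C.HasForm ψ (g • x) c Q := fun c hc =>
      C.exists_form hψ (hK _) hc fun z hz => by
        rw [hbot, AddSubgroup.mem_bot] at hz
        rw [hz, mul_zero, AddChar.map_zero_eq_one]
    obtain ⟨Q, hQ⟩ := hex 1 one_ne_zero
    have hall : ∀ c : F, c ≠ 0 → C.HasForm ψ (g • x) c Q := fun c hc => by
      obtain ⟨Q', hQ'⟩ := hex c hc
      have : Q = Q' := by
        by_contra hne
        exact C.nonlinear_false hψ hsq hker hval hq hd (hK _) (hbot _) hQ hQ' hne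
      exact this ▸ hQ'
    set u0 : C.U := ⟨_, C.proj_mem y⟩ with hu0
    refine ⟨Q u0, fun s => ?_⟩
    obtain ⟨z, hz⟩ := C.mem_Kb.1 (show s • u0 ∈ C.Kb (g • x) by rw [hK]; trivial)
    have hzQ : z = s ^ 2 * Q u0 := by
      have e : z + s ^ 2 * Q u0 = 0 := by
        refine eq_of_squares hψ (c := 1) one_ne_zero fun t => ?_
        rw [one_mul, one_mul, mul_zero, AddChar.map_zero_eq_one]
        rcases eq_or_ne t 0 with rfl | ht
        · simp
        · rw [← hQ.2.1.smul]
          exact (hall _ (pow_ne_zero 2 ht)).2.2 _ z hz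
      rw [← CharTwo.neg_eq (s ^ 2 * Q u0)]
      exact eq_neg_of_add_eq_zero_left e
    rw [← fix_conj (X := X) g, rho_conj, hg, map_smul, ← hy, hdec, smul_add, smul_smul s (B y C.b) C.a,
      rho_shift hA (by rw [map_smul, C.au, smul_zero]), CharTwo.two_eq_zero (R := F), zero_mul, add_zero, ← hzQ]
    exact hz
  obtain ⟨x⟩ := ‹Nonempty X›
  obtain ⟨v, hv⟩ : ∃ v : C.U, v ≠ 0 := by
    have : Nontrivial C.U := Module.nontrivial_of_finrank_pos (R := F) (by rw [C.finrank_U]; have := C.hn; omega)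
    exact exists_ne 0
  obtain ⟨u, hu⟩ := C.exists_pair hv
  have hflat : ∀ w : C.U, rho hA C.a (w : V) 0 • x = x := by
    intro w
    rcases eq_or_ne w 0 with rfl | hw
    · rw [ZeroMemClass.coe_zero, rho_zero, sympT_zero, one_smul]
    · have hw' : (w : V) ≠ 0 := fun h => hw (Subtype.ext h)
      obtain ⟨p, hp⟩ := hlin x C.a w C.ha0 (C.au w)
      obtain ⟨r, hr⟩ := hlin x w C.a hw' (C.ua w)
      obtain ⟨t, ht⟩ := hlin x (C.a + (w : V)) w (fun h => by
        have := congrArg (fun y => B y C.b) h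
        simp [C.hab, C.ub] at this) (by rw [map_add, LinearMap.add_apply, C.au, hA (w : V), add_zero])
      have h0 := plane_zero hA hq (C.au w) (fun y hy => Z1_all_bot hA C hbot hy x) C.ha0 hp hr ht
      have := hp 1
      rwa [h0, mul_zero, one_smul] at this
  have h : (rho hA C.a (u : V) 0 * rho hA C.a (v : V) 0) • x = x := by rw [mul_smul, hflat, hflat]
  rw [rho_mul hA (C.au u) (C.au v), zero_add, zero_add, alt_swap hA (u : V) (v : V), hu, CharTwo.neg_eq] at h
  have h' := hflat (u + v)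
  rw [show ((u + v : C.U) : V) = (u : V) + (v : V) from rfl] at h'
  have h9 : (rho hA C.a ((u : V) + v) 0 * rho hA C.a ((u : V) + v) 1) • x = x := by rw [mul_smul, h, h']
  rw [rho_mul hA (by simp [C.au]) (by simp [C.au]), hA _, add_self_V F, rho_zero, zero_add, add_zero] at h9
  have h10 : (1 : F) ∈ Z1 hA C.a x := mem_Z1.2 h9
  rw [hbot, AddSubgroup.mem_bot] at h10
  exact one_ne_zero h10

end Frame

end Cfsg.Lib.Known.MinIndexSp
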