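import Cfsg.Agent.Known.MinIndexSp.EvenFull

/-!
Characteristic two, at least four scalars: the degree of a nontrivial transitive action is at least the number of
points.
-/

set_option autoImplicit false
set_option linter.unusedSectionVars false
set_option linter.unusedSimpArgs false
set_option linter.style.haveILetI false

namespace Cfsg.Lib.Known.MinIndexSp

open Cfsg.Lib.Classical

universe u v w

variable {F : Type u} [Field F] [Finite F] [CharP F 2] {V : Type v} [AddCommGroup V] [Module F V]
  [FiniteDimensional F V] {B : LinearMap.BilinForm F V} {X : Type w} [MulAction (BilinIsom B) X] [Fintype X]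

namespace Frame

variable (C : Frame B)

open scoped _root_.Classical in
/-- The full orbits make up almost half of a regular one. -/
theorem full_half {y : X} (hK : C.Kb y = ⊤) (hZ : Z1 C.hA C.a y ≠ ⊤) :
    Nat.card F * Nat.card C.U ≤ 2 * Nat.card {t : X // C.Kb t = ⊤} + Nat.card F * Nat.card F ^ C.n := by
  have : Finite C.U := Module.finite_of_finite F
  have := Fintype.ofFinite C.U
  obtain ⟨ψ, hψ, -, hker, hval⟩ := exists_artin_schreier (F := F)
  obtain ⟨c, hc, hc0⟩ : ∃ c ∈ (mulPairing ψ hψ).perp (Z1 C.hA C.a y), c ≠ 0 := by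
    by_contra h
    push Not at h
    exact (mulPairing ψ hψ).perp_ne_bot hZ (eq_bot_iff.2 fun c hc => AddSubgroup.mem_bot.2 (h c hc))
  obtain ⟨Q, hQ⟩ := C.exists_form hψ hK hc0 fun z hz => hc z hz
  have h1 := C.full_le hψ hker hK hQ
  obtain ⟨h2, -⟩ := C.plus_ge hψ hval hQ.2.1 (Finset.univ.filter fun v : C.U => ψ (Q v) = 1).card (by
    rw [Nat.card_eq_fintype_card, Fintype.card_subtype])
  have h3 := Nat.mul_le_mul_left (Nat.card F) h2
  rw [mul_add, ← mul_assoc, mul_comm (Nat.card F) 2, mul_assoc] at h3
  omega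

include C in
open scoped _root_.Classical in
/-- The bound for fields of even order at least four. -/
theorem even_bound [MulAction.IsPretransitive (BilinIsom B) X] [Nonempty X] (hq : 4 ≤ Nat.card F)
    (hd : Nat.card X * (Nat.card F - 1) + 1 < Nat.card V)
    (hmove : ∀ x : X, MulAction.stabilizer (BilinIsom B) x ≠ ⊤) : False := by
  have : Finite C.U := Module.finite_of_finite F
  have := Fintype.ofFinite C.U
  obtain ⟨ψ, hψ, -, -, -⟩ := exists_artin_schreier (F := F)
  have hnc : ∀ x : X, Z1 C.hA C.a x ≠ ⊤ := fun x h =>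
    C.no_centres (le_trans (by norm_num) hq) hd hmove x (Z1_top.1 h)
  by_cases hA : ∀ x : X, C.Kb x = ⊤
  · exact C.all_full_false hq hd hA hnc
  push Not at hA
  obtain ⟨x, hx⟩ := hA
  have hsemi : ∀ y : X, C.Kb y ≠ ⊤ → Z1 C.hA C.a y = ⊥ := fun y hy => by
    by_contra h
    exact C.center_part_false hd h hy (hnc y) hψ
  have hperp : ∀ y : X, C.Kb y ≠ ⊤ →
      Nat.card (C.orb y) = Nat.card F * Nat.card ((C.pairing ψ hψ).perp (C.Kb y)) := fun y hy => by
    have h := C.orb_perp ψ hψ y
    rwa [hsemi y hy, AddSubgroup.card_bot, mul_one] at h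
  have hfam : ∀ y : X, C.Kb y ≠ ⊤ →
      Nat.card F * Nat.card C.U ≤ (C.imgs (C.Kb y)).card * Nat.card (C.orb y) := fun y hy => by
    have hc := C.cover_le ((C.pairing ψ hψ).perp_ne_bot hy)
    rw [C.perp_imgs ψ hψ] at hc
    have hM : 1 ≤ (C.imgs (C.Kb y)).card := Finset.card_pos.2 ⟨_, C.self_imgs _⟩
    have hN : 1 ≤ Nat.card C.U := Nat.card_pos
    rw [hperp y hy, mul_left_comm]
    exact Nat.mul_le_mul_left _ (by omega)
  have hN : Nat.card F ^ 2 ≤ Nat.card C.U := by
    rw [C.card_U]; exact Nat.pow_le_pow_right Nat.card_pos (by have := C.hn; omega)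
  have hgN : Nat.card C.U = Nat.card F ^ C.n * Nat.card F ^ C.n := by rw [← pow_add, ← two_mul, ← C.card_U]
  have hgq : Nat.card F ≤ Nat.card F ^ C.n := Nat.le_self_pow (by have := C.hn; omega) _
  have hfull := fun y (hy : C.Kb y = ⊤) => C.full_half hy (hnc y)
  have hN1 : 1 ≤ Nat.card C.U := Nat.card_pos
  rw [C.card_V] at hd
  set q := Nat.card F with hqdef
  set N := Nat.card C.U with hNdef
  obtain ⟨r, hr⟩ : ∃ r, q = r + 4 := ⟨q - 4, by omega⟩
  rcases eq_or_ne (C.Kb x) ⊥ with hK | hK
  · have hi : Nat.card (C.orb x) = q * N := by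
      have h := C.orb_card x
      rwa [hsemi x hx, hK, AddSubgroup.card_bot, AddSubgroup.card_bot, mul_one, mul_one] at h
    have huniv : ∀ y : X, y ∈ C.orb x := by
      intro y
      by_contra hy
      by_cases hKy : C.Kb y = ⊤
      · have h1 := C.other_add hx
        have h2 := hfull y hKy
        have hM : 1 ≤ (C.imgs (C.Kb x)).card := Finset.card_pos.2 ⟨_, C.self_imgs _⟩
        have h3 : q * N + Nat.card {t : X // C.Kb t = ⊤} ≤ Nat.card X :=
          le_trans (Nat.add_le_add_right (by rw [hi]; exact Nat.le_mul_of_pos_left _ hM) _) h1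
        generalize hg : q ^ C.n = g at hgN hgq h2
        rw [hr] at h2 h3 hd hgq
        rw [hgN] at h2 h3 hd
        rw [show r + 4 - 1 = r + 3 by omega] at hd
        obtain ⟨s, hs⟩ : ∃ s, g = r + 4 + s := Nat.exists_eq_add_of_le hgq
        have h4 : 3 * ((r + 4) * (g * g)) ≤ 2 * Nat.card X + (r + 4) * g := by omega
        have h5 := Nat.mul_le_mul_right (r + 3) h4
        have h6 : r + 3 ≤ g * (r + 1) := le_trans (show r + 3 ≤ 4 * (r + 1) by omega)
          (Nat.mul_le_mul_right _ (show 4 ≤ g by omega))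
        have h7 := Nat.mul_le_mul_left ((r + 4) * g) h6
        nlinarith
      · have h3 : 2 * (q * N) ≤ Nat.card X := by
          rcases eq_or_ne (C.Kb y) ⊥ with hKyb | hKyb
          · have hiy : Nat.card (C.orb y) = q * N := by
              have h := C.orb_card y
              rwa [hsemi y hKy, hKyb, AddSubgroup.card_bot, AddSubgroup.card_bot, mul_one, mul_one] at h
            have hxy : x ≠ y := fun e => hy (e ▸ C.self_orb x)
            refine le_trans ?_ (C.sum_le {x, y} ?_)
            · rw [Finset.sum_pair hxy, hi, hiy, two_mul]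
            · intro a ha b hb hab
              simp only [Finset.mem_insert, Finset.mem_singleton] at ha hb
              rcases ha with rfl | rfl <;> rcases hb with rfl | rfl
              · rfl
              · exact absurd hab hy
              · exact absurd (show a ∈ C.orb b by rw [C.orb_eq hab]; exact C.self_orb _) hy
              · rfl
          · have h1 := C.family_add_le (x := y) (y := x) (Or.inr (by
              rw [hK]
              intro h
              obtain ⟨g, hg⟩ := C.mem_imgs.1 h
              exact hKyb ((AddSubgroup.map_eq_bot_iff_of_injective _ (C.res_inj g)).1 hg)))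
            have h2 := hfam y hKy
            omega
        rw [hr, show r + 4 - 1 = r + 3 by omega] at hd
        rw [hr] at h3
        have := Nat.mul_le_mul_right (r + 3) h3
        nlinarith
    have hbot : ∀ y : X, Z1 C.hA C.a y = ⊥ := fun y => (C.inv_orb (huniv y)).1.trans (hsemi x hx)
    obtain ⟨w, hw⟩ : ∃ w : C.U, w ≠ 0 := by
      have : Nontrivial C.U := Module.nontrivial_of_finrank_pos (R := F) (by rw [C.finrank_U]; have := C.hn; omega)
      exact exists_ne 0
    exact C.even_finish hbot hq (fun _ _ _ _ => huniv _) hw fun _ _ => huniv _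
  · set P := (C.pairing ψ hψ).perp (C.Kb x) with hPdef
    have hPb : P ≠ ⊥ := (C.pairing ψ hψ).perp_ne_bot hx
    have hPt : P ≠ ⊤ := (C.pairing ψ hψ).perp_ne_top hK
    have hcov := C.cover_le hPb
    have hMeq := C.perp_imgs ψ hψ (C.Kb x)
    rw [← hPdef] at hMeq
    have hi : Nat.card (C.orb x) = q * Nat.card P := hperp x hx
    have hfx := C.family_le x
    have hM1 : 1 ≤ (C.imgs (C.Kb x)).card := Finset.card_pos.2 ⟨_, C.self_imgs _⟩
    set M := (C.imgs (C.Kb x)).card with hMdef
    have hns : ¬ C.Shared P := by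
      intro hsh
      have hs := C.shared_le hsh
      rw [hMeq] at hs
      obtain ⟨N', hN'⟩ : ∃ N', N = N' + 1 := ⟨N - 1, by omega⟩
      have h1 : q * (2 * N' + 1) ≤ Nat.card X := by
        refine le_trans ?_ hfx
        rw [hi, mul_left_comm]
        exact Nat.mul_le_mul_left _ (by omega)
      rw [hr] at h1 hN
      rw [hr, hN', show r + 4 - 1 = r + 3 by omega] at hd
      rw [hN'] at hN
      have := Nat.mul_le_mul_right (r + 3) h1
      nlinarith
    obtain ⟨v, hv, hv0⟩ : ∃ v ∈ P, v ≠ 0 := by
      by_contra h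
      push Not at h
      exact hPb (eq_bot_iff.2 fun v hv => AddSubgroup.mem_bot.2 (h v hv))
    set Lv := (Submodule.span F ({v} : Set C.U)).toAddSubgroup with hLv
    have hle : P ≤ Lv := fun u hu => C.rigid hns hPt hv hv0 hu
    have hcardL : Nat.card Lv = q := by
      show Nat.card (Submodule.span F ({v} : Set C.U)) = q
      rw [Module.natCard_eq_pow_finrank (K := F), finrank_span_singleton hv0, pow_one]
    rw [hMeq] at hcov
    rw [← hNdef] at hcov
    have hPL : P = Lv := by
      by_contra hne
      have hlt : P.addSubgroupOf Lv ≠ ⊤ := fun h => hne (le_antisymm hle (AddSubgroup.addSubgroupOf_eq_top.1 h))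
      have h2 := two_card_le hlt
      rw [Nat.card_congr (AddSubgroup.addSubgroupOfEquivOfLe hle).toEquiv, hcardL] at h2
      have h3 : q * (N - 1 + M) ≤ Nat.card X := by
        refine le_trans ?_ hfx
        rw [hi, mul_left_comm]
        exact Nat.mul_le_mul_left _ hcov
      have h4 : 2 * (M * Nat.card P) ≤ M * q := by rw [mul_left_comm]; exact Nat.mul_le_mul_left _ h2
      obtain ⟨N', hN'⟩ : ∃ N', N = N' + 1 := ⟨N - 1, by omega⟩
      rw [hN', show N' + 1 - 1 = N' by omega] at h3 hcov
      have h5 : 2 * N' + 2 * M ≤ M * q := by omega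
      rw [hr] at h3 h5 hN
      rw [hr, hN', show r + 4 - 1 = r + 3 by omega] at hd
      rw [hN'] at hN
      have h6 := Nat.mul_le_mul_right (r + 2) h3
      have h7 := Nat.mul_le_mul_left (r + 4) h5
      nlinarith
    have hk : Nat.card P = q := by rw [hPL, hcardL]
    rw [hk] at hcov hi
    have hbig : ∀ e, M * Nat.card (C.orb x) + e ≤ Nat.card X → 2 * q ≤ e → False := fun e he he2 => by
      rw [hi] at he
      obtain ⟨N', hN'⟩ : ∃ N', N = N' + 1 := ⟨N - 1, by omega⟩
      rw [hN', show N' + 1 - 1 = N' by omega] at hcov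
      rw [hr] at hcov he he2
      rw [hr, hN', show r + 4 - 1 = r + 3 by omega] at hd
      have h5 := Nat.mul_le_mul_left (r + 4) hcov
      have h6 : (M * ((r + 4) * (r + 4)) + 2 * (r + 4)) * (r + 3) ≤ Nat.card X * (r + 3) :=
        Nat.mul_le_mul_right _ (by omega)
      nlinarith
    have hnf : ∀ y : X, C.Kb y ≠ ⊤ := fun y hy => by
      refine hbig _ (C.other_add hx) ?_
      have h1 := hfull y hy
      generalize hg : q ^ C.n = g at hgN hgq h1
      rw [hgN] at h1
      have h2 : q * (g + 4) ≤ q * (g * g) := Nat.mul_le_mul_left q (by nlinarith)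
      rw [mul_add] at h2
      omega
    have hbot : ∀ y : X, Z1 C.hA C.a y = ⊥ := fun y => hsemi y (hnf y)
    have hkey : ∀ y : X, (C.pairing ψ hψ).perp (C.Kb y) = P → y ∈ C.orb x := fun y hy => by
      by_contra h
      refine hbig _ (C.family_two ((hbot y).trans (hbot x).symm) ((C.pairing ψ hψ).perp_inj hy) h) ?_
      rw [hi]
      exact Nat.mul_le_mul_right _ (by omega)
    refine C.even_finish hbot hq (fun l hl y hy => hkey _ ?_) hv0 fun y hy => hkey _ ?_
    · have hKy := (C.inv_orb hy).2
      ext t
      have h1 : t ∈ (C.pairing ψ hψ).perp (C.Kb (C.dil l hl 1 (one_mul 1) • y)) ↔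
          l • t ∈ (C.pairing ψ hψ).perp (C.Kb x) := by
        constructor
        · intro h k hk
          have h2 := h _ ((C.Kb_dil l hl 1 (one_mul 1) y).2 (hKy.symm ▸ hk))
          rw [C.pairing_apply] at h2 ⊢
          simpa [mul_comm] using h2
        · intro h k hk
          have hk' : k = (l * 1) • (l⁻¹ • k) := by rw [mul_one, smul_inv_smul₀ hl]
          rw [hk'] at hk
          have h2 := h _ (hKy ▸ (C.Kb_dil l hl 1 (one_mul 1) y).1 hk)
          rw [C.pairing_apply] at h2 ⊢
          simpa [hl] using h2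
      rw [h1, ← hPdef, hPL]
      exact Submodule.smul_mem_iff _ hl
    · rw [C.Kb_L, (C.inv_orb hy).2, C.perp_res ψ hψ, ← hPdef]
      have hfix : ∀ t ∈ P, C.res (C.tU v 1) t = t := fun t ht => by
        obtain ⟨c, rfl⟩ := Submodule.mem_span_singleton.1 (hle ht)
        rw [C.res_tU]
        simp [C.hA (v : V)]
      ext t
      constructor
      · rintro ⟨s, hs, rfl⟩
        rw [hfix s hs]
        exact hs
      · exact fun ht => ⟨t, ht, hfix t ht⟩

end Frame

end Cfsg.Lib.Known.MinIndexSp
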