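import Cfsg.Agent.Known.MinIndexSp.Forms

/-!
Characteristic two: the kinds of orbits that are too large, and the end of the semiregular cases.
-/

set_option autoImplicit false
set_option linter.unusedSectionVars false
set_option linter.unusedSimpArgs false
set_option linter.style.haveILetI false

namespace Cfsg.Lib.Known.MinIndexSp

open Cfsg.Lib.Classical

universe u v w

variable {F : Type u} [Field F] [Finite F] [CharP F 2] {V : Type v} [AddCommGroup V] [Module F V]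
  [FiniteDimensional F V] {B : LinearMap.BilinForm F V} {X : Type w} [MulAction (BilinIsom B) X] [Fintype X]

/-- An odd prime order unit. -/
theorem exists_odd_torus (hq : 4 ≤ Nat.card F) :
    ∃ (r : ℕ) (l : F), r.Prime ∧ l ≠ 0 ∧ l ≠ 1 ∧ l ^ r = 1 ∧ ¬ r ∣ Nat.card F := by
  have := Fintype.ofFinite F
  have hr : (Nat.card F - 1).minFac.Prime := Nat.minFac_prime (by omega)
  have hdvd : (Nat.card F - 1).minFac ∣ Nat.card F - 1 := Nat.minFac_dvd _
  have : Fact (Nat.card F - 1).minFac.Prime := ⟨hr⟩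
  obtain ⟨u, hu⟩ := exists_prime_orderOf_dvd_card' (G := Fˣ) (Nat.card F - 1).minFac (by rwa [Nat.card_units])
  refine ⟨_, (u : F), hr, u.ne_zero, fun h => ?_, ?_, fun h => ?_⟩
  · have h1 : u = 1 := Units.ext h
    rw [h1, orderOf_one] at hu
    exact hr.one_lt.ne hu
  · rw [← Units.val_pow_eq_pow_val, ← hu, pow_orderOf_eq_one, Units.val_one]
  · have h1 := Nat.dvd_sub h hdvd
    rw [show Nat.card F - (Nat.card F - 1) = 1 by omega] at h1
    exact hr.one_lt.ne' (Nat.dvd_one.1 h1)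

namespace Frame

variable (C : Frame B)

theorem plus_ge {ψ : AddChar F ℂ} (hψ : ψ ≠ 1) (hval : ∀ x, ψ x = 1 ∨ ψ x = -1) [Fintype C.U]
    {Q : C.U → F} (hQ : C.IsQ Q) (p : ℕ) (hp : p = Nat.card {v : C.U // ψ (Q v) = 1}) :
    Nat.card C.U ≤ 2 * p + Nat.card F ^ C.n ∧
      ((2 * (p : ℤ) - Nat.card C.U = (Nat.card F : ℤ) ^ C.n) ∨ (2 * (p : ℤ) - Nat.card C.U = -(Nat.card F : ℤ) ^ C.n)) := by
  classical
  obtain ⟨h, -⟩ := C.plus_count hψ hval hQ
  rw [← Fintype.card_subtype, ← Nat.card_eq_fintype_card, ← hp] at h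
  have hN : (Nat.card C.U : ℤ) = ((Nat.card F : ℤ) ^ C.n) ^ 2 := by
    rw [C.card_U, ← pow_mul, mul_comm C.n 2]; push_cast; rfl
  have h' := sq_eq_sq_iff_eq_or_eq_neg.1 (h.trans hN)
  refine ⟨?_, h'⟩
  have : (Nat.card C.U : ℤ) ≤ 2 * (p : ℤ) + (Nat.card F : ℤ) ^ C.n := by
    have := pow_nonneg (Int.natCast_nonneg (Nat.card F)) C.n
    rcases h' with e | e <;> linarith
  exact_mod_cast this

theorem orb_card_dil (l : F) (hl : l ≠ 0) (x : X) :
    Nat.card (C.orb (C.dil l hl 1 (one_mul 1) • x)) = Nat.card (C.orb x) := by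
  refine (Nat.card_congr ((MulAction.toPerm (C.dil l hl 1 (one_mul 1))).subtypeEquiv fun y => ?_)).symm
  show y ∈ C.orb x ↔ C.dil l hl 1 (one_mul 1) • y ∈ C.orb (C.dil l hl 1 (one_mul 1) • x)
  set h := C.dil l hl 1 (one_mul 1) with hh
  have hconj : ∀ (u : C.U) (z : F),
      rho C.hA C.a ((l • u : C.U) : V) (l ^ 2 * z) • h • x = h • rho C.hA C.a (u : V) z • x := fun u z => by
    rw [smul_smul, smul_smul, ← inv_mul_cancel_right (h * rho C.hA C.a (u : V) z) h, hh, C.dil_rho, mul_one]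
  constructor
  · intro hy
    obtain ⟨u, z, rfl⟩ := C.mem_orb.1 hy
    exact C.mem_orb.2 ⟨_, _, hconj u z⟩
  · intro hy
    obtain ⟨u, z, e⟩ := C.mem_orb.1 hy
    refine C.mem_orb.2 ⟨l⁻¹ • u, (l ^ 2)⁻¹ * z, MulAction.injective h ?_⟩
    show h • _ = h • y
    rw [← hconj, smul_inv_smul₀ hl u, ← mul_assoc, mul_inv_cancel₀ (pow_ne_zero 2 hl), one_mul]
    exact e

open scoped _root_.Classical in
/-- Proper image with part of the centre: too many orbits. -/
theorem center_part_false (hd : Nat.card X * (Nat.card F - 1) + 1 < Nat.card V)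
    {x : X} (hZb : Z1 C.hA C.a x ≠ ⊥) (hK : C.Kb x ≠ ⊤) (hZt : Z1 C.hA C.a x ≠ ⊤)
    {ψ : AddChar F ℂ} (hψ : ψ ≠ 1) : False := by
  have : Finite C.U := Module.finite_of_finite F
  have := Fintype.ofFinite F
  set Z := Z1 C.hA C.a x with hZ
  obtain ⟨w, hw⟩ : ∃ w, w ∉ Z := by
    by_contra h
    push Not at h
    exact hZt (eq_top_iff.2 fun w _ => h w)
  let M : Finset F := Finset.univ.erase 0
  let img : F → AddSubgroup F := fun m => Z.map (AddMonoidHom.mulLeft m)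
  let ZS := M.image img
  have hmem : ∀ {m t : F}, m ≠ 0 → (m * t ∈ img m ↔ t ∈ Z) := fun {m t} hm =>
    AddSubgroup.mem_map_iff_mem (fun a b e => mul_left_cancel₀ hm e)
  have hfib : ∀ P ∈ ZS, ((M.filter fun m => img m = P).card + 1) * Nat.card Z ≤ Nat.card F := by
    intro P hP
    obtain ⟨m0, hm0, rfl⟩ := Finset.mem_image.1 hP
    have hm00 := Finset.ne_of_mem_erase hm0
    rw [← Z.index_mul_card]
    refine Nat.mul_le_mul_right _ ?_
    rw [AddSubgroup.index, ← Finset.card_insert_of_notMem (a := (0 : F)) (fun h =>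
      Finset.ne_of_mem_erase (Finset.mem_filter.1 h).1 rfl), ← Fintype.card_coe, ← Nat.card_eq_fintype_card]
    let S := insert (0 : F) (M.filter fun m => img m = img m0)
    have hS : ∀ m ∈ S, ∀ t ∈ Z, m * m0⁻¹ * t ∈ Z := fun m hm t ht => by
      rcases Finset.mem_insert.1 hm with rfl | hm
      · rw [zero_mul, zero_mul]; exact zero_mem _
      · obtain ⟨hm, he⟩ := Finset.mem_filter.1 hm
        have h1 : m * t ∈ img m0 := he ▸ (hmem (Finset.ne_of_mem_erase hm)).2 ht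
        obtain ⟨t', ht', e⟩ := h1
        rw [AddMonoidHom.coe_mulLeft] at e
        rwa [show m * m0⁻¹ * t = t' by field_simp; linear_combination -e]
    refine Nat.card_le_card_of_injective (fun m : S => (QuotientAddGroup.mk (m.1 * m0⁻¹ * w) : F ⧸ Z))
      fun m m' e => Subtype.ext ?_
    by_contra hne
    have hd0 : (m.1 - m'.1) * m0⁻¹ ≠ 0 := mul_ne_zero (sub_ne_zero.2 hne) (inv_ne_zero hm00)
    have hmaps : ∀ t : Z, (m.1 - m'.1) * m0⁻¹ * t ∈ Z := fun t => by
      rw [sub_mul, sub_mul]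
      exact Z.sub_mem (hS _ m.2 _ t.2) (hS _ m'.2 _ t.2)
    have hsurj : Function.Surjective (fun t : Z => (⟨_, hmaps t⟩ : Z)) :=
      Finite.injective_iff_surjective.1 fun a b h => Subtype.ext (mul_left_cancel₀ hd0 (congrArg Subtype.val h))
    have hdiff : (m.1 - m'.1) * m0⁻¹ * w ∈ Z := by
      have h1 := (QuotientAddGroup.eq_iff_sub_mem).1 e
      convert h1 using 1
      ring
    obtain ⟨t, ht⟩ := hsurj ⟨_, hdiff⟩
    exact hw (mul_left_cancel₀ hd0 (congrArg Subtype.val ht) ▸ t.2)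
  have hMZ : (Nat.card F - 1) * Nat.card Z + ZS.card * Nat.card Z ≤ ZS.card * Nat.card F := by
    have e : M.card = Nat.card F - 1 := by
      rw [Finset.card_erase_of_mem (Finset.mem_univ _), Finset.card_univ, Nat.card_eq_fintype_card]
    rw [← e, Finset.card_eq_sum_card_image img M, ← add_mul]
    calc ((∑ P ∈ ZS, (M.filter fun m => img m = P).card) + ZS.card) * Nat.card Z
        = ∑ P ∈ ZS, ((M.filter fun m => img m = P).card + 1) * Nat.card Z := by
          rw [← Finset.sum_mul, Finset.sum_add_distrib, Finset.sum_const, smul_eq_mul, mul_one]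
      _ ≤ _ := (Finset.sum_le_card_nsmul _ _ _ hfib).trans (le_of_eq (smul_eq_mul _ _))
  have hrep : ∀ P ∈ ZS, ∃ l : F, l ≠ 0 ∧ img (l ^ 2) = P := fun P hP => by
    obtain ⟨m, hm, rfl⟩ := Finset.mem_image.1 hP
    obtain ⟨l, rfl⟩ := exists_sqrt' m
    exact ⟨l, fun h => Finset.ne_of_mem_erase hm (by rw [h]; ring), rfl⟩
  choose l hl0 hl using hrep
  obtain ⟨S, hS, hinj, hmemS⟩ := C.exists_reps x
  let f : ZS × S → X := fun p => C.dil (l p.1.1 p.1.2) (hl0 _ _) 1 (one_mul 1) • p.2.1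
  have hZf : ∀ p, Z1 C.hA C.a (f p) = p.1.1 := fun p => by
    rw [← hl p.1.1 p.1.2]
    ext t
    have ht : t = l p.1.1 p.1.2 ^ 2 * ((l p.1.1 p.1.2 ^ 2)⁻¹ * t) := by
      rw [← mul_assoc, mul_inv_cancel₀ (pow_ne_zero 2 (hl0 _ _)), one_mul]
    rw [ht]
    show _ ↔ _ ∈ img (l p.1.1 p.1.2 ^ 2)
    rw [hmem (pow_ne_zero 2 (hl0 _ _))]
    refine (C.Z1_dil _ _ 1 (one_mul 1) _).trans ?_
    rw [(hmemS p.2.1 p.2.2).1]
  have hfi : Set.InjOn (fun y : X => (Z1 C.hA C.a y, C.Kb y)) (Finset.univ.image f : Set X) := by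
    intro y hy y' hy' e
    simp only [Finset.coe_image, Finset.coe_univ, Set.image_univ, Set.mem_range] at hy hy'
    obtain ⟨p, rfl⟩ := hy
    obtain ⟨p', rfl⟩ := hy'
    rw [Prod.mk.injEq, hZf, hZf] at e
    obtain ⟨P, s⟩ := p
    obtain ⟨P', s'⟩ := p'
    obtain rfl : P = P' := Subtype.ext e.1
    have hs : C.Kb s.1 = C.Kb s'.1 := by
      ext u
      rw [← C.Kb_dil (l P.1 P.2) (hl0 _ _) 1 (one_mul 1) s.1,
        ← C.Kb_dil (l P.1 P.2) (hl0 _ _) 1 (one_mul 1) s'.1]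
      exact SetLike.ext_iff.1 e.2 _
    rw [show s = s' from Subtype.ext (hinj s.2 s'.2 hs)]
  have hf : Function.Injective f := fun p p' e => by
    have h1 : p.1 = p'.1 := Subtype.ext (by rw [← hZf p, ← hZf p', e])
    refine Prod.ext h1 ?_
    obtain ⟨P, s⟩ := p
    obtain ⟨P', s'⟩ := p'
    obtain rfl : P = P' := h1
    exact Subtype.ext (MulAction.injective _ e)
  have hsum := C.keys_le _ hfi
  rw [Finset.sum_image fun a _ b _ e => hf e, Finset.sum_congr rfl (fun p _ => show Nat.card (C.orb (f p)) =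
      Nat.card (C.orb x) by rw [C.orb_card_dil, (hmemS p.2.1 p.2.2).2.2]), Finset.sum_const, Finset.card_univ,
    Fintype.card_prod, Fintype.card_coe, Fintype.card_coe, hS, smul_eq_mul] at hsum
  have hp := C.orb_perp ψ hψ x
  have hc := C.cover_le ((C.pairing ψ hψ).perp_ne_bot hK)
  rw [C.perp_imgs ψ hψ] at hc
  have hz2 : 2 ≤ Nat.card Z := by
    by_contra h
    have hpos : 0 < Nat.card Z := Nat.card_pos
    exact hZb (AddSubgroup.eq_bot_of_card_eq _ (by omega))
  rw [C.card_V] at hd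
  set q := Nat.card F with hq
  set N := Nat.card C.U with hN
  set z := Nat.card Z with hz
  set mz := ZS.card
  set M' := (C.imgs (C.Kb x)).card with hM'
  set i := Nat.card (C.orb x)
  set P := Nat.card ((C.pairing ψ hψ).perp (C.Kb x))
  have hM1 : 1 ≤ M' := Finset.card_pos.2 ⟨_, C.self_imgs _⟩
  have hN1 : 1 ≤ N := Nat.card_pos
  have h1 : mz * (q * N) ≤ Nat.card X * z := by
    refine le_trans ?_ (Nat.mul_le_mul_right z hsum)
    rw [show mz * M' * i * z = mz * (M' * (i * z)) by ring, hp,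
      show mz * (M' * (q * P)) = mz * (q * (M' * P)) by ring]
    exact Nat.mul_le_mul_left _ (Nat.mul_le_mul_left _ (by omega))
  obtain ⟨s, hs⟩ : ∃ s, q = z + s := Nat.exists_eq_add_of_le (by
    have := two_card_le hZt
    rw [← hz, ← hq] at this
    omega)
  have h2 : (q - 1) * z ≤ mz * s := by
    rw [hs, mul_add] at hMZ
    rw [hs]
    omega
  have h3 : (q - 1) * (q * N) * z ≤ Nat.card X * s * z := by
    calc (q - 1) * (q * N) * z = (q - 1) * z * (q * N) := by ring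
      _ ≤ mz * s * (q * N) := Nat.mul_le_mul_right _ h2
      _ = mz * (q * N) * s := by ring
      _ ≤ Nat.card X * z * s := Nat.mul_le_mul_right _ h1
      _ = _ := by ring
  have h4 := Nat.le_of_mul_le_mul_right h3 (by omega)
  obtain ⟨r, hr⟩ : ∃ r, q = r + 2 := ⟨q - 2, by omega⟩
  have h5 : Nat.card X * s ≤ Nat.card X * r := Nat.mul_le_mul_left _ (by omega)
  rw [hr, show r + 2 - 1 = r + 1 by omega] at h4 hd
  have h6 := Nat.mul_le_mul_right (r + 1) (h4.trans h5)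
  have h7 : (Nat.card X * (r + 1) + 1) * r ≤ (r + 2) ^ 2 * N * r := Nat.mul_le_mul_right r hd.le
  nlinarith

theorem even_fixed (hq : 4 ≤ Nat.card F) {x : X}
    (hst : ∀ (l : F) (hl : l ≠ 0), ∀ y ∈ C.orb x, C.dil l hl 1 (one_mul 1) • y ∈ C.orb x) :
    ∃ (l : F) (hl : l ≠ 0), l ≠ 1 ∧ ∃ y ∈ C.orb x, C.dil l hl 1 (one_mul 1) • y = y := by
  obtain ⟨r, l, hr, hl, hl1, hlr, hrq⟩ := exists_odd_torus hq
  have : Fact r.Prime := ⟨hr⟩
  refine ⟨l, hl, hl1, exists_fixed _ (C.dil_pow_eq_one l hl 1 (one_mul 1) hlr (one_pow r)) _ (hst l hl) fun h => ?_⟩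
  have h1 : r ∣ Nat.card F * Nat.card C.U := h.trans ⟨_, (C.orb_card x).symm⟩
  rw [C.card_U, ← pow_succ'] at h1
  exact hrq (hr.dvd_of_dvd_pow h1)

/-- A transvection of the Levi part keeping a semiregular orbit. -/
theorem even_finish {x : X} (hbot : ∀ y : X, Z1 C.hA C.a y = ⊥) (hq : 4 ≤ Nat.card F)
    (hst : ∀ (l : F) (hl : l ≠ 0), ∀ y ∈ C.orb x, C.dil l hl 1 (one_mul 1) • y ∈ C.orb x)
    {w : C.U} (hw : w ≠ 0) (hwst : ∀ y ∈ C.orb x, (C.tU w 1 : BilinIsom B) • y ∈ C.orb x) : False := by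
  obtain ⟨l, hl, hl1, y, hy, hfix⟩ := C.even_fixed hq hst
  have h := C.even_lift hl hl1 hfix (C.dil_tU l hl 1 (one_mul 1) w 1) (by rw [C.orb_eq hy]; exact hwst y hy)
  rw [C.tU_coe] at h
  have h1 : (1 : F) ∈ Z1 C.hA (w : V) y := mem_Z1.2 h
  rw [Z1_all_bot C.hA C hbot (fun e => hw (Subtype.ext e)) y, AddSubgroup.mem_bot] at h1
  exact one_ne_zero h1

end Frame

end Cfsg.Lib.Known.MinIndexSp
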