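import Cfsg.Agent.Known.MinIndexSp.Orbit

/-!
The images of the invariants of an orbit under the isometries fixing the hyperbolic pair.
-/

set_option autoImplicit false
set_option linter.unusedSectionVars false
set_option linter.unusedSimpArgs false
set_option linter.style.haveILetI false

namespace Cfsg.Lib.Known.MinIndexSp

open Cfsg.Lib.Classical

universe u v w

variable {F : Type u} [Field F] [Finite F] {V : Type v} [AddCommGroup V] [Module F V] [FiniteDimensional F V]
  {B : LinearMap.BilinForm F V}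

namespace Frame

variable (C : Frame B)

instance finite_L : Finite C.L :=
  have := finite_isom (B := B)
  Subtype.finite

/-- The images of a subgroup of the orthogonal space. -/
noncomputable def imgs (K : AddSubgroup C.U) : Finset (AddSubgroup C.U) :=
  letI := Fintype.ofFinite C.L
  letI := Classical.decEq (AddSubgroup C.U)
  Finset.univ.image fun g : C.L => K.map (C.res g)

theorem mem_imgs {K P : AddSubgroup C.U} : P ∈ C.imgs K ↔ ∃ g : C.L, K.map (C.res g) = P := by
  classical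
  simp [imgs]

theorem map_one' (K : AddSubgroup C.U) : K.map (C.res 1) = K := by
  ext u
  exact ⟨fun ⟨v, hv, e⟩ => e ▸ hv, fun hu => ⟨u, hu, rfl⟩⟩

theorem map_mul' (K : AddSubgroup C.U) (g h : C.L) : (K.map (C.res h)).map (C.res g) = K.map (C.res (g * h)) := by
  ext u
  constructor
  · rintro ⟨v, ⟨w, hw, rfl⟩, rfl⟩; exact ⟨w, hw, rfl⟩
  · rintro ⟨w, hw, rfl⟩; exact ⟨_, ⟨w, hw, rfl⟩, rfl⟩

theorem self_imgs (K : AddSubgroup C.U) : K ∈ C.imgs K := C.mem_imgs.2 ⟨1, C.map_one' K⟩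

theorem imgs_closed {K P : AddSubgroup C.U} (g : C.L) (h : P ∈ C.imgs K) : P.map (C.res g) ∈ C.imgs K := by
  obtain ⟨k, rfl⟩ := C.mem_imgs.1 h
  exact C.mem_imgs.2 ⟨g * k, (C.map_mul' K g k).symm⟩

theorem card_img {K P : AddSubgroup C.U} (h : P ∈ C.imgs K) : Nat.card P = Nat.card K := by
  obtain ⟨g, rfl⟩ := C.mem_imgs.1 h
  exact (Nat.card_congr (K.equivMapOfInjective _ (C.res_inj g)).toEquiv).symm

theorem mem_map_res {K : AddSubgroup C.U} {g : C.L} {u : C.U} : C.res g u ∈ K.map (C.res g) ↔ u ∈ K :=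
  AddSubgroup.mem_map_iff_mem (C.res_inj g)

theorem sum_imgs (K : AddSubgroup C.U) : ∑ P ∈ C.imgs K, Nat.card P = (C.imgs K).card * Nat.card K := by
  rw [Finset.sum_congr rfl fun P hP => C.card_img hP, Finset.sum_const, smul_eq_mul]

theorem cover {K : AddSubgroup C.U} (hK : K ≠ ⊥) {v : C.U} (hv : v ≠ 0) : ∃ P ∈ C.imgs K, v ∈ P := by
  obtain ⟨w, hw, hw0⟩ : ∃ w ∈ K, w ≠ 0 := by
    by_contra h
    push Not at h
    exact hK (eq_bot_iff.2 fun w hw => AddSubgroup.mem_bot.2 (h w hw))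
  obtain ⟨g, hg⟩ := C.exists_trans hw0 hv
  exact ⟨_, C.mem_imgs.2 ⟨g, rfl⟩, hg ▸ C.mem_map_res.2 hw⟩

theorem cover_le {K : AddSubgroup C.U} (hK : K ≠ ⊥) :
    Nat.card C.U - 1 + (C.imgs K).card ≤ (C.imgs K).card * Nat.card K := by
  have : Finite C.U := Module.finite_of_finite F
  have := Fintype.ofFinite C.U
  rw [← C.sum_imgs K]
  exact count_cover_one _ fun v hv => C.cover hK hv

/-- Two images share a nonzero vector. -/
def Shared (K : AddSubgroup C.U) : Prop :=
  ∃ P ∈ C.imgs K, ∃ P' ∈ C.imgs K, P ≠ P' ∧ ∃ v : C.U, v ≠ 0 ∧ v ∈ P ∧ v ∈ P'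

theorem shared_le {K : AddSubgroup C.U} (hK : C.Shared K) :
    2 * (Nat.card C.U - 1) + (C.imgs K).card ≤ (C.imgs K).card * Nat.card K := by
  classical
  have : Finite C.U := Module.finite_of_finite F
  have := Fintype.ofFinite C.U
  obtain ⟨P, hP, P', hP', hne, v, hv, h1, h2⟩ := hK
  rw [← C.sum_imgs K]
  refine count_cover _ 2 fun u hu => Finset.one_lt_card.2 ?_
  obtain ⟨g, rfl⟩ := C.exists_trans hv hu
  refine ⟨P.map (C.res g), Finset.mem_filter.2 ⟨C.imgs_closed g hP, C.mem_map_res.2 h1⟩,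
    P'.map (C.res g), Finset.mem_filter.2 ⟨C.imgs_closed g hP', C.mem_map_res.2 h2⟩, fun e => hne ?_⟩
  exact AddSubgroup.map_injective (C.res_inj g) e

/-- Without shared vectors a proper member lies on a line. -/
theorem rigid {K : AddSubgroup C.U} (hK : ¬ C.Shared K) (hKt : K ≠ ⊤) {v : C.U} (hv : v ∈ K) (hv0 : v ≠ 0)
    {w : C.U} (hw : w ∈ K) : w ∈ Submodule.span F ({v} : Set C.U) := by
  have key : ∀ {x y : C.U}, x ∈ K → x ≠ 0 → y ∈ K → y ∉ Submodule.span F ({x} : Set C.U) →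
      ∀ t : C.U, B (x : V) (t : V) = 0 → t ∈ K := by
    intro x y hx hx0 hy hyx
    have hgen : ∀ t : C.U, B (x : V) (t : V) = 0 → B (y : V) (t : V) ≠ 0 → t ∈ K := fun t hxt hyt => by
      let g := C.tU t (B (y : V) (t : V))⁻¹
      have hgx : C.res g x = x := by rw [C.res_tU, hxt, mul_zero, zero_smul, add_zero]
      have hgK : K.map (C.res g) = K := by
        by_contra hne
        exact hK ⟨_, C.mem_imgs.2 ⟨g, rfl⟩, K, C.self_imgs K, hne, x, hx0,
          by rw [← hgx]; exact C.mem_map_res.2 hx, hx⟩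
      have h2 : C.res g y ∈ K := by
        have h3 := (C.mem_map_res (g := g)).2 hy
        rwa [hgK] at h3
      rw [C.res_tU, inv_mul_cancel₀ hyt, one_smul] at h2
      simpa using K.sub_mem h2 hy
    intro t hxt
    by_cases hyt : B (y : V) (t : V) = 0
    · obtain ⟨s, hs, hys⟩ : ∃ s : C.U, B (x : V) (s : V) = 0 ∧ B (y : V) (s : V) ≠ 0 := by
        by_contra h
        push Not at h
        obtain ⟨p, hp⟩ := C.exists_pair hx0
        refine hyx (Submodule.mem_span_singleton.2 ⟨-B (y : V) (p : V), ?_⟩)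
        refine (sub_eq_zero.1 (C.nd_U fun s => ?_)).symm
        have h1 := h (s + B (x : V) (s : V) • p) (by
          simp [alt_swap C.hA (p : V) (x : V), hp])
        simp only [Submodule.coe_add, Submodule.coe_smul, map_add, map_smul, smul_eq_mul] at h1
        simp only [Submodule.coe_sub, Submodule.coe_smul, map_sub, map_smul, LinearMap.sub_apply,
          LinearMap.smul_apply, smul_eq_mul]
        linear_combination h1
      have := K.sub_mem (hgen (t + s) (by simp [hxt, hs]) (by simp [hyt, hys])) (hgen s hs hys)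
      simpa using this
    · exact hgen t hxt hyt
  by_contra hwv
  have hvw : v ∉ Submodule.span F ({w} : Set C.U) := fun h => by
    obtain ⟨c, hc⟩ := Submodule.mem_span_singleton.1 h
    rcases eq_or_ne c 0 with rfl | hc0
    · exact hv0 (by rw [← hc, zero_smul])
    · exact hwv (Submodule.mem_span_singleton.2 ⟨c⁻¹, by rw [← hc, smul_smul, inv_mul_cancel₀ hc0, one_smul]⟩)
  have hw0 : w ≠ 0 := fun h => hwv (by rw [h]; exact zero_mem _)
  obtain ⟨p, hp⟩ := C.exists_pair hv0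
  obtain ⟨s, hs⟩ : ∃ s : C.U, B (v : V) (s : V) = 0 ∧ B (w : V) (s : V) ≠ 0 := by
    by_contra h
    push Not at h
    refine hwv (Submodule.mem_span_singleton.2 ⟨-B (w : V) (p : V), ?_⟩)
    refine (sub_eq_zero.1 (C.nd_U fun s => ?_)).symm
    have h1 := h (s + B (v : V) (s : V) • p) (by simp [alt_swap C.hA (p : V) (v : V), hp])
    simp only [Submodule.coe_add, Submodule.coe_smul, map_add, map_smul, smul_eq_mul] at h1
    simp only [Submodule.coe_sub, Submodule.coe_smul, map_sub, map_smul, LinearMap.sub_apply,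
      LinearMap.smul_apply, smul_eq_mul]
    linear_combination h1
  obtain ⟨r, hr1, hr2⟩ : ∃ r : C.U, B (w : V) (r : V) = 0 ∧ B (v : V) (r : V) = 1 := by
    refine ⟨-(p + (-(B (w : V) (p : V)) * (B (w : V) (s : V))⁻¹) • s), ?_, ?_⟩
    · simp only [Submodule.coe_neg, Submodule.coe_add, Submodule.coe_smul, map_neg, map_add, map_smul, smul_eq_mul]
      field_simp [hs.2]
      ring
    · simp [hs.1, alt_swap C.hA (p : V) (v : V), hp]
  refine hKt (eq_top_iff.2 fun t _ => ?_)
  have h1 := key hv hv0 hw hwv (t - B (v : V) (t : V) • r) (by simp [hr2])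
  have h2 := key hw hw0 hv hvw (B (v : V) (t : V) • r) (by simp [hr1])
  simpa using K.add_mem h1 h2

theorem perp_imgs (ψ : AddChar F ℂ) (hψ : ψ ≠ 1) (K : AddSubgroup C.U) :
    (C.imgs ((C.pairing ψ hψ).perp K)).card = (C.imgs K).card := by
  classical
  have : Finite C.U := Module.finite_of_finite F
  have e : C.imgs ((C.pairing ψ hψ).perp K) = (C.imgs K).image (C.pairing ψ hψ).perp := by
    ext P
    simp only [C.mem_imgs, Finset.mem_image]
    constructor
    · rintro ⟨g, rfl⟩; exact ⟨_, ⟨g, rfl⟩, C.perp_res ψ hψ g K⟩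
    · rintro ⟨_, ⟨g, rfl⟩, rfl⟩; exact ⟨g, (C.perp_res ψ hψ g K).symm⟩
  rw [e, Finset.card_image_of_injective _ (C.pairing ψ hψ).perp_inj]

section Action

variable {X : Type w} [MulAction (BilinIsom B) X] [Fintype X]

theorem orb_card_pos_dvd {x y : X} (hZ : Z1 C.hA C.a y = Z1 C.hA C.a x)
    (hK : Nat.card (C.Kb y) = Nat.card (C.Kb x)) : Nat.card (C.orb y) = Nat.card (C.orb x) := by
  have : Finite C.U := Module.finite_of_finite F
  have h1 := C.orb_card x
  have h2 := C.orb_card y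
  rw [hZ, hK, ← h1] at h2
  exact Nat.eq_of_mul_eq_mul_right (Nat.mul_pos Nat.card_pos Nat.card_pos) h2

/-- Points with distinct invariants lie in distinct orbits. -/
theorem keys_le (S : Finset X)
    (hS : Set.InjOn (fun x : X => (Z1 C.hA C.a x, C.Kb x)) (S : Set X)) :
    ∑ x ∈ S, Nat.card (C.orb x) ≤ Nat.card X :=
  C.sum_le S fun x hx y hy h => hS hx hy (Prod.ext (C.inv_orb h).1.symm (C.inv_orb h).2.symm)

theorem exists_reps (x : X) : ∃ S : Finset X, S.card = (C.imgs (C.Kb x)).card ∧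
    Set.InjOn (fun y : X => C.Kb y) (S : Set X) ∧
    ∀ y ∈ S, Z1 C.hA C.a y = Z1 C.hA C.a x ∧ C.Kb y ∈ C.imgs (C.Kb x) ∧
      Nat.card (C.orb y) = Nat.card (C.orb x) := by
  classical
  have hrep : ∀ P : C.imgs (C.Kb x), ∃ g : C.L, (C.Kb x).map (C.res g) = P.1 := fun P => C.mem_imgs.1 P.2
  choose g hg using hrep
  let f : C.imgs (C.Kb x) → X := fun P => ((g P : C.L) : BilinIsom B) • x
  have hf : ∀ P, C.Kb (f P) = P.1 := fun P => by rw [← hg P]; exact C.Kb_L _ x
  refine ⟨Finset.univ.image f, ?_, ?_, ?_⟩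
  · rw [Finset.card_image_of_injective _ fun P P' e => Subtype.ext (by rw [← hf P, ← hf P', e]),
      Finset.card_univ, Fintype.card_coe]
  · intro y hy y' hy' e
    simp only [Finset.coe_image, Finset.coe_univ, Set.image_univ, Set.mem_range] at hy hy'
    obtain ⟨P, rfl⟩ := hy
    obtain ⟨P', rfl⟩ := hy'
    simp only [hf] at e
    rw [Subtype.ext e]
  · intro y hy
    obtain ⟨P, -, rfl⟩ := Finset.mem_image.1 hy
    have hZ : Z1 C.hA C.a (f P) = Z1 C.hA C.a x := C.Z1_L _ x
    exact ⟨hZ, by rw [hf]; exact P.2, C.orb_card_pos_dvd hZ (by rw [hf, C.card_img P.2])⟩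

theorem family_le (x : X) : (C.imgs (C.Kb x)).card * Nat.card (C.orb x) ≤ Nat.card X := by
  obtain ⟨S, hS, hinj, hmem⟩ := C.exists_reps x
  refine le_trans (le_of_eq ?_) (C.keys_le S fun y hy y' hy' e => hinj hy hy' (congrArg Prod.snd e))
  rw [Finset.sum_congr rfl fun y hy => (hmem y hy).2.2, Finset.sum_const, hS, smul_eq_mul]

theorem family_add_le {x y : X}
    (h : Z1 C.hA C.a y ≠ Z1 C.hA C.a x ∨ C.Kb y ∉ C.imgs (C.Kb x)) :
    (C.imgs (C.Kb x)).card * Nat.card (C.orb x) + Nat.card (C.orb y) ≤ Nat.card X := by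
  classical
  obtain ⟨S, hS, hinj, hmem⟩ := C.exists_reps x
  have hne : ∀ z ∈ S, (Z1 C.hA C.a z, C.Kb z) ≠ (Z1 C.hA C.a y, C.Kb y) := fun z hz e => by
    rw [Prod.mk.injEq] at e
    exact h.elim (fun h => h (by rw [← e.1, (hmem z hz).1])) (fun h => h (e.2 ▸ (hmem z hz).2.1))
  have hy : y ∉ S := fun hy => hne y hy rfl
  refine le_trans (le_of_eq ?_) (C.keys_le (insert y S) ?_)
  · rw [Finset.sum_insert hy, Finset.sum_congr rfl fun z hz => (hmem z hz).2.2, Finset.sum_const, hS,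
      smul_eq_mul, add_comm]
  · intro z hz z' hz' e
    rw [Finset.mem_coe, Finset.mem_insert] at hz hz'
    rcases hz with rfl | hz <;> rcases hz' with rfl | hz'
    · rfl
    · exact absurd e.symm (hne _ hz')
    · exact absurd e (hne _ hz)
    · exact hinj hz hz' (congrArg Prod.snd e)

theorem orb_perp (ψ : AddChar F ℂ) (hψ : ψ ≠ 1) (x : X) :
    Nat.card (C.orb x) * Nat.card (Z1 C.hA C.a x) = Nat.card F * Nat.card ((C.pairing ψ hψ).perp (C.Kb x)) := by
  have : Finite C.U := Module.finite_of_finite F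
  refine Nat.eq_of_mul_eq_mul_right (m := Nat.card (C.Kb x)) Nat.card_pos ?_
  rw [mul_assoc, C.orb_card x, mul_assoc, Pairing.card_perp]

end Action

/-- The diagonal element on the pair acting as a scalar on the orthogonal space. -/
def dilLin (l l' ε : F) : V →ₗ[F] V :=
  ε • LinearMap.id + ((l - ε) • B.flip C.b).smulRight C.a + ((ε - l') • B.flip C.a).smulRight C.b

theorem dilLin_apply (l l' ε : F) (x : V) :
    C.dilLin l l' ε x = ε • x + ((l - ε) * B x C.b) • C.a + ((ε - l') * B x C.a) • C.b := by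
  simp [dilLin, smul_smul]

theorem dilLin_comp (l l' ε m m' δ : F) (x : V) :
    C.dilLin l l' ε (C.dilLin m m' δ x) = C.dilLin (l * m) (l' * m') (ε * δ) x := by
  simp only [dilLin_apply, map_add, map_smul, LinearMap.add_apply, LinearMap.smul_apply, C.hA C.a, C.hA C.b,
    C.hab, C.hba, smul_eq_mul]
  module

theorem dilLin_one (x : V) : C.dilLin 1 1 1 x = x := by simp [dilLin_apply]

/-- The diagonal isometry. -/
def dil (l : F) (hl : l ≠ 0) (ε : F) (hε : ε * ε = 1) : BilinIsom B :=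
  ⟨LinearEquiv.ofLinearMap (C.dilLin l l⁻¹ ε) (C.dilLin l⁻¹ l ε)
    (LinearMap.ext fun x => by
      rw [LinearMap.comp_apply, C.dilLin_comp, mul_inv_cancel₀ hl, inv_mul_cancel₀ hl, hε, C.dilLin_one]; rfl)
    (LinearMap.ext fun x => by
      rw [LinearMap.comp_apply, C.dilLin_comp, mul_inv_cancel₀ hl, inv_mul_cancel₀ hl, hε, C.dilLin_one]; rfl),
  fun x y => by
    change B (C.dilLin l l⁻¹ ε x) (C.dilLin l l⁻¹ ε y) = B x y
    simp only [dilLin_apply, map_add, map_smul, LinearMap.add_apply, LinearMap.smul_apply, C.hA C.a, C.hA C.b,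
      C.hab, C.hba, smul_eq_mul]
    rw [alt_swap C.hA y C.a, alt_swap C.hA y C.b]
    linear_combination (B x y - B y C.b * B x C.a + B y C.a * B x C.b) * hε
      + (B y C.b * B x C.a - B y C.a * B x C.b) * (mul_inv_cancel₀ hl)⟩

theorem dil_apply (l : F) (hl : l ≠ 0) (ε : F) (hε : ε * ε = 1) (x : V) :
    ((C.dil l hl ε hε : BilinIsom B) : V ≃ₗ[F] V) x =
      ε • x + ((l - ε) * B x C.b) • C.a + ((ε - l⁻¹) * B x C.a) • C.b := C.dilLin_apply _ _ _ x

theorem dil_a (l : F) (hl : l ≠ 0) (ε : F) (hε : ε * ε = 1) :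
    ((C.dil l hl ε hε : BilinIsom B) : V ≃ₗ[F] V) C.a = l • C.a := by
  rw [dil_apply, C.hA C.a, C.hab]
  module

theorem dil_b (l : F) (hl : l ≠ 0) (ε : F) (hε : ε * ε = 1) :
    ((C.dil l hl ε hε : BilinIsom B) : V ≃ₗ[F] V) C.b = l⁻¹ • C.b := by
  rw [dil_apply, C.hA C.b, C.hba]
  module

theorem dil_U (l : F) (hl : l ≠ 0) (ε : F) (hε : ε * ε = 1) (u : C.U) :
    ((C.dil l hl ε hε : BilinIsom B) : V ≃ₗ[F] V) (u : V) = ε • (u : V) := by
  rw [dil_apply, C.ua, C.ub]
  simp

theorem dil_rho (l : F) (hl : l ≠ 0) (ε : F) (hε : ε * ε = 1) (u : C.U) (z : F) :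
    C.dil l hl ε hε * rho C.hA C.a (u : V) z * (C.dil l hl ε hε)⁻¹ =
      rho C.hA C.a (((l * ε) • u : C.U) : V) (l ^ 2 * z) := by
  rw [rho_conj, C.dil_a, C.dil_U, rho_smul C.hA (by simp [C.au u]), smul_smul]
  rfl

theorem dil_tU (l : F) (hl : l ≠ 0) (ε : F) (hε : ε * ε = 1) (w : C.U) (c : F) :
    C.dil l hl ε hε * (C.tU w c : BilinIsom B) = (C.tU w c : BilinIsom B) * C.dil l hl ε hε := by
  rw [← mul_inv_eq_iff_eq_mul, C.tU_coe, sympT_conj, C.dil_U, sympT_smul, sq, hε, one_mul]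

end Frame

end Cfsg.Lib.Known.MinIndexSp
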