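import Cfsg.Agent.Known.MinIndexSp.Frame
import Cfsg.Agent.Known.MinIndexSp.Pairing

/-!
Quadratic forms polarising to an alternating form in characteristic two: values of their Gauss sums,
and the forms obtained from one of them by transvections.
-/

set_option autoImplicit false
set_option linter.unusedSectionVars false
set_option linter.unusedSimpArgs false
set_option linter.style.haveILetI false

namespace Cfsg.Lib.Known.MinIndexSp

open Cfsg.Lib.Classical

universe u v

variable {F : Type u} [Field F] [Finite F] [CharP F 2] {V : Type v} [AddCommGroup V] [Module F V]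
  [FiniteDimensional F V] {B : LinearMap.BilinForm F V}

/-- An additive character whose kernel is the image of the map `s ↦ s² + s`. -/
theorem exists_artin_schreier : ∃ ψ : AddChar F ℂ, ψ ≠ 1 ∧ (∀ s, ψ (s ^ 2 + s) = 1) ∧
    (∀ x, ψ x = 1 → ∃ s, s ^ 2 + s = x) ∧ ∀ x, ψ x = 1 ∨ ψ x = -1 := by
  classical
  let f : F →+ F :=
    { toFun := fun s => s ^ 2 + s
      map_zero' := by simp
      map_add' := fun s t => by rw [CharTwo.add_sq]; ring }
  have hker : Nat.card f.ker ≤ 2 := by
    have : f.ker.carrier ⊆ {0, 1} := fun s hs => by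
      have h : s * (s + 1) = 0 := by
        have h' : s ^ 2 + s = 0 := hs
        linear_combination h'
      rcases mul_eq_zero.1 h with h | h
      · exact Or.inl h
      · exact Or.inr (show s = 1 by rw [← CharTwo.neg_eq (1 : F)]; exact eq_neg_of_add_eq_zero_left h)
    calc Nat.card f.ker = (f.ker.carrier).ncard := Nat.card_coe_set_eq _
      _ ≤ ({0, 1} : Set F).ncard := Set.ncard_le_ncard this
      _ ≤ 2 := (Set.ncard_insert_le _ _).trans (by simp)
  have hne : f.range ≠ ⊤ := fun h => by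
    have h1 := Finite.injective_iff_surjective.2 (AddMonoidHom.range_eq_top.1 h)
    exact zero_ne_one (h1 (show f 0 = f 1 by simp [f, CharTwo.add_self_eq_zero]))
  obtain ⟨c, hc⟩ : ∃ c, c ∉ f.range := by
    by_contra h
    push Not at h
    exact hne (eq_top_iff.2 fun c _ => h c)
  obtain ⟨χ, hχ⟩ := AddChar.exists_apply_ne_zero.2
    (show (QuotientAddGroup.mk c : F ⧸ f.range) ≠ 0 from fun e => hc ((QuotientAddGroup.eq_zero_iff c).1 e))
  let ψ : AddChar F ℂ := χ.compAddMonoidHom (QuotientAddGroup.mk' f.range)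
  have hψc : ψ c ≠ 1 := hχ
  have hval : ∀ x, ψ x = 1 ∨ ψ x = -1 := fun x => by
    have h := ψ.map_add_eq_mul x x
    rw [CharTwo.add_self_eq_zero, AddChar.map_zero_eq_one] at h
    exact sq_eq_one_iff.1 (by rw [sq, h])
  have hrange : ∀ s, ψ (s ^ 2 + s) = 1 := fun s => by
    show χ (QuotientAddGroup.mk (f s)) = 1
    rw [(QuotientAddGroup.eq_zero_iff (f s)).2 (AddMonoidHom.mem_range.2 ⟨s, rfl⟩), AddChar.map_zero_eq_one]
  refine ⟨ψ, fun h => hψc (by rw [h]; rfl), hrange, fun x hx => ?_, hval⟩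
  let K : AddSubgroup F :=
    { carrier := {y | ψ y = 1}
      zero_mem' := ψ.map_zero_eq_one
      add_mem' := fun {a b} ha hb => by
        show ψ (a + b) = 1
        rw [AddChar.map_add_eq_mul, show ψ a = 1 from ha, show ψ b = 1 from hb, mul_one]
      neg_mem' := fun {a} ha => by show ψ (-a) = 1; rw [CharTwo.neg_eq]; exact ha }
  have hfK : f.range ≤ K := by rintro _ ⟨s, rfl⟩; exact hrange s
  have hKt : K ≠ ⊤ := fun h => hψc (show c ∈ K by rw [h]; trivial)
  have hi : f.range.index ≤ 2 := by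
    have h1 := f.range.index_mul_card
    have h2 := f.ker.index_mul_card
    rw [AddSubgroup.index_ker] at h2
    have h4 : f.range.index * Nat.card f.range = Nat.card f.ker * Nat.card f.range := by rw [h1, ← h2, mul_comm]
    exact (Nat.eq_of_mul_eq_mul_right Nat.card_pos h4).le.trans hker
  have hKK : f.range = K := by
    refine AddSubgroup.eq_of_le_of_card_ge hfK ?_
    have h1 := f.range.index_mul_card
    have h2 := K.index_mul_card
    have h3 : 2 ≤ K.index := by
      have h3' : K.index ≠ 0 := AddSubgroup.index_ne_zero_of_finite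
      have h4 : K.index ≠ 1 := fun h => hKt (AddSubgroup.index_eq_one.1 h)
      omega
    refine Nat.le_of_mul_le_mul_left ?_ (show 0 < K.index by omega)
    rw [h2, ← h1]
    exact Nat.mul_le_mul_right _ (hi.trans h3)
  obtain ⟨s, hs⟩ := (show x ∈ f.range by rw [hKK]; exact hx)
  exact ⟨s, hs⟩

theorem artin_sq {ψ : AddChar F ℂ} (hψ : ∀ s, ψ (s ^ 2 + s) = 1) (s : F) : ψ (s ^ 2) = ψ s := by
  have h := ψ.map_add_eq_mul (s ^ 2 + s) s
  rw [hψ, one_mul, add_assoc, CharTwo.add_self_eq_zero, add_zero] at h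
  exact h

theorem exists_sqrt' (c : F) : ∃ t : F, t ^ 2 = c :=
  (Finite.injective_iff_surjective.1 CharTwo.sq_injective) c

theorem eq_of_squares {ψ : AddChar F ℂ} (hψ : ψ ≠ 1) {c a b : F} (hc : c ≠ 0)
    (h : ∀ s, ψ (c * (s ^ 2 * a)) = ψ (c * (s ^ 2 * b))) : a = b := by
  by_contra hne
  refine hψ (DFunLike.ext _ _ fun y => ?_)
  have hd : c * (a - b) ≠ 0 := mul_ne_zero hc (sub_ne_zero.2 hne)
  obtain ⟨s, hs⟩ := exists_sqrt' (y * (c * (a - b))⁻¹)
  have h1 := h s
  have h2 : ψ (c * (s ^ 2 * a)) = ψ y * ψ (c * (s ^ 2 * b)) := by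
    rw [← AddChar.map_add_eq_mul, hs]
    congr 1
    have h3 : y * (c * (a - b))⁻¹ * (c * (a - b)) = y := by rw [mul_assoc, inv_mul_cancel₀ hd, mul_one]
    linear_combination h3
  rw [h1] at h2
  have hne' : ψ (c * (s ^ 2 * b)) ≠ 0 := (IsUnit.map ψ.toMonoidHom (Group.isUnit _)).ne_zero
  simpa using (mul_left_eq_self₀.1 h2.symm).resolve_right hne'

namespace Frame

variable (C : Frame B)

/-- A quadratic form on the orthogonal space polarising to the alternating form. -/
structure IsQ (Q : C.U → F) : Prop where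
  add : ∀ u v : C.U, Q (u + v) = Q u + Q v + B (u : V) (v : V)
  smul : ∀ (t : F) (u : C.U), Q (t • u) = t ^ 2 * Q u

/-- A form shifted by the square of a linear form. -/
def shiftQ (Q : C.U → F) (w : C.U) : C.U → F := fun v => Q v + B (v : V) (w : V) ^ 2

variable {Q : C.U → F}

theorem IsQ.zero (hQ : C.IsQ Q) : Q 0 = 0 := by
  have := hQ.smul 0 0
  simpa using this

theorem shiftQ_inj {w w' : C.U} (h : C.shiftQ Q w = C.shiftQ Q w') : w = w' := by
  refine sub_eq_zero.1 (C.nd_U fun v => alt_zero C.hA ?_)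
  have h1 := congrFun h v
  simp only [shiftQ, add_right_inj] at h1
  rw [Submodule.coe_sub, map_sub, CharTwo.sq_injective h1, sub_self]

theorem IsQ.res (hQ : C.IsQ Q) (g : C.L) : C.IsQ fun v => Q (C.res g v) :=
  ⟨fun u v => by rw [map_add, hQ.add, C.res_form], fun t u => by rw [C.res_smul, hQ.smul]⟩

theorem IsQ.tU (hQ : C.IsQ Q) (w : C.U) (e : F) (v : C.U) :
    Q (C.res (C.tU w e) v) = Q v + (e ^ 2 * Q w + e) * B (v : V) (w : V) ^ 2 := by
  rw [C.res_tU, hQ.add, hQ.smul, Submodule.coe_smul, map_smul, smul_eq_mul]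
  ring

theorem exists_shift_aux {ψ : AddChar F ℂ} (hker : ∀ x, ψ x = 1 → ∃ s, s ^ 2 + s = x) (hQ : C.IsQ Q) {w : C.U}
    (hw : ψ (Q w) = 1) : ∃ e, e ^ 2 * Q w + e = 1 := by
  rcases eq_or_ne (Q w) 0 with h | h
  · exact ⟨1, by rw [h, mul_zero, zero_add]⟩
  · obtain ⟨s, hs⟩ := hker _ hw
    refine ⟨s / Q w, ?_⟩
    field_simp
    linear_combination hs

theorem exists_shift {ψ : AddChar F ℂ} (hker : ∀ x, ψ x = 1 → ∃ s, s ^ 2 + s = x) (hQ : C.IsQ Q) {w : C.U}
    (hw : ψ (Q w) = 1) : ∃ g : C.L, (fun v => Q (C.res g v)) = C.shiftQ Q w := by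
  obtain ⟨e, he⟩ := C.exists_shift_aux hker hQ hw
  exact ⟨C.tU w e, funext fun v => by rw [hQ.tU, he, one_mul]; rfl⟩

section Sums

variable {ψ : AddChar F ℂ}

open scoped _root_.Classical in
/-- The square of the Gauss sum of a form. -/
theorem gauss_sq [Fintype C.U] (hψ : ψ ≠ 1) (hQ : C.IsQ Q) :
    (∑ v, ψ (Q v)) * (∑ v, ψ (Q v)) = (Fintype.card C.U : ℂ) := by
  rw [Finset.sum_mul_sum]
  have key : ∀ u : C.U, ∑ v, ψ (Q u) * ψ (Q v) = ∑ w, ψ (Q w) * ψ (B (u : V) (w : V)) := fun u => by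
    refine (Fintype.sum_equiv (Equiv.addLeft u) _ _ fun w => ?_).symm
    show ψ (Q w) * ψ (B (u : V) (w : V)) = ψ (Q u) * ψ (Q (u + w))
    rw [hQ.add, ← AddChar.map_add_eq_mul, ← AddChar.map_add_eq_mul]
    congr 1
    linear_combination -(CharTwo.add_self_eq_zero (Q u))
  simp only [key]
  rw [Finset.sum_comm]
  simp only [← Finset.mul_sum]
  rw [Finset.sum_eq_single (0 : C.U)]
  · rw [hQ.zero, AddChar.map_zero_eq_one, one_mul]
    simp
  · intro w _ hw
    let χ : AddChar C.U ℂ := ψ.compAddMonoidHom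
      { toFun := fun u : C.U => B (u : V) (w : V)
        map_zero' := by simp
        map_add' := fun u u' => by simp }
    have hχ : χ ≠ 1 := fun h => by
      obtain ⟨v, hv⟩ := C.exists_pair hw
      refine hψ (DFunLike.ext _ _ fun c => ?_)
      have e := DFunLike.congr_fun h (c • v)
      change ψ (B (c • (v : V)) (w : V)) = 1 at e
      rw [map_smul, LinearMap.smul_apply, hv, smul_eq_mul, mul_one] at e
      exact e
    have h0 := AddChar.sum_eq_zero_of_ne_one hχ
    change ∑ u : C.U, ψ (B (u : V) (w : V)) = 0 at h0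
    rw [h0, mul_zero]
  · simp

open scoped _root_.Classical in
/-- The vectors of trivial character. -/
theorem plus_count [Fintype C.U] (hψ : ψ ≠ 1) (hval : ∀ x, ψ x = 1 ∨ ψ x = -1) (hQ : C.IsQ Q) :
    (2 * ((Finset.univ.filter fun v : C.U => ψ (Q v) = 1).card : ℤ) - Nat.card C.U) ^ 2 = Nat.card C.U ∧
      (∑ v, ψ (Q v)) = 2 * ((Finset.univ.filter fun v : C.U => ψ (Q v) = 1).card : ℂ) - Nat.card C.U := by
  have hs : (∑ v, ψ (Q v)) =
      2 * ((Finset.univ.filter fun v : C.U => ψ (Q v) = 1).card : ℂ) - Nat.card C.U := by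
    have e : ∀ v : C.U, ψ (Q v) = 2 * (if ψ (Q v) = 1 then (1 : ℂ) else 0) - 1 := fun v => by
      rcases hval (Q v) with h | h
      · rw [if_pos h, h]; norm_num
      · have : ψ (Q v) ≠ 1 := by rw [h]; norm_num
        rw [if_neg this, h]; norm_num
    rw [Finset.sum_congr rfl fun v _ => e v, Finset.sum_sub_distrib, ← Finset.mul_sum, Finset.sum_boole]
    simp
  refine ⟨?_, hs⟩
  have h := C.gauss_sq hψ hQ
  rw [hs, ← sq, ← Nat.card_eq_fintype_card] at h
  exact_mod_cast h

open scoped _root_.Classical in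
/-- The singular vectors of a form. -/
theorem zero_count [Fintype C.U] (hψ : ψ ≠ 1) (hQ : C.IsQ Q) :
    (Nat.card F : ℂ) * ((Finset.univ.filter fun v : C.U => Q v = 0).card : ℂ) =
      Nat.card C.U + ((Nat.card F : ℂ) - 1) * ∑ v, ψ (Q v) := by
  have := Fintype.ofFinite F
  have h1 : ∀ v : C.U, ∑ c : F, ψ (c * Q v) = if Q v = 0 then (Fintype.card F : ℂ) else 0 := fun v => by
    by_cases h : Q v = 0
    · simp [h]
    · rw [if_neg h]
      let χ : AddChar F ℂ := ψ.compAddMonoidHom (AddMonoidHom.mulRight (Q v))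
      have hχ : χ ≠ 1 := fun e => hψ (DFunLike.ext _ _ fun y => by
        have e' := DFunLike.congr_fun e (y * (Q v)⁻¹)
        change ψ (y * (Q v)⁻¹ * Q v) = 1 at e'
        rw [mul_assoc, inv_mul_cancel₀ h, mul_one] at e'
        exact e')
      exact AddChar.sum_eq_zero_of_ne_one hχ
  have h2 : ∀ c : F, ∑ v, ψ (c * Q v) = if c = 0 then (Nat.card C.U : ℂ) else ∑ v, ψ (Q v) := fun c => by
    by_cases h : c = 0
    · simp [h]
    · rw [if_neg h]
      obtain ⟨t, rfl⟩ := exists_sqrt' c
      have ht : t ≠ 0 := fun e => h (by simp [e])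
      exact Fintype.sum_equiv (LinearEquiv.smulOfNeZero F C.U t ht).toEquiv _ _ fun v => by
        show ψ (t ^ 2 * Q v) = ψ (Q (t • v))
        rw [hQ.smul]
  have h3 : ∑ v, ∑ c : F, ψ (c * Q v) = ∑ c : F, ∑ v, ψ (c * Q v) := Finset.sum_comm
  simp only [h1, h2] at h3
  rw [← Finset.sum_filter, Finset.sum_const, nsmul_eq_mul,
    ← Finset.add_sum_erase _ _ (Finset.mem_univ (0 : F)), if_pos rfl,
    Finset.sum_congr rfl fun c hc => if_neg (Finset.ne_of_mem_erase hc), Finset.sum_const,
    Finset.card_erase_of_mem (Finset.mem_univ _), Finset.card_univ, nsmul_eq_mul, Nat.cast_sub Fintype.card_pos,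
    Nat.cast_one] at h3
  rw [Nat.card_eq_fintype_card (α := F)]
  linear_combination h3

/-- Two forms differ by the square of a linear form. -/
theorem exists_diff (hψ : ψ ≠ 1) (hsq : ∀ s, ψ (s ^ 2 + s) = 1) {Q' : C.U → F} (hQ : C.IsQ Q) (hQ' : C.IsQ Q') :
    ∃ u : C.U, Q' = C.shiftQ Q u := by
  have : Finite C.U := Module.finite_of_finite F
  let D : AddChar C.U ℂ := ψ.compAddMonoidHom
    { toFun := fun v => Q v + Q' v
      map_zero' := by simp [hQ.zero, hQ'.zero]
      map_add' := fun v v' => by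
        rw [hQ.add, hQ'.add]
        linear_combination CharTwo.add_self_eq_zero (B (v : V) (v' : V)) }
  let P : Pairing C.U :=
    { χ := fun v => ψ.compAddMonoidHom
        { toFun := fun w : C.U => B (v : V) (w : V)
          map_zero' := map_zero _
          map_add' := fun w w' => map_add _ _ _ }
      add_left := fun v v' w => by
        show ψ (B ((v : V) + v') (w : V)) = ψ (B (v : V) (w : V)) * ψ (B (v' : V) (w : V))
        rw [map_add, LinearMap.add_apply, AddChar.map_add_eq_mul]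
      nd := fun v h => C.nd_U fun w => by
        by_contra hne
        refine hψ (DFunLike.ext _ _ fun c => ?_)
        have e := h ((c * (B (v : V) (w : V))⁻¹) • w)
        change ψ (B (v : V) ((c * (B (v : V) (w : V))⁻¹) • (w : V))) = 1 at e
        rwa [map_smul, smul_eq_mul, mul_assoc, inv_mul_cancel₀ hne, mul_one] at e }
  obtain ⟨u, hu⟩ := P.surj D
  refine ⟨u, funext fun v => ?_⟩
  have key : Q v + Q' v = B (v : V) (u : V) ^ 2 := by
    refine eq_of_squares hψ (c := 1) one_ne_zero fun s => ?_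
    have e := DFunLike.congr_fun hu (s • v)
    change ψ (B (u : V) (s • (v : V))) = ψ (Q (s • v) + Q' (s • v)) at e
    rw [map_smul, smul_eq_mul, alt_swap C.hA (v : V) (u : V), CharTwo.neg_eq, hQ.smul, hQ'.smul, ← mul_add,
      ← artin_sq hsq, mul_pow] at e
    rw [one_mul, one_mul]
    exact e.symm
  show Q' v = Q v + B (v : V) (u : V) ^ 2
  linear_combination key + CharTwo.add_self_eq_zero (Q v) * (-1 : F)

end Sums

end Frame

end Cfsg.Lib.Known.MinIndexSp
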