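import Cfsg.Agent.Known.MinIndexSp.Bounds
import Cfsg.Agent.Known.MinIndexSp.Quad

/-!
Characteristic two: orbits with full image carry quadratic forms.
-/

set_option autoImplicit false
set_option linter.unusedSectionVars false
set_option linter.unusedSimpArgs false
set_option linter.style.haveILetI false

namespace Cfsg.Lib.Known.MinIndexSp

open Cfsg.Lib.Classical

universe u v w

variable {F : Type u} [Field F] [Finite F] [CharP F 2] {V : Type v} [AddCommGroup V] [Module F V]
  [FiniteDimensional F V] {B : LinearMap.BilinForm F V} {X : Type w} [MulAction (BilinIsom B) X] [Fintype X]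

namespace Frame

variable (C : Frame B)

theorem stab_inv {x y : X} (h : y ∈ C.orb x) (u : C.U) (z : F) :
    rho C.hA C.a (u : V) z • y = y ↔ rho C.hA C.a (u : V) z • x = x := by
  obtain ⟨u', z', rfl⟩ := C.mem_orb.1 h
  have e : rho C.hA C.a (u' : V) z' * rho C.hA C.a (u : V) z * (rho C.hA C.a (u' : V) z')⁻¹ =
      rho C.hA C.a (u : V) z := by
    rw [rho_conj_rho C.hA (C.au u) (C.au u'), CharTwo.two_eq_zero, zero_mul, add_zero]
  conv_lhs => rw [← e]
  exact fix_conj _ _

/-- A form carried by the stabiliser of a point in the radical. -/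
def HasForm (ψ : AddChar F ℂ) (x : X) (c : F) (Q : C.U → F) : Prop :=
  c ≠ 0 ∧ C.IsQ Q ∧ ∀ (u : C.U) (z : F), rho C.hA C.a (u : V) z • x = x → ψ (c * (z + Q u)) = 1

variable {ψ : AddChar F ℂ}

theorem form_orb {x y : X} (h : y ∈ C.orb x) {c : F} {Q : C.U → F} (hx : C.HasForm ψ x c Q) :
    C.HasForm ψ y c Q :=
  ⟨hx.1, hx.2.1, fun u z e => hx.2.2 u z ((C.stab_inv h u z).1 e)⟩

theorem form_ann {x : X} {c : F} {Q : C.U → F} (hx : C.HasForm ψ x c Q) {z : F} (hz : z ∈ Z1 C.hA C.a x) :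
    ψ (c * z) = 1 := by
  have := hx.2.2 0 z (by rw [ZeroMemClass.coe_zero, rho_zero]; exact mem_Z1.1 hz)
  rwa [hx.2.1.zero, add_zero] at this

theorem exists_form (hψ : ψ ≠ 1) {x : X} (hK : C.Kb x = ⊤) {c : F} (hc : c ≠ 0)
    (hann : ∀ z ∈ Z1 C.hA C.a x, ψ (c * z) = 1) : ∃ Q, C.HasForm ψ x c Q := by
  have hex : ∀ u : C.U, ∃ z, rho C.hA C.a (u : V) z • x = x := fun u =>
    C.mem_Kb.1 (hK ▸ AddSubgroup.mem_top u : u ∈ C.Kb x)
  choose f hf using hex
  have hsame : ∀ (u : C.U) {z z' : F}, rho C.hA C.a (u : V) z • x = x → rho C.hA C.a (u : V) z' • x = x →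
      ψ (c * z) = ψ (c * z') := fun u z z' h h' => by
    have h1 : z + z' ∈ Z1 C.hA C.a x := by
      rw [mem_Z1]
      have e := rho_mul C.hA (C.au u) (C.au u) z z'
      rw [C.hA (u : V), add_zero, show (u : V) + u = 0 by
        rw [← two_smul F, CharTwo.two_eq_zero, zero_smul], rho_zero] at e
      rw [← e, mul_smul, h', h]
    calc ψ (c * z) = ψ (c * (z + z')) * ψ (c * z') := by
          rw [← AddChar.map_add_eq_mul, ← mul_add, add_assoc, CharTwo.add_self_eq_zero, add_zero]
      _ = _ := by rw [hann _ h1, one_mul]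
  have hadd : ∀ u v : C.U, ψ (c * f (u + v)) = ψ (c * f u) * ψ (c * f v) * ψ (c * B (u : V) (v : V)) := fun u v => by
    rw [← AddChar.map_add_eq_mul, ← AddChar.map_add_eq_mul, ← mul_add, ← mul_add]
    refine hsame (u + v) (hf _) ?_
    rw [show B (u : V) (v : V) = B (v : V) (u : V) by rw [alt_swap C.hA (v : V) (u : V), CharTwo.neg_eq],
      show ((u + v : C.U) : V) = (u : V) + (v : V) from rfl, ← rho_mul C.hA (C.au u) (C.au v), mul_smul, hf, hf]
  have hψc : ∀ θ : F, (∀ s, ψ (c * (s ^ 2 * θ)) = 1) → θ = 0 := fun θ h => eq_of_squares hψ hc (fun s => by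
    rw [h s, mul_zero, mul_zero, AddChar.map_zero_eq_one])
  let sqc : F → AddChar F ℂ := fun θ => ψ.compAddMonoidHom
    { toFun := fun s => c * (s ^ 2 * θ)
      map_zero' := by simp
      map_add' := fun s t => by rw [CharTwo.add_sq]; ring }
  have hsurj : Function.Surjective sqc := by
    have := Fintype.ofFinite F
    refine ((Fintype.bijective_iff_injective_and_card sqc).2 ⟨fun θ θ' e => eq_of_squares hψ hc fun s => ?_,
      AddChar.card_eq.symm⟩).2
    exact DFunLike.congr_fun e s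
  let line : C.U → AddChar F ℂ := fun u =>
    { toFun := fun s => ψ (c * f (s • u))
      map_zero_eq_one' := by
        show ψ (c * f ((0 : F) • u)) = 1
        rw [zero_smul]
        refine hann _ (mem_Z1.2 ?_)
        rw [← rho_zero]
        simpa using hf 0
      map_add_eq_mul' := fun s t => by
        show ψ (c * f ((s + t) • u)) = _
        rw [add_smul, hadd, Submodule.coe_smul, Submodule.coe_smul, map_smul, map_smul, LinearMap.smul_apply,
          C.hA (u : V), smul_zero, smul_zero, mul_zero, AddChar.map_zero_eq_one, mul_one] }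
  choose Q hQ using fun u : C.U => hsurj (line u)
  have hQ' : ∀ u s, ψ (c * (s ^ 2 * Q u)) = ψ (c * f (s • u)) := fun u s => DFunLike.congr_fun (hQ u) s
  refine ⟨Q, hc, ⟨fun u v => eq_of_squares hψ hc fun s => ?_, fun t u => eq_of_squares hψ hc fun s => ?_⟩,
    fun u z h => ?_⟩
  · rw [hQ', smul_add, hadd, ← hQ', ← hQ', Submodule.coe_smul, Submodule.coe_smul, map_smul, map_smul,
      LinearMap.smul_apply, smul_eq_mul, smul_eq_mul, ← AddChar.map_add_eq_mul, ← AddChar.map_add_eq_mul]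
    congr 1
    ring
  · rw [hQ', smul_smul, ← hQ', mul_pow]
    congr 1
    ring
  · have h1 := hQ' u 1
    rw [one_pow, one_mul, one_smul] at h1
    rw [mul_add, AddChar.map_add_eq_mul, h1, hsame u h (hf u), ← AddChar.map_add_eq_mul,
      CharTwo.add_self_eq_zero, AddChar.map_zero_eq_one]

theorem form_unique (hψ : ψ ≠ 1) {x : X} (hK : C.Kb x = ⊤) {c : F} {Q Q' : C.U → F} (h : C.HasForm ψ x c Q)
    (h' : C.HasForm ψ x c Q') : Q = Q' := by
  refine funext fun u => eq_of_squares hψ h.1 fun s => ?_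
  obtain ⟨z, hz⟩ := C.mem_Kb.1 (hK ▸ AddSubgroup.mem_top (s • u) : s • u ∈ C.Kb x)
  have e := (h.2.2 _ _ hz).trans (h'.2.2 _ _ hz).symm
  rw [h.2.1.smul, h'.2.1.smul, mul_add, mul_add, AddChar.map_add_eq_mul, AddChar.map_add_eq_mul] at e
  exact mul_left_cancel₀ (IsUnit.map ψ.toMonoidHom (Group.isUnit (Multiplicative.ofAdd (c * z)))).ne_zero e

theorem form_L {x : X} {c : F} {Q : C.U → F} (hx : C.HasForm ψ x c Q) (g : C.L) :
    C.HasForm ψ ((g : BilinIsom B) • x) c fun v => Q (C.res g⁻¹ v) := by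
  refine ⟨hx.1, hx.2.1.res C _, fun u z h => hx.2.2 _ z ?_⟩
  refine (fix_conj (X := X) (g : BilinIsom B) _).1 ?_
  rw [rho_conj, g.2.1, ← C.res_coe, C.res_inv']
  exact h

theorem form_dil {x : X} {c : F} {Q : C.U → F} (hx : C.HasForm ψ x c Q) (l : F) (hl : l ≠ 0) :
    C.HasForm ψ (C.dil l hl 1 (one_mul 1) • x) (c / l ^ 2) Q := by
  refine ⟨div_ne_zero hx.1 (pow_ne_zero _ hl), hx.2.1, fun u z h => ?_⟩
  have h1 := hx.2.2 (l⁻¹ • u) ((l ^ 2)⁻¹ * z) ((fix_conj (X := X) (C.dil l hl 1 (one_mul 1)) _).1 (by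
    rw [C.dil_rho, mul_one, smul_inv_smul₀ hl u, ← mul_assoc,
      mul_inv_cancel₀ (pow_ne_zero 2 hl), one_mul]
    exact h))
  rw [hx.2.1.smul] at h1
  convert h1 using 2
  field_simp

/-- The multiplication pairing of the field. -/
def mulPairing (ψ : AddChar F ℂ) (hψ : ψ ≠ 1) : Pairing F where
  χ v := ψ.compAddMonoidHom (AddMonoidHom.mulLeft v)
  add_left v v' w := by
    show ψ ((v + v') * w) = ψ (v * w) * ψ (v' * w)
    rw [add_mul, AddChar.map_add_eq_mul]
  nd v h := by
    by_contra hv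
    refine hψ (DFunLike.ext _ _ fun y => ?_)
    have e := h (v⁻¹ * y)
    change ψ (v * (v⁻¹ * y)) = 1 at e
    rwa [← mul_assoc, mul_inv_cancel₀ hv, one_mul] at e

theorem orb_card_full {x : X} (hK : C.Kb x = ⊤) :
    Nat.card (C.orb x) * Nat.card (Z1 C.hA C.a x) = Nat.card F := by
  have : Finite C.U := Module.finite_of_finite F
  have h := C.orb_card x
  rw [hK, AddSubgroup.card_top, ← mul_assoc] at h
  exact Nat.eq_of_mul_eq_mul_right Nat.card_pos h

open scoped _root_.Classical in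
/-- The full orbits cover the class of their form. -/
theorem full_le [Fintype C.U] (hψ : ψ ≠ 1) (hker : ∀ x, ψ x = 1 → ∃ s, s ^ 2 + s = x) {x : X}
    (hK : C.Kb x = ⊤) {c : F} {Q : C.U → F} (hx : C.HasForm ψ x c Q) :
    Nat.card F * (Finset.univ.filter fun v : C.U => ψ (Q v) = 1).card ≤ Nat.card {y : X // C.Kb y = ⊤} := by
  have := Fintype.ofFinite F
  set W := Finset.univ.filter fun v : C.U => ψ (Q v) = 1 with hW
  let Pairs : Finset (F × C.U) := (Finset.univ.erase (0 : F)) ×ˢ W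
  have hrep : ∀ p ∈ Pairs, ∃ y : X, C.Kb y = ⊤ ∧ C.HasForm ψ y p.1 (C.shiftQ Q p.2) ∧
      Nat.card (Z1 C.hA C.a y) = Nat.card (Z1 C.hA C.a x) := by
    intro p hp
    obtain ⟨hp1, hp2⟩ := Finset.mem_product.1 hp
    have hc' := Finset.ne_of_mem_erase hp1
    obtain ⟨l, hl⟩ := exists_sqrt' (c / p.1)
    have hl0 : l ≠ 0 := fun h => by
      rw [h, zero_pow two_ne_zero, eq_comm, div_eq_zero_iff] at hl
      exact hl.elim hx.1 hc'
    obtain ⟨g, hg⟩ := C.exists_shift hker hx.2.1 (Finset.mem_filter.1 hp2).2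
    refine ⟨C.dil l hl0 1 (one_mul 1) • ((g⁻¹ : C.L) : BilinIsom B) • x, ?_, ?_, ?_⟩
    · refine eq_top_iff.2 fun u _ => ?_
      have hu : u = (l * 1) • (l⁻¹ • u) := by rw [smul_smul, mul_one, mul_inv_cancel₀ hl0, one_smul]
      rw [hu, C.Kb_dil, C.Kb_L, hK]
      exact ⟨C.res g (l⁻¹ • u), trivial, C.res_inv g _⟩
    · have h1 := C.form_L hx g⁻¹
      rw [inv_inv, hg] at h1
      have h2 := C.form_dil h1 l hl0
      rwa [show c / l ^ 2 = p.1 by rw [hl]; field_simp [hx.1]] at h2
    · conv_rhs => rw [← C.Z1_L g⁻¹ x]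
      refine (Nat.card_congr ((Equiv.mulLeft₀ (l ^ 2) (pow_ne_zero 2 hl0)).subtypeEquiv fun z => ?_)).symm
      exact (C.Z1_dil l hl0 1 (one_mul 1) _).symm
  have : Nonempty X := ⟨x⟩
  choose! y hyK hyF hyZ using hrep
  set z := Nat.card (Z1 C.hA C.a x) with hz
  let Os : Finset (Set X) := Pairs.image fun p => C.orb (y p)
  let ann : Finset F := Finset.univ.filter fun e : F => e ≠ 0 ∧ ∀ t ∈ Z1 C.hA C.a x, ψ (e * t) = 1
  have hzpos : 0 < z := Nat.card_pos
  have hfib : ∀ O ∈ Os, ((Pairs.filter fun p => C.orb (y p) = O).card + 1) * z ≤ Nat.card F := by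
    intro O hO
    obtain ⟨p0, hp0, rfl⟩ := Finset.mem_image.1 hO
    have h1 : ∀ p ∈ Pairs.filter (fun p => C.orb (y p) = C.orb (y p0)),
        C.HasForm ψ (y p0) p.1 (C.shiftQ Q p.2) := fun p hp => by
      obtain ⟨hp, he⟩ := Finset.mem_filter.1 hp
      exact C.form_orb (by rw [he]; exact C.self_orb _) (hyF p hp)
    have hinj : Set.InjOn Prod.fst (Pairs.filter fun p => C.orb (y p) = C.orb (y p0) : Set (F × C.U)) := by
      intro p hp p' hp' e
      have e1 := h1 p hp
      rw [e] at e1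
      exact Prod.ext e (C.shiftQ_inj (C.form_unique hψ (hyK p0 hp0) e1 (h1 p' hp')))
    rw [← hyZ p0 hp0, ← (mulPairing ψ hψ).card_perp (Z1 C.hA C.a (y p0))]
    refine Nat.mul_le_mul_right _ ?_
    rw [← Finset.card_image_of_injOn hinj, ← Finset.card_insert_of_notMem (a := (0 : F)) (by
      rw [Finset.mem_image]
      rintro ⟨p, hp, e⟩
      exact (h1 p hp).1 e), Nat.card_eq_fintype_card, Fintype.card_subtype]
    refine Finset.card_le_card fun e he => Finset.mem_filter.2 ⟨Finset.mem_univ _, ?_⟩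
    intro t ht
    rw [Finset.mem_insert] at he
    rcases he with rfl | he
    · show ψ (0 * t) = 1
      rw [zero_mul, AddChar.map_zero_eq_one]
    · obtain ⟨p, hp, rfl⟩ := Finset.mem_image.1 he
      exact C.form_ann (h1 p hp) ht
  have hOy : ∀ O ∈ Os, ∃ p ∈ Pairs, C.orb (y p) = O := fun O hO => Finset.mem_image.1 hO
  have horbs : Os.card * Nat.card F ≤ Nat.card {w : X // C.Kb w = ⊤} * z := by
    have hd : (Os : Set (Set X)).PairwiseDisjoint fun O => O.toFinset := fun O hO O' hO' hne =>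
      Finset.disjoint_left.2 fun t ht ht' => hne (by
        obtain ⟨p, -, rfl⟩ := hOy O hO
        obtain ⟨p', -, rfl⟩ := hOy O' hO'
        rw [Set.mem_toFinset] at ht ht'
        rw [← C.orb_eq ht, C.orb_eq ht'])
    have hsum : ∑ O ∈ Os, O.toFinset.card * z = Os.card * Nat.card F := by
      rw [Finset.sum_congr rfl fun O hO => show O.toFinset.card * z = Nat.card F by
        obtain ⟨p, hp, rfl⟩ := hOy O hO
        rw [Set.toFinset_card, ← Nat.card_eq_fintype_card, ← hyZ p hp, C.orb_card_full (hyK p hp)],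
        Finset.sum_const, smul_eq_mul]
    rw [← hsum, ← Finset.sum_mul, ← Finset.card_biUnion hd, Nat.card_eq_fintype_card (α := {w : X // C.Kb w = ⊤}),
      Fintype.card_subtype]
    refine Nat.mul_le_mul_right _ (Finset.card_le_card fun t ht => ?_)
    obtain ⟨O, hO, ht⟩ := Finset.mem_biUnion.1 ht
    obtain ⟨p, hp, rfl⟩ := hOy O hO
    rw [Set.mem_toFinset] at ht
    exact Finset.mem_filter.2 ⟨Finset.mem_univ _, by rw [(C.inv_orb ht).2, hyK p hp]⟩
  have hcount : Pairs.card * z + Os.card * z ≤ Os.card * Nat.card F := by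
    rw [Finset.card_eq_sum_card_image (fun p => C.orb (y p)) Pairs, ← add_mul]
    calc ((∑ O ∈ Os, (Pairs.filter fun p => C.orb (y p) = O).card) + Os.card) * z
        = ∑ O ∈ Os, ((Pairs.filter fun p => C.orb (y p) = O).card + 1) * z := by
          rw [← Finset.sum_mul, Finset.sum_add_distrib, Finset.sum_const, smul_eq_mul, mul_one]
      _ ≤ Os.card * Nat.card F := by
          refine (Finset.sum_le_card_nsmul _ _ _ hfib).trans (le_of_eq ?_)
          rw [smul_eq_mul]
  have hP : Pairs.card = (Nat.card F - 1) * W.card := by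
    rw [Finset.card_product, Finset.card_erase_of_mem (Finset.mem_univ _), Finset.card_univ, Nat.card_eq_fintype_card]
  have hq : 1 < Nat.card F := Finite.one_lt_card
  rcases Nat.eq_zero_or_pos W.card with h0 | h0
  · rw [h0, mul_zero]; exact Nat.zero_le _
  have hOs : 0 < Os.card := by
    by_contra h
    push Not at h
    have h1 : Os.card = 0 := by omega
    rw [h1, zero_mul, zero_mul, add_zero, hP] at hcount
    have : 0 < (Nat.card F - 1) * W.card * z := Nat.mul_pos (Nat.mul_pos (by omega) h0) hzpos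
    omega
  rw [hP] at hcount
  set q := Nat.card F with hqdef
  set O := Os.card
  set full := Nat.card {w : X // C.Kb w = ⊤}
  obtain ⟨r, hr⟩ : ∃ r, q = r + 1 := ⟨q - 1, by omega⟩
  rw [hr, Nat.add_sub_cancel] at hcount
  rw [hr] at horbs ⊢
  have h1 : (r * W.card + O) * z ≤ O * (r + 1) := by rw [add_mul]; exact hcount
  have hWO : W.card ≤ O := by
    refine Nat.le_of_mul_le_mul_left ?_ (show 0 < r by omega)
    have h2 : r * W.card + O ≤ (r * W.card + O) * z := Nat.le_mul_of_pos_right _ hzpos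
    rw [mul_comm r O]
    rw [Nat.mul_succ] at h1
    omega
  refine Nat.le_of_mul_le_mul_right (c := z) (le_trans ?_ horbs) hzpos
  calc (r + 1) * W.card * z ≤ (r * W.card + O) * z := Nat.mul_le_mul_right _ (by rw [add_mul, one_mul]; omega)
    _ ≤ _ := h1

open scoped _root_.Classical in
theorem other_add {x : X} (hK : C.Kb x ≠ ⊤) :
    (C.imgs (C.Kb x)).card * Nat.card (C.orb x) + Nat.card {y : X // C.Kb y = ⊤} ≤ Nat.card X := by
  obtain ⟨S, hS, hinj, hmem⟩ := C.exists_reps x
  have hd : (S : Set X).PairwiseDisjoint fun y => (C.orb y).toFinset := fun y hy z hz hyz =>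
    Finset.disjoint_left.2 fun t ht ht' => hyz (hinj hy hz (by
      rw [Set.mem_toFinset] at ht ht'
      exact ((C.inv_orb ht).2.symm.trans (C.inv_orb ht').2)))
  have hnot : ∀ y ∈ S, C.Kb y ≠ ⊤ := fun y hy h => hK (by
    obtain ⟨g, hg⟩ := C.mem_imgs.1 (hmem y hy).2.1
    refine eq_top_iff.2 fun u _ => ?_
    rw [h] at hg
    exact C.mem_map_res.1 (by rw [hg]; trivial : C.res g u ∈ (C.Kb x).map (C.res g)))
  have h1 : (S.biUnion fun y => (C.orb y).toFinset) ⊆ Finset.univ.filter fun t : X => ¬ C.Kb t = ⊤ := fun t ht => by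
    obtain ⟨y, hy, ht⟩ := Finset.mem_biUnion.1 ht
    rw [Set.mem_toFinset] at ht
    exact Finset.mem_filter.2 ⟨Finset.mem_univ _, by rw [(C.inv_orb ht).2]; exact hnot y hy⟩
  have h2 := Finset.card_le_card h1
  rw [Finset.card_biUnion hd, Finset.sum_congr rfl fun y hy => show (C.orb y).toFinset.card = Nat.card (C.orb x) by
    rw [Set.toFinset_card, ← Nat.card_eq_fintype_card, (hmem y hy).2.2], Finset.sum_const, hS, smul_eq_mul] at h2
  refine le_trans (Nat.add_le_add_right h2 _) (le_of_eq ?_)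
  rw [Nat.card_eq_fintype_card, Fintype.card_subtype, Nat.card_eq_fintype_card, add_comm]
  exact Finset.card_filter_add_card_filter_not _

end Frame

end Cfsg.Lib.Known.MinIndexSp
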