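import Cfsg.Agent.Known.MinIndexSp.Two
import Cfsg.Agent.Classical.Symp.Matrix

/-!
Attainment over two elements: the quadratic forms of minus sign.
-/

set_option autoImplicit false
set_option linter.unusedSectionVars false
set_option linter.unusedSimpArgs false
set_option linter.style.haveILetI false

namespace Cfsg.Lib.Known.MinIndexSp

open Cfsg.Lib.Classical

universe u v

section Abstract

variable {F : Type u} [Field F] [Finite F] [CharP F 2] {V : Type v} [AddCommGroup V] [Module F V]
  [FiniteDimensional F V] {B : LinearMap.BilinForm F V}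

theorem swap_two (hA : B.IsAlt) (x y : V) : B y x = B x y := by rw [alt_swap hA x y, CharTwo.neg_eq]

/-- A form with fewer ones than zeros gives a subgroup whose index is the number of its ones. -/
theorem exists_index (h2 : Nat.card F = 2) (hA : B.IsAlt) (hB : B.Nondegenerate) (Q : V → F)
    (hQ : ∀ x y, Q (x + y) = Q x + Q y + B x y) {K : ℕ} (hK : Nat.card {x : V // Q x = 1} = K) (hK0 : 0 < K)
    (hK2 : 2 * K < Nat.card V) : ∃ M : Subgroup (BilinIsom B), M.index = K := by
  have : Finite V := Module.finite_of_finite F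
  let S : V → V → F := fun w x => Q x + B x w
  -- the number of ones of a shifted form
  have hrest : Nat.card {x : V // Q x ≠ 1} + K = Nat.card V := by
    classical
    rw [← hK, add_comm, ← Nat.card_sum]
    exact Nat.card_congr (Equiv.sumCompl _)
  have hQ0 : Q 0 = 0 := by
    have h := hQ 0 0
    simpa [CharTwo.add_self_eq_zero] using h
  have hones : ∀ w, (Q w = 1 → Nat.card {x : V // S w x = 1} + K = Nat.card V) ∧
      (Q w = 0 → Nat.card {x : V // S w x = 1} = K) := by
    intro w
    have e : ∀ x, S w x = Q (x + w) + Q w := fun x => by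
      rw [hQ]
      linear_combination -CharTwo.add_self_eq_zero (Q w)
    refine ⟨fun hw => ?_, fun hw => ?_⟩
    · rw [← hrest]
      congr 1
      refine Nat.card_congr ((Equiv.addRight w).subtypeEquiv fun x => ?_)
      rw [e, hw, Equiv.coe_addRight]
      rcases two_cases h2 (Q (x + w)) with h | h <;> simp [h, CharTwo.add_self_eq_zero]
    · rw [← hK]
      refine Nat.card_congr ((Equiv.addRight w).subtypeEquiv fun x => ?_)
      rw [e, hw, Equiv.coe_addRight, add_zero]
  obtain ⟨w0, hw0⟩ : ∃ w, Q w = 1 := by
    by_contra h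
    push Not at h
    have : IsEmpty {x : V // Q x = 1} := ⟨fun x => h x.1 x.2⟩
    rw [Nat.card_of_isEmpty] at hK
    omega
  let M : Subgroup (BilinIsom B) :=
    { carrier := {g | ∀ x, S w0 ((g : V ≃ₗ[F] V) x) = S w0 x}
      one_mem' := fun x => rfl
      mul_mem' := fun {g h} hg hh x => by rw [BilinIsom.mul_apply', hg, hh]
      inv_mem' := fun {g} hg x => by
        conv_rhs => rw [← BilinIsom.apply_inv_self g x, hg] }
  have huniq : ∀ {w w' : V}, (∀ x, S w x = S w' x) → w = w' := fun {w w'} h => by
    refine sub_eq_zero.1 (hB.1 _ fun x => ?_)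
    have h1 := h x
    simp only [S, add_right_inj] at h1
    rw [swap_two hA x, map_sub, h1, sub_self]
  have hex : ∀ g : BilinIsom B, ∃ w : {w : V // Q w = 1}, ∀ x, S w0 (((g⁻¹ : BilinIsom B) : V ≃ₗ[F] V) x) = S w.1 x := by
    intro g
    let d : V → F := fun x => S w0 (((g⁻¹ : BilinIsom B) : V ≃ₗ[F] V) x) + Q x
    have hadd : ∀ x y, d (x + y) = d x + d y := fun x y => by
      simp only [d, S, map_add, hQ, LinearMap.add_apply, BilinIsom.map_form]
      linear_combination CharTwo.add_self_eq_zero (B x y)
    let D : Module.Dual F V :=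
      { toFun := d
        map_add' := hadd
        map_smul' := fun c x => by
          rcases two_cases h2 c with rfl | rfl
          · rw [RingHom.id_apply, zero_smul, zero_smul]
            simp [d, S, hQ0]
          · rw [RingHom.id_apply, one_smul, one_smul] }
    obtain ⟨w, hw⟩ := (B.toDual hB).surjective D
    have hS : ∀ x, S w0 (((g⁻¹ : BilinIsom B) : V ≃ₗ[F] V) x) = S w x := fun x => by
      have h1 : B w x = d x := LinearMap.congr_fun hw x
      show _ = Q x + B x w
      rw [swap_two hA w x, h1]
      simp only [d]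
      linear_combination -CharTwo.add_self_eq_zero (Q x)
    have hcard : Nat.card {x : V // S w x = 1} = Nat.card {x : V // S w0 x = 1} :=
      Nat.card_congr (((g⁻¹ : BilinIsom B) : V ≃ₗ[F] V).toEquiv.subtypeEquiv fun x => by
        show S w x = 1 ↔ _
        rw [← hS]
        rfl)
    refine ⟨⟨w, (two_cases h2 (Q w)).resolve_left fun h => ?_⟩, hS⟩
    have h1 := (hones w0).1 hw0
    have h3 := (hones w).2 h
    omega
  choose f hf using hex
  have key : ∀ g h : BilinIsom B, g⁻¹ * h ∈ M ↔ f g = f h := by
    intro g h
    constructor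
    · intro hm
      refine Subtype.ext (huniq fun x => ?_)
      rw [← hf, ← hf, ← hm (((h⁻¹ : BilinIsom B) : V ≃ₗ[F] V) x), BilinIsom.mul_apply', BilinIsom.apply_inv_self]
    · intro e x
      rw [BilinIsom.mul_apply', hf, e, ← hf, BilinIsom.inv_apply_self]
  refine ⟨M, ?_⟩
  rw [← hK, Subgroup.index]
  let fq : BilinIsom B ⧸ M → {w : V // Q w = 1} :=
    Quotient.lift f fun g h e => (key g h).1 (QuotientGroup.leftRel_apply.1 e)
  refine Nat.card_congr (Equiv.ofBijective fq ⟨?_, ?_⟩)
  · intro x y e
    induction x using QuotientGroup.induction_on with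
    | _ g =>
      induction y using QuotientGroup.induction_on with
      | _ h => exact QuotientGroup.eq.2 ((key g h).2 e)
  · intro w
    refine ⟨((sympT hA (w0 + w.1) 1)⁻¹ : BilinIsom B), ?_⟩
    show f _ = w
    refine Subtype.ext (huniq fun x => ?_)
    rw [← hf, inv_inv, sympT_apply, one_mul]
    show Q _ + B _ w0 = Q x + B x w.1
    have hBw : B w.1 w0 = B w0 w.1 := swap_two hA _ _
    rcases two_cases h2 (B x (w0 + w.1)) with hb | hb
    · rw [hb, zero_smul, add_zero]
      rw [map_add] at hb
      linear_combination hb - CharTwo.add_self_eq_zero (B x w.1)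
    · rw [hb, one_smul, hQ, hQ, hb, hw0, w.2]
      simp only [map_add, LinearMap.add_apply, hA w0, hBw]
      rw [map_add] at hb
      linear_combination hb + (2 : F) * CharTwo.add_self_eq_zero (1 : F) + CharTwo.add_self_eq_zero (B w0 w.1)
        - CharTwo.add_self_eq_zero (B x w.1)

end Abstract

section Standard

variable {F : Type u} [Field F] [Fintype F] [CharP F 2] {m : ℕ}

/-- The hyperbolic quadratic form. -/
def plusForm (x : Fin m ⊕ Fin m → F) : F := ∑ i, x (Sum.inl i) * x (Sum.inr i)

theorem plusForm_add (x y : Fin m ⊕ Fin m → F) :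
    plusForm (x + y) = plusForm x + plusForm y + sympBilin m F x y := by
  rw [sympBilin_eq_sum, plusForm, plusForm, plusForm, ← Finset.sum_add_distrib, ← Finset.sum_add_distrib]
  refine Finset.sum_congr rfl fun i _ => ?_
  simp only [Pi.add_apply, sub_eq_add_neg, CharTwo.neg_eq]
  ring

theorem plusForm_ones (h2 : Nat.card F = 2) (hm : 1 ≤ m) :
    Nat.card {x : Fin m ⊕ Fin m → F // plusForm x = 1} = 2 ^ (m - 1) * (2 ^ m - 1) := by
  classical
  have hfib : ∀ a : Fin m → F, Nat.card {b : Fin m → F // ∑ i, a i * b i = 1} =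
      if a = 0 then 0 else 2 ^ (m - 1) := by
    intro a
    split_ifs with ha
    · subst ha
      have : IsEmpty {b : Fin m → F // ∑ i, (0 : Fin m → F) i * b i = 1} := ⟨fun b => by simpa using b.2⟩
      exact Nat.card_of_isEmpty
    · obtain ⟨j, hj⟩ : ∃ j, a j ≠ 0 := by
        by_contra h
        push Not at h
        exact ha (funext h)
      let φ : (Fin m → F) →+ F :=
        { toFun := fun b => ∑ i, a i * b i
          map_zero' := by simp
          map_add' := fun b b' => by simp [mul_add, Finset.sum_add_distrib] }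
      let b0 : Fin m → F := Pi.single j (a j)⁻¹
      have hb0 : φ b0 = 1 := by
        show ∑ i, a i * b0 i = 1
        rw [Finset.sum_eq_single j (fun i _ hi => by simp [b0, hi]) (by simp)]
        simp [b0, hj]
      have hsurj : Function.Surjective φ := fun c => by
        rcases two_cases h2 c with rfl | rfl
        · exact ⟨0, map_zero φ⟩
        · exact ⟨b0, hb0⟩
      have h := φ.ker.index_mul_card
      rw [AddSubgroup.index_ker, AddMonoidHom.range_eq_top.2 hsurj, AddSubgroup.card_top, h2, Nat.card_fun,
        Nat.card_fin, h2] at h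
      have e : Nat.card {b : Fin m → F // φ b = 1} = Nat.card φ.ker :=
        Nat.card_congr ((Equiv.addRight b0).subtypeEquiv fun b => by
          rw [AddMonoidHom.mem_ker, Equiv.coe_addRight, map_add, hb0]
          rcases two_cases h2 (φ b) with hc | hc <;> simp [hc, CharTwo.add_self_eq_zero])
      refine e.trans (Nat.eq_of_mul_eq_mul_left (show 0 < 2 by norm_num) (h.trans ?_))
      rw [← pow_succ', Nat.sub_add_cancel hm]
  have e : Nat.card {x : Fin m ⊕ Fin m → F // plusForm x = 1} =
      Nat.card ((a : Fin m → F) × {b : Fin m → F // ∑ i, a i * b i = 1}) :=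
    Nat.card_congr (((Equiv.sumArrowEquivProdArrow (Fin m) (Fin m) F).subtypeEquiv
      (q := fun p => ∑ i, p.1 i * p.2 i = 1) fun x => Iff.rfl).trans
        (Equiv.subtypeProdEquivSigmaSubtype fun (a b : Fin m → F) => ∑ i, a i * b i = 1))
  rw [e, Nat.card_sigma, Finset.sum_congr rfl fun a _ => hfib a, Finset.sum_ite, Finset.sum_const_zero, zero_add,
    Finset.sum_const, smul_eq_mul, Finset.filter_ne' Finset.univ (0 : Fin m → F),
    Finset.card_erase_of_mem (Finset.mem_univ _), Finset.card_univ, Fintype.card_fun, Fintype.card_fin,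
    ← Nat.card_eq_fintype_card, h2, mul_comm]

end Standard

end Cfsg.Lib.Known.MinIndexSp
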