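import Cfsg.Agent.Known.MinIndexSp.Rho

/-!
A hyperbolic pair and the space orthogonal to it.
-/

set_option autoImplicit false
set_option linter.unusedSectionVars false
set_option linter.unusedSimpArgs false
set_option linter.style.haveILetI false

namespace Cfsg.Lib.Known.MinIndexSp

open Cfsg.Lib.Classical

universe u v

variable {F : Type u} [Field F] {V : Type v} [AddCommGroup V] [Module F V]

/-- An alternating form with a hyperbolic pair. -/
structure Frame (B : LinearMap.BilinForm F V) where
  n : ℕ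
  hA : B.IsAlt
  hB : B.Nondegenerate
  hn : 1 ≤ n
  hdim : Module.finrank F V = 2 * (n + 1)
  a : V
  b : V
  hab : B a b = 1

variable {B : LinearMap.BilinForm F V}

namespace Frame

variable (C : Frame B)

local notation "GG" => BilinIsom B

theorem hba : B C.b C.a = -1 := by rw [alt_swap C.hA, C.hab]

theorem ha0 : C.a ≠ 0 := fun h => by
  have := C.hab
  rw [h, map_zero, LinearMap.zero_apply] at this
  exact zero_ne_one this

/-- The orthogonal space of the pair. -/
def U : Submodule F V := LinearMap.ker (B C.a) ⊓ LinearMap.ker (B C.b)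

theorem mem_U {x : V} : x ∈ C.U ↔ B C.a x = 0 ∧ B C.b x = 0 := Iff.rfl

theorem au (u : C.U) : B C.a (u : V) = 0 := u.2.1

theorem bu (u : C.U) : B C.b (u : V) = 0 := u.2.2

theorem ua (u : C.U) : B (u : V) C.a = 0 := alt_zero C.hA (C.au u)

theorem ub (u : C.U) : B (u : V) C.b = 0 := alt_zero C.hA (C.bu u)

theorem proj_mem (x : V) : x - B x C.b • C.a + B x C.a • C.b ∈ C.U := by
  rw [C.mem_U]
  simp only [map_add, map_sub, map_smul, C.hA C.a, C.hA C.b, C.hab, C.hba, alt_swap C.hA x, smul_eq_mul]
  exact ⟨by ring, by ring⟩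

/-- The space split along the pair. -/
def split : V ≃ₗ[F] (C.U × F × F) where
  toFun x := (⟨_, C.proj_mem x⟩, B x C.b, B x C.a)
  map_add' x y := by
    refine Prod.ext (Subtype.ext ?_) (Prod.ext (by simp) (by simp))
    simp only [map_add, LinearMap.add_apply, Prod.mk_add_mk, Submodule.coe_add]
    module
  map_smul' c x := by
    refine Prod.ext (Subtype.ext ?_) (Prod.ext (by simp) (by simp))
    simp only [map_smul, LinearMap.smul_apply, RingHom.id_apply, Prod.smul_mk, Submodule.coe_smul, smul_eq_mul]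
    module
  invFun p := (p.1 : V) + p.2.1 • C.a - p.2.2 • C.b
  left_inv x := by
    simp only
    module
  right_inv p := by
    refine Prod.ext (Subtype.ext ?_) (Prod.ext ?_ ?_) <;>
      simp only [map_add, map_sub, map_smul, LinearMap.add_apply, LinearMap.sub_apply, LinearMap.smul_apply,
        C.ua p.1, C.ub p.1, C.hA C.a, C.hA C.b, C.hab, C.hba, smul_eq_mul, mul_zero, mul_one, mul_neg, zero_add,
        add_zero, sub_zero, neg_neg, sub_neg_eq_add]
    · module

theorem nd_U {w : C.U} (h : ∀ v : C.U, B (w : V) v = 0) : w = 0 := by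
  refine Subtype.ext (C.hB.1 _ fun x => ?_)
  have e := h ⟨_, C.proj_mem x⟩
  simpa [C.ua w, C.ub w] using e

theorem exists_pair {w : C.U} (hw : w ≠ 0) : ∃ v : C.U, B (v : V) w = 1 := by
  obtain ⟨v, hv⟩ : ∃ v : C.U, B (v : V) w ≠ 0 := by
    by_contra h
    push Not at h
    exact hw (C.nd_U fun v => alt_zero C.hA (h v))
  exact ⟨(B (v : V) w)⁻¹ • v, by simp [hv]⟩

theorem finrank_U [FiniteDimensional F V] : Module.finrank F C.U = 2 * C.n := by
  have h := C.split.finrank_eq
  rw [C.hdim, Module.finrank_prod, Module.finrank_prod, Module.finrank_self] at h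
  omega

theorem card_U [Finite F] [FiniteDimensional F V] : Nat.card C.U = Nat.card F ^ (2 * C.n) := by
  rw [Module.natCard_eq_pow_finrank (K := F), C.finrank_U]

theorem card_V [Finite F] [FiniteDimensional F V] : Nat.card V = Nat.card F ^ 2 * Nat.card C.U := by
  rw [Module.natCard_eq_pow_finrank (K := F), C.hdim, C.card_U, ← pow_add]
  congr 1
  ring

/-- The isometries fixing the pair. -/
def L : Subgroup GG where
  carrier := {g | (g : V ≃ₗ[F] V) C.a = C.a ∧ (g : V ≃ₗ[F] V) C.b = C.b}
  one_mem' := ⟨rfl, rfl⟩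
  mul_mem' {g h} hg hh := ⟨by rw [BilinIsom.mul_apply', hh.1, hg.1], by rw [BilinIsom.mul_apply', hh.2, hg.2]⟩
  inv_mem' {g} hg := ⟨by conv_lhs => rw [← hg.1]; exact BilinIsom.inv_apply_self g _,
    by conv_lhs => rw [← hg.2]; exact BilinIsom.inv_apply_self g _⟩

theorem L_map_mem (g : C.L) (u : C.U) : ((g : GG) : V ≃ₗ[F] V) (u : V) ∈ C.U := by
  rw [C.mem_U]
  constructor
  · conv_lhs => rw [← g.2.1]
    rw [BilinIsom.map_form, C.au]
  · conv_lhs => rw [← g.2.2]
    rw [BilinIsom.map_form, C.bu]

/-- An isometry fixing the pair, on the orthogonal space. -/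
def res (g : C.L) : C.U →+ C.U where
  toFun u := ⟨_, C.L_map_mem g u⟩
  map_zero' := Subtype.ext (map_zero _)
  map_add' u u' := Subtype.ext (map_add _ _ _)

theorem res_coe (g : C.L) (u : C.U) : (C.res g u : V) = ((g : GG) : V ≃ₗ[F] V) (u : V) := rfl

theorem res_mul (g h : C.L) (u : C.U) : C.res (g * h) u = C.res g (C.res h u) := rfl

theorem res_inv (g : C.L) (u : C.U) : C.res g⁻¹ (C.res g u) = u :=
  Subtype.ext (BilinIsom.inv_apply_self (g : GG) _)

theorem res_inv' (g : C.L) (u : C.U) : C.res g (C.res g⁻¹ u) = u :=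
  Subtype.ext (BilinIsom.apply_inv_self (g : GG) _)

theorem res_inj (g : C.L) : Function.Injective (C.res g) := Function.LeftInverse.injective (C.res_inv g)

theorem res_form (g : C.L) (u w : C.U) : B (C.res g u : V) (C.res g w) = B (u : V) w :=
  BilinIsom.map_form (g : GG) _ _

theorem res_smul (g : C.L) (c : F) (u : C.U) : C.res g (c • u) = c • C.res g u :=
  Subtype.ext (map_smul _ _ _)

/-- A transvection with centre orthogonal to the pair. -/
def tU (w : C.U) (c : F) : C.L :=
  ⟨sympT C.hA (w : V) c, by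
    constructor <;> rw [sympT_apply]
    · simp [C.au w]
    · simp [C.bu w]⟩

theorem tU_coe (w : C.U) (c : F) : ((C.tU w c : C.L) : GG) = sympT C.hA (w : V) c := rfl

theorem res_tU (w : C.U) (c : F) (u : C.U) : C.res (C.tU w c) u = u + (c * B (u : V) w) • w :=
  Subtype.ext (by rw [C.res_coe, C.tU_coe, sympT_apply]; rfl)

theorem exists_trans [FiniteDimensional F V] {v w : C.U} (hv : v ≠ 0) (hw : w ≠ 0) :
    ∃ g : C.L, C.res g v = w := by
  have hout : ∀ {x : C.U}, x ≠ 0 → (x : V) ∉ Submodule.span F ({C.a, C.b} : Set V) := fun {x} hx h => by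
    obtain ⟨s, t, e⟩ := Submodule.mem_span_pair.1 h
    refine hx (C.nd_U fun y => ?_)
    rw [← e]
    simp [C.au y, C.bu y]
  obtain ⟨g, -, hg, hfix⟩ := exists_transGroup_move C.hA C.hB (Submodule.span F ({C.a, C.b} : Set V))
    (hout hv) (hout hw) fun z hz => by
      obtain ⟨s, t, rfl⟩ := Submodule.mem_span_pair.1 hz
      simp [C.au v, C.au w, C.bu v, C.bu w]
  exact ⟨⟨g, hfix _ (Submodule.subset_span (by simp)), hfix _ (Submodule.subset_span (by simp))⟩,
    Subtype.ext hg⟩

theorem vectors_trans [FiniteDimensional F V] (C : Frame B) {x y : V} (hx : x ≠ 0) (hy : y ≠ 0) :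
    ∃ g : GG, (g : V ≃ₗ[F] V) x = y :=
  sympIsom_transitive C.hA C.hB hx hy

/-- The frame of another pair. -/
def move (a b : V) (h : B a b = 1) : Frame B := { C with a := a, b := b, hab := h }

end Frame

end Cfsg.Lib.Known.MinIndexSp
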