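import Cfsg.Agent.Known.MinIndexSp.Family

/-!
Lifting elements of the Levi part to a point stabiliser through a fixed point of a diagonal element.
-/

set_option autoImplicit false
set_option linter.unusedSectionVars false
set_option linter.unusedSimpArgs false
set_option linter.style.haveILetI false

namespace Cfsg.Lib.Known.MinIndexSp

open Cfsg.Lib.Classical

universe u v w

variable {F : Type u} [Field F] [Finite F] {V : Type v} [AddCommGroup V] [Module F V] [FiniteDimensional F V]
  {B : LinearMap.BilinForm F V}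

/-- A proper subgroup has at most half the elements. -/
theorem two_card_le {G : Type*} [AddGroup G] [Finite G] {K : AddSubgroup G} (hK : K ≠ ⊤) :
    2 * Nat.card K ≤ Nat.card G := by
  have h1 := K.index_mul_card
  have h2 : 2 ≤ K.index := by
    have h3 : K.index ≠ 0 := AddSubgroup.index_ne_zero_of_finite
    have h4 : K.index ≠ 1 := fun h => hK (AddSubgroup.index_eq_one.1 h)
    omega
  rw [← h1]
  exact Nat.mul_le_mul_right _ h2

/-- A proper subgroup of a group of odd order has at most a third of the elements. -/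
theorem three_card_le {G : Type*} [AddGroup G] [Finite G] (hG : Odd (Nat.card G)) {K : AddSubgroup G} (hK : K ≠ ⊤) :
    3 * Nat.card K ≤ Nat.card G := by
  have h1 := K.index_mul_card
  have h2 : 3 ≤ K.index := by
    have h3 : K.index ≠ 0 := AddSubgroup.index_ne_zero_of_finite
    have h4 : K.index ≠ 1 := fun h => hK (AddSubgroup.index_eq_one.1 h)
    have h5 : Odd K.index := hG.of_dvd_nat K.index_dvd_card
    rcases h5 with ⟨k, hk⟩
    omega
  rw [← h1]
  exact Nat.mul_le_mul_right _ h2

variable {X : Type w} [MulAction (BilinIsom B) X] [Fintype X]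

theorem Z1_all_bot (hA : B.IsAlt) (C : Frame B) (h : ∀ x : X, Z1 hA C.a x = ⊥) {v : V} (hv : v ≠ 0) (x : X) :
    Z1 hA v x = ⊥ := by
  obtain ⟨g, hg⟩ := sympIsom_transitive C.hA C.hB hv C.ha0
  rw [← Z1_map hA g v x, hg]
  exact h _

/-- A fixed point of a permutation of prime order on a stable set of coprime size. -/
theorem exists_fixed (g : BilinIsom B) {r : ℕ} [hr : Fact r.Prime] (hgr : g ^ r = 1) (O : Set X)
    (hO : ∀ x ∈ O, g • x ∈ O) (hcop : ¬ r ∣ Nat.card O) : ∃ y ∈ O, g • y = y := by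
  classical
  let σ : Function.End O := fun x => ⟨g • x.1, hO _ x.2⟩
  have hinj : Function.Injective σ := fun x y e => Subtype.ext (MulAction.injective g (congrArg Subtype.val e))
  let π : Equiv.Perm O := Equiv.ofBijective σ (Finite.injective_iff_bijective.1 hinj)
  have hπ : ∀ (k : ℕ) (x : O), ((π ^ k) x : X) = g ^ k • (x : X) := by
    intro k
    induction k with
    | zero => intro x; simp
    | succ k ih =>
      intro x
      rw [pow_succ', pow_succ', Equiv.Perm.mul_apply, mul_smul, ← ih]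
      rfl
  obtain ⟨a, ha⟩ := Equiv.Perm.exists_fixed_point_of_prime (p := r) (n := 1) (σ := π)
    (by rw [← Nat.card_eq_fintype_card]; exact hcop)
    (Equiv.ext fun x => Subtype.ext (by rw [pow_one, hπ, hgr, one_smul]; rfl))
  exact ⟨a.1, a.2, congrArg Subtype.val ha⟩

namespace Frame

variable (C : Frame B)

theorem dil_pow (l : F) (hl : l ≠ 0) (ε : F) (hε : ε * ε = 1) (k : ℕ) (x : V) :
    (((C.dil l hl ε hε) ^ k : BilinIsom B) : V ≃ₗ[F] V) x = C.dilLin (l ^ k) (l⁻¹ ^ k) (ε ^ k) x := by
  induction k generalizing x with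
  | zero => rw [pow_zero, pow_zero, pow_zero, pow_zero, C.dilLin_one, BilinIsom.one_apply']
  | succ k ih =>
    rw [pow_succ', BilinIsom.mul_apply', ih, pow_succ', pow_succ', pow_succ']
    exact C.dilLin_comp _ _ _ _ _ _ x

theorem dil_pow_eq_one (l : F) (hl : l ≠ 0) (ε : F) (hε : ε * ε = 1) {k : ℕ} (h1 : l ^ k = 1) (h2 : ε ^ k = 1) :
    (C.dil l hl ε hε) ^ k = 1 :=
  BilinIsom.ext' fun x => by rw [C.dil_pow, h1, h2, inv_pow, h1, inv_one, C.dilLin_one, BilinIsom.one_apply']

theorem dil_comm (l : F) (hl : l ≠ 0) (ε : F) (hε : ε * ε = 1) (m : F) (hm : m ≠ 0) (δ : F) (hδ : δ * δ = 1) :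
    C.dil l hl ε hε * C.dil m hm δ hδ = C.dil m hm δ hδ * C.dil l hl ε hε :=
  BilinIsom.ext' fun x => by
    rw [BilinIsom.mul_apply', BilinIsom.mul_apply', C.dil_apply, C.dil_apply, C.dil_apply, C.dil_apply,
      ← C.dilLin_apply l, ← C.dilLin_apply l, ← C.dilLin_apply m, ← C.dilLin_apply m, C.dilLin_comp, C.dilLin_comp,
      mul_comm l, mul_comm l⁻¹, mul_comm ε]

theorem dil_t (l : F) (hl : l ≠ 0) (ε : F) (hε : ε * ε = 1) (z : F) :
    C.dil l hl ε hε * sympT C.hA C.a z * (C.dil l hl ε hε)⁻¹ = sympT C.hA C.a (l ^ 2 * z) := by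
  rw [sympT_conj, C.dil_a, sympT_smul]

theorem t_mul_rho (u : C.U) (z z' : F) :
    sympT C.hA C.a z * rho C.hA C.a (u : V) z' = rho C.hA C.a (u : V) (z + z') := by
  rw [← rho_zero, rho_mul C.hA (map_zero _) (C.au u), zero_add, map_zero, add_zero]

/-- Odd characteristic: an element centralising the central involution lifts up to the centre. -/
theorem odd_lift (h2 : (2 : F) ≠ 0) {y : X} (hy : C.dil 1 one_ne_zero (-1) (by ring) • y = y)
    {g : BilinIsom B} (hg : C.dil 1 one_ne_zero (-1) (by ring) * g = g * C.dil 1 one_ne_zero (-1) (by ring))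
    (hgy : g • y ∈ C.orb y) : ∃ z, sympT C.hA C.a z • g • y = y := by
  have : Finite C.U := Module.finite_of_finite F
  obtain ⟨u, z, hq⟩ := C.mem_orb.1 hgy
  set h := C.dil 1 one_ne_zero (-1) (by ring) with hh
  have h3 : rho C.hA C.a (((1 * -1 : F) • u : C.U) : V) (1 ^ 2 * z) • y = g • y := by
    have e := congrArg (fun x : X => h • x) hq
    rw [smul_smul, ← inv_mul_cancel_right (h * rho C.hA C.a (u : V) z) h, hh, C.dil_rho, ← hh, mul_smul, hy] at e
    rw [e, smul_smul, hg, mul_smul, hy]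
  rw [one_pow, one_mul, one_mul, neg_one_smul] at h3
  have h4 : rho C.hA C.a (((u + u : C.U)) : V) (-z + z + B (u : V) (u : V)) • y = y := by
    have e : (rho C.hA C.a ((-u : C.U) : V) z)⁻¹ • rho C.hA C.a (u : V) z • y = y := by
      rw [hq, ← h3, inv_smul_smul]
    rw [rho_inv C.hA (C.au _), smul_smul, show ((-u : C.U) : V) = -(u : V) from rfl, neg_neg,
      rho_mul C.hA (C.au u) (C.au u)] at e
    exact e
  have hK : u + u ∈ C.Kb y := C.mem_Kb.2 ⟨_, h4⟩
  have hu : u ∈ C.Kb y := by
    let f : C.Kb y → C.Kb y := fun k => k + k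
    have hf : Function.Injective f := fun k k' e => by
      have e' : ((k : C.U) : C.U) + k = (k' : C.U) + k' := congrArg Subtype.val e
      refine Subtype.ext (smul_right_injective C.U h2 ?_)
      simp only [two_smul]
      exact e'
    obtain ⟨k, hk⟩ := (Finite.injective_iff_surjective.1 hf) ⟨u + u, hK⟩
    have hk' : (k : C.U) + k = u + u := congrArg Subtype.val hk
    have : (k : C.U) = u := smul_right_injective C.U h2 (by simpa [two_smul] using hk')
    exact this ▸ k.2
  obtain ⟨z', hz'⟩ := C.mem_Kb.1 hu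
  refine ⟨z' - z, ?_⟩
  rw [← hq, smul_smul, C.t_mul_rho, sub_add_cancel]
  exact hz'

/-- Characteristic two: an element centralising a torus element fixes its fixed point. -/
theorem even_lift [CharP F 2] {l : F} (hl : l ≠ 0) (hl1 : l ≠ 1) {y : X}
    (hy : C.dil l hl 1 (one_mul 1) • y = y) {g : BilinIsom B}
    (hg : C.dil l hl 1 (one_mul 1) * g = g * C.dil l hl 1 (one_mul 1)) (hgy : g • y ∈ C.orb y) : g • y = y := by
  have : Finite C.U := Module.finite_of_finite F
  set h := C.dil l hl 1 (one_mul 1) with hh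
  obtain ⟨u, z, hq⟩ := C.mem_orb.1 hgy
  have hconj : ∀ (w : C.U) (t : F),
      h • rho C.hA C.a (w : V) t • y = rho C.hA C.a ((l • w : C.U) : V) (l ^ 2 * t) • y := fun w t => by
    rw [smul_smul, ← inv_mul_cancel_right (h * rho C.hA C.a (w : V) t) h, hh, C.dil_rho, ← hh, mul_smul, hy,
      mul_one]
  have hB : ∀ w : C.U, B (w : V) (l • (w : V)) = 0 := fun w => by rw [map_smul, C.hA (w : V), smul_zero]
  have hneg : ∀ (w : C.U) (t : F), (rho C.hA C.a (w : V) t)⁻¹ = rho C.hA C.a (w : V) t := fun w t => by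
    have ew : -(w : V) = (w : V) := by rw [← neg_one_smul F (w : V), CharTwo.neg_eq (R := F), one_smul]
    rw [rho_inv C.hA (C.au w), ew, CharTwo.neg_eq (R := F) t]
  have hstep : ∀ (w : C.U) (t : F), h • rho C.hA C.a (w : V) t • y = rho C.hA C.a (w : V) t • y →
      rho C.hA C.a (((l + 1) • w : C.U) : V) ((l + 1) ^ 2 * t) • y = y := fun w t e => by
    rw [hconj] at e
    have e2 : (rho C.hA C.a (w : V) t)⁻¹ • rho C.hA C.a ((l • w : C.U) : V) (l ^ 2 * t) • y = y := by
      rw [e, inv_smul_smul]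
    rw [hneg, smul_smul, rho_mul C.hA (C.au w) (C.au _)] at e2
    convert e2 using 3
    · rw [Submodule.coe_smul, Submodule.coe_smul]; module
    · rw [Submodule.coe_smul, map_smul, LinearMap.smul_apply, C.hA (w : V), smul_zero, add_zero, CharTwo.add_sq,
        one_pow]
      ring
  let S := {p : C.U × F // rho C.hA C.a (p.1 : V) p.2 • y = y}
  let φ : S → S := fun p => ⟨((l + 1) • p.1.1, (l + 1) ^ 2 * p.1.2), hstep _ _ (by rw [p.2, hy])⟩
  have hl2 : l + 1 ≠ 0 := fun e => hl1 (by rw [← CharTwo.neg_eq (1 : F)]; exact eq_neg_of_add_eq_zero_left e)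
  have hφ : Function.Injective φ := fun p p' e => by
    have e' := congrArg Subtype.val e
    simp only [φ, Prod.mk.injEq] at e'
    exact Subtype.ext (Prod.ext (smul_right_injective C.U hl2 e'.1) (mul_left_cancel₀ (pow_ne_zero 2 hl2) e'.2))
  have hqq := hstep u z (by rw [hq, smul_smul, hg, mul_smul, hy])
  have hfin : Finite S := Subtype.finite
  obtain ⟨p, hp⟩ := (Finite.injective_iff_surjective.1 hφ) (⟨((l + 1) • u, (l + 1) ^ 2 * z), hqq⟩ : S)
  have hp' := congrArg Subtype.val hp
  simp only [φ, Prod.mk.injEq] at hp'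
  have h1 := smul_right_injective C.U hl2 hp'.1
  have h2 := mul_left_cancel₀ (pow_ne_zero 2 hl2) hp'.2
  rw [← hq, ← h1, ← h2]
  exact p.2

end Frame

end Cfsg.Lib.Known.MinIndexSp
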