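import Cfsg.Agent.Known.MinIndexSp.OddMain
import Cfsg.Agent.Known.MinIndexSp.Forms2
import Cfsg.Agent.Classical.Symp.Matrix
import Cfsg.Prelude.Def_Classical

/-!
The minimal index of a proper subgroup of the projective symplectic group.
-/

set_option autoImplicit false
set_option linter.unusedSectionVars false
set_option linter.unusedSimpArgs false
set_option linter.style.haveILetI false

namespace Cfsg.Lib.Known.MinIndexSp

open Cfsg.Lib.Classical

universe u v

section Abstract

variable {F : Type u} [Field F] [Finite F] {V : Type v} [AddCommGroup V] [Module F V] [FiniteDimensional F V]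
  {B : LinearMap.BilinForm F V}

theorem stab_ne_top {H : Subgroup (BilinIsom B)} (hH : H ≠ ⊤) (x : BilinIsom B ⧸ H) :
    MulAction.stabilizer (BilinIsom B) x ≠ ⊤ := by
  intro h
  induction x using QuotientGroup.induction_on with
  | _ g =>
    refine hH (eq_top_iff.2 fun k _ => ?_)
    have h1 : (g * k * g⁻¹) • ((g : BilinIsom B) : BilinIsom B ⧸ H) = (g : BilinIsom B) :=
      MulAction.mem_stabilizer_iff.1 (h ▸ Subgroup.mem_top _)
    rw [MulAction.Quotient.smul_coe, smul_eq_mul, inv_mul_cancel_right] at h1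
    have h2 := H.inv_mem (QuotientGroup.eq.1 h1)
    rwa [mul_inv_rev, inv_inv, inv_mul_cancel_left] at h2

theorem index_bound (C : Frame B) {H : Subgroup (BilinIsom B)} (hH : H ≠ ⊤) (hq : 3 ≤ Nat.card F)
    (hexc : ¬ (C.n = 1 ∧ Nat.card F = 3)) : Nat.card V - 1 ≤ H.index * (Nat.card F - 1) := by
  by_contra h
  push Not at h
  have := finite_isom (B := B)
  have := Fintype.ofFinite (BilinIsom B ⧸ H)
  have hd : Nat.card (BilinIsom B ⧸ H) * (Nat.card F - 1) + 1 < Nat.card V := by
    rw [← Subgroup.index]; omega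
  have := Fintype.ofFinite F
  by_cases hc : ringChar F = 2
  · have : CharP F 2 := ringChar.eq_iff.1 hc
    have h4 : 4 ≤ Nat.card F := by
      have h0 := (FiniteField.even_card_iff_char_two (F := F)).1 hc
      rw [← Nat.card_eq_fintype_card] at h0
      omega
    exact C.even_bound h4 hd (stab_ne_top hH)
  · have hodd : Odd (Nat.card F) := by
      rw [Nat.odd_iff, Nat.card_eq_fintype_card]
      have h0 : ¬ Fintype.card F % 2 = 0 := fun h0 => hc ((FiniteField.even_card_iff_char_two (F := F)).2 h0)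
      omega
    exact C.odd_bound hodd hexc hd (stab_ne_top hH)

theorem index_bound_two [CharP F 2] (C : Frame B) {H : Subgroup (BilinIsom B)} (hH : H ≠ ⊤) (h2 : Nat.card F = 2)
    (hn : 2 ≤ C.n) : 2 ^ C.n * (2 ^ (C.n + 1) - 1) ≤ H.index := by
  by_contra h
  push Not at h
  have := finite_isom (B := B)
  have := Fintype.ofFinite (BilinIsom B ⧸ H)
  refine C.two_bound h2 hn ?_ (stab_ne_top hH)
  rw [← Subgroup.index, C.card_U, h2]
  have e : 2 ^ C.n * (2 ^ (C.n + 1) - 1) = 2 * 2 ^ (2 * C.n) - 2 ^ C.n := by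
    rw [Nat.mul_sub, mul_one, pow_succ, two_mul C.n, pow_add]
    ring_nf
  rw [e] at h
  omega

theorem center_fix (hA : B.IsAlt) (hB : B.Nondegenerate) {z : BilinIsom B}
    (hz : z ∈ Subgroup.center (BilinIsom B)) {a : V} (ha : a ≠ 0) :
    ∃ c : F, c ≠ 0 ∧ (z : V ≃ₗ[F] V) a = c • a := by
  obtain ⟨x, hx⟩ := exists_hyperbolic_partner hB ha
  have e : sympT hA ((z : V ≃ₗ[F] V) a) 1 = sympT hA a 1 := by
    rw [← sympT_conj, ← Subgroup.mem_center_iff.1 hz (sympT hA a 1), mul_inv_cancel_right]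
  set y := (z : V ≃ₗ[F] V) a with hy
  have h : ∀ t : V, B t y • y = B t a • a := fun t => by
    have := congrArg (fun g : BilinIsom B => (g : V ≃ₗ[F] V) t) e
    simpa [sympT_apply] using this
  have hxa : B x a = -1 := by rw [alt_swap hA a x, hx]
  have h1 := h x
  rw [hxa, neg_one_smul] at h1
  have h0 : B x y ≠ 0 := fun h0 => by
    rw [h0, zero_smul] at h1
    exact ha (neg_eq_zero.1 h1.symm)
  have h3 : y = (-(B x y)⁻¹) • a := by
    rw [neg_smul, ← smul_neg, ← h1, inv_smul_smul₀ h0]
  exact ⟨-(B x y)⁻¹, neg_ne_zero.2 (inv_ne_zero h0), h3⟩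

/-- The stabiliser of a point of the projective space. -/
def pointStab (B : LinearMap.BilinForm F V) (a : V) : Subgroup (BilinIsom B) where
  carrier := {g | ∃ c : F, c ≠ 0 ∧ (g : V ≃ₗ[F] V) a = c • a}
  one_mem' := ⟨1, one_ne_zero, by rw [one_smul]; rfl⟩
  mul_mem' := by
    rintro g h ⟨c, hc, hg⟩ ⟨d, hd, hh⟩
    exact ⟨d * c, mul_ne_zero hd hc, by rw [BilinIsom.mul_apply', hh, map_smul, hg, smul_smul]⟩
  inv_mem' := by
    rintro g ⟨c, hc, hg⟩
    refine ⟨c⁻¹, inv_ne_zero hc, ?_⟩
    have h := congrArg ((g⁻¹ : BilinIsom B) : V ≃ₗ[F] V) hg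
    rw [BilinIsom.inv_apply_self, map_smul] at h
    rw [h, smul_smul, inv_mul_cancel₀ hc, one_smul, ← h]

theorem index_pointStab (hA : B.IsAlt) (hB : B.Nondegenerate) {a : V} (ha : a ≠ 0) :
    (pointStab B a).index * (Nat.card F - 1) = Nat.card V - 1 := by
  rw [Projectivization.card F V]
  congr 1
  rw [Subgroup.index]
  have hne : ∀ g : BilinIsom B, (g : V ≃ₗ[F] V) a ≠ 0 := fun g => by simpa using ha
  have key : ∀ g h : BilinIsom B, g⁻¹ * h ∈ pointStab B a ↔
      Projectivization.mk F _ (hne g) = Projectivization.mk F _ (hne h) := by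
    intro g h
    rw [Projectivization.mk_eq_mk_iff']
    constructor
    · rintro ⟨c, hc0, hc⟩
      rw [BilinIsom.mul_apply'] at hc
      have e := congrArg (g : V ≃ₗ[F] V) hc
      rw [map_smul, BilinIsom.apply_inv_self] at e
      exact ⟨c⁻¹, by rw [e, smul_smul, inv_mul_cancel₀ hc0, one_smul]⟩
    · rintro ⟨c, hc⟩
      have hc0 : c ≠ 0 := fun h0 => hne g (by rw [← hc, h0, zero_smul])
      refine ⟨c⁻¹, inv_ne_zero hc0, (g : V ≃ₗ[F] V).injective ?_⟩
      rw [BilinIsom.mul_apply', BilinIsom.apply_inv_self, map_smul, ← hc, smul_smul, inv_mul_cancel₀ hc0, one_smul]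
  let f : BilinIsom B ⧸ pointStab B a → Projectivization F V :=
    Quotient.lift (fun g : BilinIsom B => Projectivization.mk F _ (hne g))
      fun g h e => (key g h).1 (QuotientGroup.leftRel_apply.1 e)
  refine Nat.card_congr (Equiv.ofBijective f ⟨?_, ?_⟩)
  · intro x y e
    induction x using QuotientGroup.induction_on with
    | _ g =>
      induction y using QuotientGroup.induction_on with
      | _ h => exact QuotientGroup.eq.2 ((key g h).2 e)
  · intro p
    induction p using Projectivization.ind with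
    | h v hv =>
      obtain ⟨g, hg⟩ := sympIsom_transitive hA hB ha hv
      exact ⟨(g : BilinIsom B ⧸ _), by simp [f, hg]⟩

end Abstract

section Standard

variable {F : Type u} [Field F]

/-- A frame of the standard form. -/
theorem exists_frame (m : ℕ) (hm : 2 ≤ m) :
    ∃ C : Frame (sympBilin m F), C.n + 1 = m := by
  have hne : (Pi.single (Sum.inl ⟨0, by omega⟩) 1 : Fin m ⊕ Fin m → F) ≠ 0 := by simp
  obtain ⟨b, hb⟩ := exists_hyperbolic_partner (sympBilin_nondegenerate m F) hne
  exact ⟨{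
    n := m - 1
    hA := sympBilin_isAlt m F
    hB := sympBilin_nondegenerate m F
    hn := by omega
    hdim := by rw [finrank_sympSpace]; omega
    a := _
    b := b
    hab := hb }, Nat.sub_add_cancel (by omega)⟩

variable [Fintype F]

theorem card_space (m : ℕ) : Nat.card (Fin m ⊕ Fin m → F) = Fintype.card F ^ (2 * m) := by
  rw [Nat.card_fun, Nat.card_sum, Nat.card_fin, Nat.card_eq_fintype_card, two_mul]

/-- Transfer of index bounds from the isometry group. -/
theorem psp_index {m : ℕ} {H : Subgroup (Cfsg.PSp m F)} (hH : H ≠ ⊤) :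
    ∃ H' : Subgroup (BilinIsom (sympBilin m F)), H' ≠ ⊤ ∧ H'.index = H.index := by
  let π := QuotientGroup.mk' (Subgroup.center (Matrix.symplecticGroup (Fin m) F))
  have h1 : ((H.comap π).map (sympEquiv m F).toMonoidHom).index = H.index := by
    rw [MulEquiv.toMonoidHom_eq_coe, Subgroup.index_map_equiv,
      Subgroup.index_comap_of_surjective H (QuotientGroup.mk'_surjective _)]
  exact ⟨_, fun h => hH (by rw [← Subgroup.index_eq_one, ← h1, h, Subgroup.index_top]), h1⟩

/-- Transfer of subgroups containing the centre. -/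
theorem psp_attain {m : ℕ} {M : Subgroup (BilinIsom (sympBilin m F))}
    (hM : Subgroup.center (BilinIsom (sympBilin m F)) ≤ M) : ∃ H : Subgroup (Cfsg.PSp m F), H.index = M.index := by
  refine ⟨(M.comap (sympEquiv m F).toMonoidHom).map (QuotientGroup.mk' _), ?_⟩
  rw [Subgroup.index_map_eq _ (QuotientGroup.mk'_surjective _) (by
    intro z hz
    rw [QuotientGroup.ker_mk'] at hz
    refine hM (Subgroup.mem_center_iff.2 fun g => ?_)
    obtain ⟨g, rfl⟩ := (sympEquiv m F).surjective g
    show sympEquiv m F g * sympEquiv m F z = sympEquiv m F z * sympEquiv m F g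
    rw [← map_mul, ← map_mul, Subgroup.mem_center_iff.1 hz g]),
    Subgroup.index_comap_of_surjective (f := (sympEquiv m F).toMonoidHom) M (sympEquiv m F).surjective]

/-- The minimal index over at least three scalars. -/
theorem min_index_psp {q : ℕ} (hF : Fintype.card F = q) (m : ℕ) (hm : 2 ≤ m) (hq : 3 ≤ q)
    (hexc : ¬ (m = 2 ∧ q = 3)) :
    (∀ H : Subgroup (Cfsg.PSp m F), H ≠ ⊤ → (q ^ (2 * m) - 1) / (q - 1) ≤ H.index) ∧
      (∃ H : Subgroup (Cfsg.PSp m F), H.index = (q ^ (2 * m) - 1) / (q - 1)) := by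
  obtain ⟨C, hC⟩ := exists_frame (F := F) m hm
  have hqc : Nat.card F = q := by rw [Nat.card_eq_fintype_card, hF]
  refine ⟨fun H hH => ?_, ?_⟩
  · obtain ⟨H', hH', he⟩ := psp_index hH
    have h := index_bound C hH' (by rw [hqc]; exact hq) (by rw [hqc]; rintro ⟨h1, h2⟩; exact hexc ⟨by omega, h2⟩)
    rw [card_space, hF, hqc, he] at h
    exact Nat.div_le_of_le_mul (h.trans (le_of_eq (mul_comm _ _)))
  · obtain ⟨H, hH⟩ := psp_attain (M := pointStab (sympBilin m F) C.a) fun z hz => by
      obtain ⟨c, hc, e⟩ := center_fix C.hA C.hB hz C.ha0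
      exact ⟨c, hc, e⟩
    refine ⟨H, ?_⟩
    have h := index_pointStab C.hA C.hB C.ha0
    rw [card_space, hF, hqc] at h
    rw [hH, ← h, Nat.mul_div_cancel _ (by omega)]

/-- The minimal index over two elements. -/
theorem min_index_psp_two (hF : Fintype.card F = 2) (m : ℕ) (hm : 3 ≤ m) :
    (∀ H : Subgroup (Cfsg.PSp m F), H ≠ ⊤ → 2 ^ (m - 1) * (2 ^ m - 1) ≤ H.index) ∧
      (∃ H : Subgroup (Cfsg.PSp m F), H.index = 2 ^ (m - 1) * (2 ^ m - 1)) := by
  have : CharP F 2 := ringChar.eq_iff.1 (FiniteField.even_card_iff_char_two.2 (by rw [hF]))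
  have h2 : Nat.card F = 2 := by rw [Nat.card_eq_fintype_card, hF]
  obtain ⟨C, hC⟩ := exists_frame (F := F) m (by omega)
  have hCn : C.n = m - 1 := by omega
  refine ⟨fun H hH => ?_, ?_⟩
  · obtain ⟨H', hH', he⟩ := psp_index hH
    have h := index_bound_two C hH' h2 (by omega)
    rwa [hC, hCn, he] at h
  · have hK2 : 2 * (2 ^ (m - 1) * (2 ^ m - 1)) < Nat.card (Fin m ⊕ Fin m → F) := by
      rw [card_space, hF, two_mul m, pow_add, ← mul_assoc, ← pow_succ', Nat.sub_add_cancel (by omega)]
      exact Nat.mul_lt_mul_of_pos_left (Nat.sub_lt Nat.one_le_two_pow Nat.one_pos) Nat.one_le_two_pow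
    obtain ⟨M, hM⟩ := exists_index h2 C.hA C.hB plusForm plusForm_add (plusForm_ones h2 (by omega))
      (Nat.mul_pos Nat.one_le_two_pow (Nat.sub_pos_of_lt (Nat.one_lt_two_pow (by omega)))) hK2
    obtain ⟨H, hH⟩ := psp_attain (M := M) fun z hz => by
      have : z = 1 := BilinIsom.ext' fun a => by
        rcases eq_or_ne a 0 with rfl | ha
        · rw [map_zero, map_zero]
        obtain ⟨c, hc, e⟩ := center_fix C.hA C.hB hz ha
        rw [e, (two_cases h2 c).resolve_left hc, one_smul]
        rfl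
      rw [this]
      exact M.one_mem
    exact ⟨H, hH.trans hM⟩

end Standard

end Cfsg.Lib.Known.MinIndexSp
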