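import Cfsg.Agent.Known.MinIndexSp.Bounds

/-!
Odd characteristic: no transitive action of small degree.
-/

set_option autoImplicit false
set_option linter.unusedSectionVars false
set_option linter.unusedSimpArgs false
set_option linter.style.haveILetI false

namespace Cfsg.Lib.Known.MinIndexSp

open Cfsg.Lib.Classical

universe u v w

variable {F : Type u} [Field F] [Finite F] {V : Type v} [AddCommGroup V] [Module F V] [FiniteDimensional F V]
  {B : LinearMap.BilinForm F V} {X : Type w} [MulAction (BilinIsom B) X] [Fintype X]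

/-- Three nonsquare products and their negatives. -/
theorem squares_contra (h2 : (2 : F) ≠ 0) {e1 e2 e3 : F} (h1 : ¬ IsSquare (-(e1 * e2))) (h1' : ¬ IsSquare (e1 * e2))
    (h3 : ¬ IsSquare (e1 * e3)) (h4 : ¬ IsSquare (e2 * e3)) : False := by
  classical
  have := Fintype.ofFinite F
  have hF : ringChar F ≠ 2 := fun h => h2 (by
    have := ringChar.Nat.cast_ringChar (R := F)
    rw [h] at this
    exact_mod_cast this)
  rw [← quadraticChar_neg_one_iff_not_isSquare, map_mul] at h1' h3 h4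
  have h5 : quadraticChar F ((e1 * e3) * (e2 * e3)) = quadraticChar F (e1 * e2) * quadraticChar F e3 ^ 2 := by
    rw [show (e1 * e3) * (e2 * e3) = (e1 * e2) * (e3 * e3) by ring]
    simp only [map_mul, sq]
  rw [map_mul, map_mul, map_mul, map_mul, h3, h4, h1'] at h5
  rcases eq_or_ne e3 0 with rfl | h0
  · simp at h3
  rw [quadraticChar_sq_one h0] at h5
  exact absurd h5 (by norm_num)

namespace Frame

variable (C : Frame B)

/-- Two commuting transvections can make a noncentral element of a radical. -/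
theorem pair_noncentral (h2 : (2 : F) ≠ 0) (hK : ∀ y : X, C.Kb y = ⊥) {p r : V} (hpr : B p r = 0)
    (hp : p ≠ 0) (hr : r ∉ Submodule.span F ({p} : Set V)) {x : X} {e e' : F} (he0 : e ≠ 0) (he0' : e' ≠ 0)
    (he : e ∈ Z1 C.hA p x) (he' : e' ∈ Z1 C.hA r x) : ¬ IsSquare (-(e * e')) := by
  rintro ⟨t, ht⟩
  have hA := C.hA
  set s := t / e with hs
  have he2 : e' = -(e * s ^ 2) := by
    rw [hs, div_pow, ← mul_div_assoc, eq_comm, neg_eq_iff_eq_neg, div_eq_iff (pow_ne_zero 2 he0)]
    linear_combination -e * ht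
  have hs0 : s ≠ 0 := fun h => he0' (by rw [he2, h]; ring)
  have hind : ∀ c d : F, c • p + d • r = 0 → c = 0 ∧ d = 0 := fun c d h => by
    rcases eq_or_ne d 0 with rfl | hd
    · exact ⟨(smul_eq_zero.1 (by simpa using h)).resolve_right hp, rfl⟩
    · refine absurd (Submodule.mem_span_singleton.2 ⟨-(d⁻¹ * c), ?_⟩) hr
      have h' := congrArg (fun v => d⁻¹ • v) h
      simp only [smul_add, smul_smul, inv_mul_cancel₀ hd, one_smul, smul_zero] at h'
      rw [neg_smul, eq_comm, eq_neg_iff_add_eq_zero, add_comm]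
      exact h'
  set f : V := (e / 2) • (p - s • r) with hf
  have haf : B (p + s • r) f = 0 := by simp [hf, hA p, hA r, hpr, alt_zero hA hpr]
  have hprod : rho hA (p + s • r) f 0 • x = x := by
    have heq : rho hA (p + s • r) f 0 = sympT hA p e * sympT hA r e' := BilinIsom.ext' fun y => by
      rw [rho_apply hA haf, BilinIsom.mul_apply', sympT_apply, sympT_apply, hf, he2]
      simp only [map_add, map_sub, map_smul, LinearMap.add_apply, LinearMap.smul_apply, hA p, alt_zero hA hpr,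
        smul_eq_mul, mul_zero, add_zero, zero_mul, zero_smul]
      match_scalars <;> field_simp <;> ring
    rw [heq, mul_smul, mem_Z1.1 he', mem_Z1.1 he]
  have ha : p + s • r ≠ 0 := fun h => one_ne_zero (hind 1 s (by rwa [one_smul])).1
  obtain ⟨g, hg⟩ := C.exists_to_a ha
  rw [← fix_conj (X := X) g, rho_conj, hg] at hprod
  set y := (g : V ≃ₗ[F] V) f with hy
  have hya : B y C.a = 0 := by rw [← hg, BilinIsom.map_form, alt_zero hA haf]
  have hdec : y = ((⟨_, C.proj_mem y⟩ : C.U) : V) + B y C.b • C.a := by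
    show y = y - B y C.b • C.a + B y C.a • C.b + B y C.b • C.a
    rw [hya, zero_smul, add_zero, sub_add_cancel]
  rw [hdec, rho_shift hA (C.au _)] at hprod
  have h0 : (⟨_, C.proj_mem y⟩ : C.U) ∈ C.Kb (g • x) := C.mem_Kb.2 ⟨_, hprod⟩
  rw [hK, AddSubgroup.mem_bot] at h0
  rw [h0, ZeroMemClass.coe_zero, zero_add, hy, ← hg, ← map_smul] at hdec
  have hfe := (g : V ≃ₗ[F] V).injective hdec
  generalize B y C.b = c at hfe
  obtain ⟨h3, h4⟩ := hind (e / 2 - c) (-(e / 2 * s) - c * s) (by
    rw [hf] at hfe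
    linear_combination (norm := module) hfe)
  have hc : c = e / 2 := (sub_eq_zero.1 h3).symm
  rw [hc] at h4
  refine hs0 ((mul_eq_zero.1 (show e * s = 0 from ?_)).resolve_left he0)
  field_simp at h4
  exact (mul_eq_zero.1 (show (2 : F) * (e * s) = 0 by linear_combination -h4)).resolve_left h2

theorem all_moved_contra (h2 : (2 : F) ≠ 0) (hZ : ∀ x : X, Z1 C.hA C.a x ≠ ⊥)
    (hnc : ∀ x : X, Z1 C.hA C.a x ≠ ⊤) [Nonempty X] : False := by
  have hA := C.hA
  have hZv : ∀ (v : V), v ≠ 0 → ∀ x : X, ∃ e ∈ Z1 hA v x, e ≠ 0 := fun v hv x => by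
    obtain ⟨g, hg⟩ := C.exists_to_a hv
    have h := hZ (g • x)
    rw [← hg, Z1_map] at h
    by_contra h'
    push Not at h'
    exact h (eq_bot_iff.2 fun e he => AddSubgroup.mem_bot.2 (h' e he))
  have : Finite C.U := Module.finite_of_finite F
  have hK : ∀ y : X, C.Kb y = ⊥ := by
    intro y
    by_contra hKy
    obtain ⟨v, hv, hv0⟩ : ∃ v ∈ C.Kb y, v ≠ 0 := by
      by_contra h
      push Not at h
      exact hKy (eq_bot_iff.2 fun v hv => AddSubgroup.mem_bot.2 (h v hv))
    have hw0 : ∀ w : {w : C.U // B (v : V) (w : V) = 1}, (w.1 : V) ≠ 0 := fun w h => by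
      have := w.2
      rw [h, map_zero] at this
      exact zero_ne_one this
    choose e he he0 using fun w : {w : C.U // B (v : V) (w : V) = 1} => hZv (w.1 : V) (hw0 w) y
    have hmem : ∀ w, e w • w.1 ∈ C.Kb y := fun w => by
      have h3 : C.res (C.tU w.1 (e w)) v ∈ C.Kb (((C.tU w.1 (e w) : C.L) : BilinIsom B) • y) := by
        rw [C.Kb_L]; exact C.mem_map_res.2 hv
      rw [C.tU_coe, mem_Z1.1 (he w), C.res_tU, w.2, mul_one] at h3
      simpa using (C.Kb y).sub_mem h3 hv
    let φ : Option {w : C.U // B (v : V) (w : V) = 1} → C.Kb y :=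
      fun o => o.elim 0 fun w => ⟨_, hmem w⟩
    have hφ : Function.Injective φ := by
      rintro (_ | w) (_ | w') h
      · rfl
      · have h' : (0 : C.U) = e w' • w'.1 := congrArg Subtype.val h
        exact absurd ((smul_eq_zero.1 h'.symm).resolve_left (he0 w')) fun h'' => hw0 w' (by rw [h'']; rfl)
      · have h' : e w • w.1 = (0 : C.U) := congrArg Subtype.val h
        exact absurd ((smul_eq_zero.1 h').resolve_left (he0 w)) fun h'' => hw0 w (by rw [h'']; rfl)
      · have h' : e w • w.1 = e w' • w'.1 := congrArg Subtype.val h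
        have hee : e w = e w' := by
          have h'' := congrArg (fun u : C.U => B (v : V) (u : V)) h'
          simpa [w.2, w'.2] using h''
        rw [hee] at h'
        exact congrArg some (Subtype.ext (smul_right_injective C.U (he0 w') h'))
    let φv : C.U →ₗ[F] F := (B (v : V)).comp C.U.subtype
    have hφv : φv ≠ 0 := fun h => hv0 (C.nd_U fun w => LinearMap.congr_fun h w)
    have h1 := Nat.card_le_card_of_injective φ hφ
    rw [Finite.card_option, show Nat.card {w : C.U // B (v : V) (w : V) = 1} =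
      Nat.card F ^ (Module.finrank F C.U - 1) from card_fiber_functional φv hφv, C.finrank_U] at h1
    have h3 := C.isotropy h2 (hnc y)
    rw [C.card_U] at h3
    have h4 := lt_of_lt_of_le (Nat.pow_lt_pow_left (Nat.lt_of_succ_le h1) two_ne_zero) h3
    rw [← pow_mul] at h4
    have h5 := (Nat.pow_lt_pow_iff_right (Finite.one_lt_card (α := F))).1 h4
    have := C.hn
    omega
  obtain ⟨x⟩ := ‹Nonempty X›
  obtain ⟨u, hu⟩ : ∃ u : C.U, u ≠ 0 := by
    have : Nontrivial C.U := Module.nontrivial_of_finrank_pos (R := F) (by rw [C.finrank_U]; have := C.hn; omega)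
    exact exists_ne 0
  have hu' : (u : V) ∉ Submodule.span F ({C.a} : Set V) := fun h => hu (by
    obtain ⟨c, hc⟩ := Submodule.mem_span_singleton.1 h
    refine C.nd_U fun w => ?_
    rw [← hc]
    simp [C.au w])
  obtain ⟨e1, h1, h10⟩ := hZv C.a C.ha0 x
  obtain ⟨e2, h2', h20⟩ := hZv (u : V) (fun h => hu (Subtype.ext h)) x
  have hau : C.a + (u : V) ∉ Submodule.span F ({C.a} : Set V) := fun h =>
    hu' ((Submodule.add_mem_iff_right _ (Submodule.mem_span_singleton_self _)).1 h)
  obtain ⟨e3, h3, h30⟩ := hZv (C.a + (u : V)) (fun h => hau (by rw [h]; exact zero_mem _)) x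
  have hua : C.a + (u : V) ∉ Submodule.span F ({(u : V)} : Set V) := fun h => by
    obtain ⟨c, hc⟩ := Submodule.mem_span_singleton.1 ((Submodule.add_mem_iff_left _
      (Submodule.mem_span_singleton_self _)).1 h)
    have := congrArg (fun v => B v C.b) hc
    simp [C.ub, C.hab] at this
  have hnn : ∀ {p r : V}, B p r = 0 → p ≠ 0 → r ∉ Submodule.span F ({p} : Set V) → ∀ {e e' : F}, e ≠ 0 → e' ≠ 0 →
      e ∈ Z1 hA p x → e' ∈ Z1 hA r x → ¬ IsSquare (e * e') ∧ ¬ IsSquare (-(e * e')) :=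
    by
      intro p r hpr hp hr e e' he he' m m'
      exact ⟨fun h => C.pair_noncentral h2 hK hpr hp hr (neg_ne_zero.2 he) he' (neg_mem m) m'
        (by rwa [neg_mul, neg_neg]), C.pair_noncentral h2 hK hpr hp hr he he' m m'⟩
  obtain ⟨s1, s1'⟩ := hnn (C.au u) C.ha0 hu' h10 h20 h1 h2'
  exact squares_contra h2 s1' s1
    (hnn (by rw [map_add, hA C.a, C.au, add_zero]) C.ha0 hau h10 h30 h1 h3).1
    (hnn (by rw [map_add, C.ua, hA (u : V), add_zero]) (fun h => hu (Subtype.ext h)) hua h20 h30 h2' h3).1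

/-- The end of the semiregular cases. -/
theorem odd_finish (h2 : (2 : F) ≠ 0) {y : X} (hy : C.dil 1 one_ne_zero (-1) (by ring) • y = y)
    (hbot : ∀ x : X, Z1 C.hA C.a x = ⊥) {w : C.U} (hw : w ≠ 0) {l : F} (hl : l ≠ 0) (hl2 : l ^ 2 ≠ 1)
    (hs : (C.tU w 1 : BilinIsom B) • y ∈ C.orb y) (hh : C.dil l hl 1 (one_mul 1) • y ∈ C.orb y) : False := by
  have hA := C.hA
  obtain ⟨z, hz⟩ := C.odd_lift h2 hy (C.dil_tU _ _ _ _ w 1) hs
  obtain ⟨z', hz'⟩ := C.odd_lift h2 hy (C.dil_comm _ _ _ _ _ _ _ _) hh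
  rw [C.tU_coe, ← mul_smul] at hz
  rw [← mul_smul] at hz'
  have h1 := (fix_conj (X := X) (sympT hA C.a z' * C.dil l hl 1 (one_mul 1)) _).2 hz
  rw [hz'] at h1
  have e : sympT hA C.a z' * C.dil l hl 1 (one_mul 1) * (sympT hA C.a z * sympT hA (w : V) 1) *
      (sympT hA C.a z' * C.dil l hl 1 (one_mul 1))⁻¹ = sympT hA C.a (l ^ 2 * z) * sympT hA (w : V) 1 := by
    have e1 : C.dil l hl 1 (one_mul 1) * (sympT hA C.a z * sympT hA (w : V) 1) *
        (C.dil l hl 1 (one_mul 1))⁻¹ = sympT hA C.a (l ^ 2 * z) * sympT hA (w : V) 1 := by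
      rw [← mul_assoc, mul_inv_eq_iff_eq_mul, mul_assoc (sympT hA C.a (l ^ 2 * z)), ← C.dil_t l hl 1 (one_mul 1),
        ← C.tU_coe, ← C.dil_tU]
      group
    have e2 : ∀ g h : BilinIsom B, sympT hA C.a z' * g * h * (sympT hA C.a z' * g)⁻¹ =
        sympT hA C.a z' * (g * h * g⁻¹) * (sympT hA C.a z')⁻¹ := fun g h => by group
    rw [e2, e1, ← sympT_neg, ← mul_assoc, ← sympT_add, mul_assoc, (sympT_commute hA (C.ua w) 1 (-z')).eq,
      ← mul_assoc, ← sympT_add, show z' + l ^ 2 * z + -z' = l ^ 2 * z by ring]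
  rw [e, mul_smul] at h1
  rw [mul_smul] at hz
  have h3 : sympT hA C.a (l ^ 2 * z - z) • y = y := by
    have h4 : (sympT hA C.a z)⁻¹ • y = sympT hA (w : V) 1 • y := by rw [inv_smul_eq_iff, hz]
    rw [← h4, ← sympT_neg, smul_smul, ← sympT_add, ← sub_eq_add_neg] at h1
    exact h1
  have h4 : l ^ 2 * z - z ∈ Z1 hA C.a y := mem_Z1.2 h3
  rw [hbot, AddSubgroup.mem_bot] at h4
  have hz0 : z = 0 := (mul_eq_zero.1 (show (l ^ 2 - 1) * z = 0 by linear_combination h4)).resolve_left
    (sub_ne_zero.2 hl2)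
  rw [hz0, sympT_zero, one_smul] at hz
  have h5 : (1 : F) ∈ Z1 hA (w : V) y := mem_Z1.2 hz
  rw [Z1_all_bot hA C hbot (fun h => hw (Subtype.ext h)) y, AddSubgroup.mem_bot] at h5
  exact one_ne_zero h5

/-- The field with three elements. -/
theorem regular_finish (h2 : (2 : F) ≠ 0) (hn : 2 ≤ C.n) {y : X} (hy : C.dil 1 one_ne_zero (-1) (by ring) • y = y)
    (hbot : ∀ x : X, Z1 C.hA C.a x = ⊥) (horb : ∀ g : C.L, (g : BilinIsom B) • y ∈ C.orb y) : False := by
  have hA := C.hA
  have hcomm : ∀ g : C.L, C.dil 1 one_ne_zero (-1) (by ring) * (g : BilinIsom B) =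
      (g : BilinIsom B) * C.dil 1 one_ne_zero (-1) (by ring) := fun g => BilinIsom.ext' fun x => by
    have ha := BilinIsom.map_form (g : BilinIsom B) x C.a
    have hb := BilinIsom.map_form (g : BilinIsom B) x C.b
    rw [g.2.1] at ha
    rw [g.2.2] at hb
    rw [BilinIsom.mul_apply', BilinIsom.mul_apply', C.dil_apply, C.dil_apply, map_add, map_add, map_smul, map_smul,
      map_smul, g.2.1, g.2.2, ha, hb]
  choose ζ hζ using fun g : C.L => C.odd_lift h2 hy (hcomm g) (horb g)
  have huniq : ∀ (g : BilinIsom B) {z z' : F}, sympT hA C.a z • g • y = y → sympT hA C.a z' • g • y = y → z = z' := by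
    intro g z z' h h'
    have h3 : g • y = (sympT hA C.a z')⁻¹ • y := by rw [eq_inv_smul_iff, h']
    rw [h3, ← sympT_neg, smul_smul, ← sympT_add] at h
    have h4 : z + -z' ∈ Z1 hA C.a y := mem_Z1.2 h
    rw [hbot, AddSubgroup.mem_bot] at h4
    linear_combination h4
  have hcL : ∀ (g : C.L) (z : F), (g : BilinIsom B) * sympT hA C.a z = sympT hA C.a z * (g : BilinIsom B) :=
    fun g z => by rw [← mul_inv_eq_iff_eq_mul, sympT_conj, g.2.1]
  have hmul : ∀ g h : C.L, ζ (g * h) = ζ g + ζ h := fun g h => by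
    refine huniq _ (hζ (g * h)) ?_
    rw [show ((g * h : C.L) : BilinIsom B) = (g : BilinIsom B) * (h : BilinIsom B) from rfl, mul_smul, sympT_add,
      mul_smul, smul_smul (sympT hA C.a (ζ h)), ← hcL, mul_smul, hζ h, hζ g]
  have hconj : ∀ g h : C.L, ζ (g * h * g⁻¹) = ζ h := fun g h => by
    have h1 := hmul (g * h * g⁻¹) g
    rw [inv_mul_cancel_right, hmul g h] at h1
    linear_combination -h1
  have hsame : ∀ {w w' : C.U}, w ≠ 0 → w' ≠ 0 → ∀ c : F, ζ (C.tU w' c) = ζ (C.tU w c) := by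
    intro w w' hw hw' c
    obtain ⟨g, hg⟩ := C.exists_trans hw hw'
    rw [← hconj g (C.tU w c)]
    congr 1
    refine Subtype.ext ?_
    show _ = (g : BilinIsom B) * sympT hA (w : V) c * (g : BilinIsom B)⁻¹
    rw [sympT_conj, ← C.res_coe, hg]
    rfl
  obtain ⟨w, hw⟩ : ∃ w : C.U, w ≠ 0 := by
    have : Nontrivial C.U := Module.nontrivial_of_finrank_pos (R := F) (by rw [C.finrank_U]; omega)
    exact exists_ne 0
  obtain ⟨w', hw'w, hw'⟩ : ∃ w' : C.U, B (w : V) (w' : V) = 0 ∧ w' ∉ Submodule.span F ({w} : Set C.U) := by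
    by_contra h
    push Not at h
    have hker : LinearMap.ker ((B (w : V)).comp C.U.subtype) ≤ Submodule.span F ({w} : Set C.U) :=
      fun z hz => h z hz
    have h1 := Submodule.finrank_mono hker
    rw [finrank_span_singleton hw] at h1
    have h3 := LinearMap.finrank_range_add_finrank_ker ((B (w : V)).comp C.U.subtype)
    have h4 : Module.finrank F (LinearMap.range ((B (w : V)).comp C.U.subtype)) ≤ 1 := by
      refine (Submodule.finrank_le _).trans ?_
      rw [Module.finrank_self]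
    rw [C.finrank_U] at h3
    omega
  have hne : ∀ a : F, w + a • w' ≠ 0 := fun a h => by
    rcases eq_or_ne a 0 with rfl | ha
    · exact hw (by simpa using h)
    · refine hw' (Submodule.mem_span_singleton.2 ⟨-a⁻¹, ?_⟩)
      rw [eq_neg_of_add_eq_zero_left h, smul_neg, neg_smul, neg_neg, smul_smul, inv_mul_cancel₀ ha, one_smul]
  have hid : C.tU (w + (1 : F) • w') 1 * C.tU (w + (-1 : F) • w') 1 = C.tU w 2 * C.tU w' 2 := by
    refine Subtype.ext ?_
    show sympT hA ((w : V) + (1 : F) • (w' : V)) 1 * sympT hA ((w : V) + (-1 : F) • (w' : V)) 1 =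
      sympT hA (w : V) 2 * sympT hA (w' : V) 2
    refine BilinIsom.ext' fun x => ?_
    simp only [BilinIsom.mul_apply', sympT_apply, map_add, map_smul, LinearMap.add_apply, LinearMap.smul_apply,
      hA (w : V), hA (w' : V), hw'w, alt_zero hA hw'w, smul_eq_mul, mul_zero, add_zero]
    module
  have h3 := congrArg ζ hid
  have hw'0 : w' ≠ 0 := fun h => hw' (by rw [h]; exact zero_mem _)
  rw [hmul, hmul, hsame hw (hne 1), hsame hw (hne (-1)), hsame hw hw'0] at h3
  have htwo : ζ (C.tU w 2) = ζ (C.tU w 1) + ζ (C.tU w 1) := by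
    rw [← hmul]
    congr 1
    refine Subtype.ext ?_
    show sympT hA (w : V) 2 = sympT hA (w : V) 1 * sympT hA (w : V) 1
    rw [← sympT_add, one_add_one_eq_two]
  rw [htwo] at h3
  have hz0 : ζ (C.tU w 1) = 0 :=
    (mul_eq_zero.1 (show (2 : F) * ζ (C.tU w 1) = 0 by linear_combination -h3)).resolve_left h2
  have h5 := hζ (C.tU w 1)
  rw [hz0, sympT_zero, one_smul] at h5
  have h6 : (1 : F) ∈ Z1 hA (w : V) y := mem_Z1.2 h5
  rw [Z1_all_bot hA C hbot (fun h => hw (Subtype.ext h)) y, AddSubgroup.mem_bot] at h6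
  exact one_ne_zero h6

end Frame

end Cfsg.Lib.Known.MinIndexSp
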