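import Cfsg.Agent.Known.MinIndexSp.Odd

/-!
Odd characteristic: the degree of a nontrivial transitive action is at least the number of points.
-/

set_option autoImplicit false
set_option linter.unusedSectionVars false
set_option linter.unusedSimpArgs false
set_option linter.style.haveILetI false

namespace Cfsg.Lib.Known.MinIndexSp

open Cfsg.Lib.Classical

universe u v w

variable {F : Type u} [Field F] [Finite F] {V : Type v} [AddCommGroup V] [Module F V] [FiniteDimensional F V]
  {B : LinearMap.BilinForm F V} {X : Type w} [MulAction (BilinIsom B) X] [Fintype X]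

/-- A divisor of a power of the field order strictly below another one is below a third of it. -/
theorem three_mul_le {q k e n : ℕ} (hq : IsPrimePow q) (hodd : Odd q) (hk : k ∣ q ^ e) (hlt : k < q ^ n) :
    3 * k ≤ q ^ n := by
  obtain ⟨p, f, hp, hf, rfl⟩ := hq
  rw [← pow_mul] at hk hlt ⊢
  obtain ⟨j, -, rfl⟩ := (Nat.dvd_prime_pow hp.nat_prime).1 hk
  have h3 : 3 ≤ p := by
    have h1 := hp.nat_prime.two_le
    have h2 : Odd p := (Nat.odd_pow_iff (Nat.pos_iff_ne_zero.1 hf)).1 hodd
    rcases h2 with ⟨i, hi⟩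
    omega
  have hj : j < f * n := (Nat.pow_lt_pow_iff_right hp.nat_prime.one_lt).1 hlt
  calc 3 * p ^ j ≤ p * p ^ j := Nat.mul_le_mul_right _ h3
    _ = p ^ (j + 1) := by rw [pow_succ, mul_comm]
    _ ≤ p ^ (f * n) := Nat.pow_le_pow_right hp.nat_prime.pos hj

namespace Frame

variable (C : Frame B)

theorem three_N_le (h2 : (2 : F) ≠ 0) (hodd : Odd (Nat.card F)) {x : X} (hZ : Z1 C.hA C.a x ≠ ⊤) :
    3 * Nat.card C.U ≤ (C.imgs (C.Kb x)).card * Nat.card (C.orb x) := by
  have : Finite C.U := Module.finite_of_finite F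
  have hZ3 := three_card_le hodd hZ
  have hc := C.orb_card x
  have hiK : 3 * Nat.card C.U ≤ Nat.card (C.orb x) * Nat.card (C.Kb x) := by
    refine Nat.le_of_mul_le_mul_right (le_trans ?_ (le_of_eq (show Nat.card F * Nat.card C.U =
      Nat.card (C.orb x) * Nat.card (C.Kb x) * Nat.card (Z1 C.hA C.a x) by rw [← hc]; ring))) Nat.card_pos
    calc 3 * Nat.card C.U * Nat.card (Z1 C.hA C.a x) = 3 * Nat.card (Z1 C.hA C.a x) * Nat.card C.U := by ring
      _ ≤ Nat.card F * Nat.card C.U := Nat.mul_le_mul_right _ hZ3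
  have hN : 1 ≤ (C.imgs (C.Kb x)).card := Finset.card_pos.2 ⟨_, C.self_imgs _⟩
  rcases eq_or_ne (C.Kb x) ⊥ with h0 | h0
  · rw [h0, AddSubgroup.card_bot, mul_one] at hiK
    exact hiK.trans (Nat.le_mul_of_pos_left _ hN)
  have h1 := C.cover_le h0
  have h3 := C.isotropy h2 hZ
  have hNK : Nat.card C.U ≤ (C.imgs (C.Kb x)).card * Nat.card (C.Kb x) := by omega
  refine Nat.le_of_mul_le_mul_right ?_ (Nat.pow_pos (n := 2) (Nat.card_pos (α := C.Kb x)))
  calc 3 * Nat.card C.U * Nat.card (C.Kb x) ^ 2 ≤ 3 * Nat.card C.U * Nat.card C.U := Nat.mul_le_mul_left _ h3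
    _ ≤ (Nat.card (C.orb x) * Nat.card (C.Kb x)) * ((C.imgs (C.Kb x)).card * Nat.card (C.Kb x)) :=
        Nat.mul_le_mul hiK hNK
    _ = _ := by ring

theorem exists_fixed_h0 (hodd : Odd (Nat.card F)) {x : X}
    (hst : ∀ y ∈ C.orb x, C.dil 1 one_ne_zero (-1) (by ring) • y ∈ C.orb x) :
    ∃ y ∈ C.orb x, C.dil 1 one_ne_zero (-1) (by ring) • y = y := by
  have : Fact (Nat.Prime 2) := ⟨Nat.prime_two⟩
  refine exists_fixed _ (C.dil_pow_eq_one _ _ _ _ (one_pow 2) (by ring)) _ hst fun h => ?_
  have h1 : Odd (Nat.card (C.orb x)) := (hodd.mul (by rw [C.card_U]; exact hodd.pow)).of_dvd_nat ⟨_, (C.orb_card x).symm⟩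
  exact Nat.not_even_iff_odd.2 h1 (even_iff_two_dvd.2 h)

theorem exists_torus (hq : 4 ≤ Nat.card F) : ∃ l : F, l ≠ 0 ∧ l ^ 2 ≠ 1 := by
  classical
  have := Fintype.ofFinite F
  obtain ⟨l, hl⟩ : ∃ l, l ∉ ({0, 1, -1} : Finset F) := by
    by_contra h
    push Not at h
    have h1 := Finset.card_le_card (show (Finset.univ : Finset F) ⊆ {0, 1, -1} from fun c _ => h c)
    rw [Finset.card_univ, ← Nat.card_eq_fintype_card] at h1
    exact absurd (h1.trans Finset.card_le_three) (by omega)
  simp only [Finset.mem_insert, Finset.mem_singleton, not_or] at hl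
  exact ⟨l, hl.1, fun h => (sq_eq_one_iff.1 h).elim hl.2.1 hl.2.2⟩

open scoped _root_.Classical in
theorem odd_bound [MulAction.IsPretransitive (BilinIsom B) X] [Nonempty X] (hodd : Odd (Nat.card F))
    (hexc : ¬ (C.n = 1 ∧ Nat.card F = 3)) (hd : Nat.card X * (Nat.card F - 1) + 1 < Nat.card V)
    (hmove : ∀ x : X, MulAction.stabilizer (BilinIsom B) x ≠ ⊤) : False := by
  have h2 : (2 : F) ≠ 0 := by
    intro h
    have := Fintype.ofFinite F
    have hc : ringChar F = 2 := ((Nat.dvd_prime Nat.prime_two).1 ((ringChar.spec F 2).1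
      (by exact_mod_cast h))).resolve_left (CharP.ringChar_ne_one)
    have := (FiniteField.even_card_iff_char_two (F := F)).1 hc
    rw [← Nat.card_eq_fintype_card] at this
    rcases hodd with ⟨k, hk⟩
    omega
  have : Finite C.U := Module.finite_of_finite F
  have hq3 : 3 ≤ Nat.card F := by
    have h1 : 1 < Nat.card F := Finite.one_lt_card
    rcases hodd with ⟨k, hk⟩
    omega
  have hpp : IsPrimePow (Nat.card F) := by
    have := Fintype.ofFinite F
    rw [Nat.card_eq_fintype_card]
    exact FiniteField.isPrimePow_card F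
  have hnc : ∀ x : X, Z1 C.hA C.a x ≠ ⊤ := fun x h => C.no_centres hq3 hd hmove x (Z1_top.1 h)
  have h3 : ∀ y : X, 3 * Nat.card C.U ≤ (C.imgs (C.Kb y)).card * Nat.card (C.orb y) := fun y =>
    C.three_N_le h2 hodd (hnc y)
  have hV := C.card_V
  have hN : Nat.card F ^ 2 ≤ Nat.card C.U := by
    rw [C.card_U]; exact Nat.pow_le_pow_right Nat.card_pos (by have := C.hn; omega)
  obtain ⟨w, hw⟩ : ∃ w : C.U, w ≠ 0 := by
    have : Nontrivial C.U := Module.nontrivial_of_finrank_pos (R := F) (by rw [C.finrank_U]; have := C.hn; omega)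
    exact exists_ne 0
  set q := Nat.card F with hq
  set N := Nat.card C.U with hNdef
  have hN1 : 1 ≤ N := Nat.card_pos
  by_cases hA1 : ∀ x : X, Z1 C.hA C.a x ≠ ⊥
  · exact C.all_moved_contra h2 hA1 hnc
  push Not at hA1
  obtain ⟨x, hx⟩ := hA1
  have hi : Nat.card (C.orb x) * Nat.card (C.Kb x) = q * N := by
    have h := C.orb_card x
    rwa [hx, AddSubgroup.card_bot, one_mul] at h
  rcases eq_or_ne (C.Kb x) ⊥ with hK | hK
  · rw [hK, AddSubgroup.card_bot, mul_one] at hi
    have huniv : ∀ y : X, y ∈ C.orb x := by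
      intro y
      by_contra hy
      have htot : q * N + 3 * N ≤ Nat.card X := by
        rcases eq_or_ne (C.Kb y) ⊥ with hKy | hKy
        · have hy3 := h3 y
          have h1 : (C.imgs (C.Kb y)).card = 1 := by
            rw [hKy]
            refine Finset.card_eq_one.2 ⟨⊥, Finset.eq_singleton_iff_unique_mem.2 ⟨C.self_imgs _, fun P hP => ?_⟩⟩
            obtain ⟨g, rfl⟩ := C.mem_imgs.1 hP
            exact AddSubgroup.map_bot _
          rw [h1, one_mul] at hy3
          have hxy : x ≠ y := fun e => hy (e ▸ C.self_orb x)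
          refine le_trans ?_ (C.sum_le {x, y} ?_)
          · rw [Finset.sum_pair hxy, hi]
            omega
          · intro a ha b hb hab
            simp only [Finset.mem_insert, Finset.mem_singleton] at ha hb
            rcases ha with rfl | rfl <;> rcases hb with rfl | rfl
            · rfl
            · exact absurd hab hy
            · exact absurd (show a ∈ C.orb b by rw [C.orb_eq hab]; exact C.self_orb _) hy
            · rfl
        · have h1 := C.family_add_le (x := y) (y := x) (Or.inr (by
            rw [hK]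
            intro h
            obtain ⟨g, hg⟩ := C.mem_imgs.1 h
            exact hKy ((AddSubgroup.map_eq_bot_iff_of_injective _ (C.res_inj g)).1 hg)))
          have := h3 y
          rw [hi] at h1
          omega
      obtain ⟨r, hr⟩ : ∃ r, q = r + 3 := ⟨q - 3, by omega⟩
      rw [hV, hr, show r + 3 - 1 = r + 2 by omega] at hd
      rw [hr] at htot
      have := Nat.mul_le_mul_right (r + 2) htot
      nlinarith
    obtain ⟨y, -, hy⟩ := C.exists_fixed_h0 hodd (x := x) fun z _ => huniv _
    have hbot : ∀ z : X, Z1 C.hA C.a z = ⊥ := fun z => (C.inv_orb (huniv z)).1.trans hx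
    have horb : ∀ g : BilinIsom B, g • y ∈ C.orb y := fun g => by rw [C.orb_eq (huniv y)]; exact huniv _
    by_cases h4 : 4 ≤ q
    · obtain ⟨l, hl, hl2⟩ := exists_torus h4
      exact C.odd_finish h2 hy hbot hw hl hl2 (horb _) (horb _)
    · exact C.regular_finish h2 (by have := C.hn; by_contra hn2; exact hexc ⟨by omega, by omega⟩) hy hbot fun g => horb _
  · have hKle : Nat.card (C.Kb x) ^ 2 ≤ N := C.isotropy h2 (hnc x)
    have hfam := C.family_le x
    have hcov := C.cover_le hK
    rw [← hNdef] at hcov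
    set k := Nat.card (C.Kb x) with hk
    set M := (C.imgs (C.Kb x)).card with hM
    set i := Nat.card (C.orb x) with hidef
    have hk1 : 1 ≤ k := Nat.card_pos
    have hMpos : 1 ≤ M := Finset.card_pos.2 ⟨_, C.self_imgs _⟩
    have hNn : q ^ C.n * q ^ C.n = N := by rw [← pow_add, ← two_mul, ← C.card_U]
    have hkq : k = q ^ C.n := by
      rcases lt_trichotomy k (q ^ C.n) with h | h | h
      · exfalso
        have hdvd : k ∣ q ^ (2 * C.n) := by rw [← C.card_U]; exact AddSubgroup.card_addSubgroup_dvd_card _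
        have h9 := Nat.mul_le_mul (three_mul_le hpp hodd hdvd h) (three_mul_le hpp hodd hdvd h)
        rw [hNn] at h9
        have h5 : q * N * (k * k * 9) ≤ M * i * (k * k) := by
          calc q * N * (k * k * 9) ≤ q * N * N := Nat.mul_le_mul_left _ (le_trans (le_of_eq (by ring)) h9)
            _ = (i * k) * N := by rw [hi]
            _ ≤ (i * k) * (M * k) := Nat.mul_le_mul_left _ (by omega)
            _ = _ := by ring
        have h6 : q * N * 9 ≤ Nat.card X := by
          refine le_trans (Nat.le_of_mul_le_mul_right (le_trans (le_of_eq ?_) h5) (show 0 < k * k by positivity)) hfam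
          ring
        obtain ⟨r, hr⟩ : ∃ r, q = r + 3 := ⟨q - 3, by omega⟩
        rw [hV, hr, show r + 3 - 1 = r + 2 by omega] at hd
        rw [hr] at h6
        have := Nat.mul_le_mul_right (r + 2) h6
        nlinarith
      · exact h
      · exfalso
        have := Nat.mul_lt_mul'' h h
        rw [hNn] at this
        rw [sq] at hKle
        omega
    have hik : i = q * k := Nat.eq_of_mul_eq_mul_right (show 0 < k by omega) (by
      rw [hi, mul_assoc, hkq, hNn])
    have hns : ¬ C.Shared (C.Kb x) := by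
      intro hsh
      have hs := C.shared_le hsh
      rw [← hM, ← hk, ← hNdef] at hs
      have hM1 : 1 ≤ M := Finset.card_pos.2 ⟨_, C.self_imgs _⟩
      have h5 : q * (2 * N - 1) ≤ Nat.card X := by
        refine le_trans ?_ hfam
        rw [hik, mul_left_comm]
        exact Nat.mul_le_mul_left _ (by omega)
      obtain ⟨r, hr⟩ : ∃ r, q = r + 3 := ⟨q - 3, by omega⟩
      obtain ⟨N', hN'⟩ : ∃ N', N = N' + 1 := ⟨N - 1, by omega⟩
      rw [hV, hr, show r + 3 - 1 = r + 2 by omega] at hd
      rw [hr, hN', show 2 * (N' + 1) - 1 = 2 * N' + 1 by omega] at h5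
      rw [hr, hN'] at hN
      rw [hN'] at hd
      have := Nat.mul_le_mul_right (r + 2) h5
      nlinarith
    have hKt : C.Kb x ≠ ⊤ := fun h => by
      rw [hk, h, AddSubgroup.card_top, ← hNdef] at hKle
      have h9 : N * 2 ≤ N * N := Nat.mul_le_mul_left _ (by nlinarith)
      rw [sq] at hKle
      omega
    obtain ⟨v, hv, hv0⟩ : ∃ v ∈ C.Kb x, v ≠ 0 := by
      by_contra h
      push Not at h
      exact hK (eq_bot_iff.2 fun v hv => AddSubgroup.mem_bot.2 (h v hv))
    have hline : ∀ u : C.U, u ∈ C.Kb x ↔ u ∈ Submodule.span F ({v} : Set C.U) := by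
      have hsub : (C.Kb x : Set C.U) ⊆ (Submodule.span F ({v} : Set C.U) : Set C.U) :=
        fun u hu => C.rigid hns hKt hv hv0 hu
      have hcard : Nat.card (Submodule.span F ({v} : Set C.U)) = q := by
        rw [Module.natCard_eq_pow_finrank (K := F), finrank_span_singleton hv0, pow_one]
      have heq := Set.eq_of_subset_of_ncard_le hsub (by
        rw [← Nat.card_coe_set_eq, ← Nat.card_coe_set_eq]
        refine le_trans (le_of_eq hcard) (le_trans ?_ (le_of_eq hk))
        rw [hkq]
        exact Nat.le_self_pow (by have := C.hn; omega) q) (Set.toFinite _)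
      exact fun u => Set.ext_iff.1 heq u
    have hn1 : C.n = 1 := by
      have hle : k ≤ q := by
        refine le_trans (Nat.card_le_card_of_injective
          (fun u : C.Kb x => (⟨u.1, (hline _).1 u.2⟩ : Submodule.span F ({v} : Set C.U)))
          fun a b e => Subtype.ext (congrArg Subtype.val e :)) (le_of_eq ?_)
        rw [Module.natCard_eq_pow_finrank (K := F), finrank_span_singleton hv0, pow_one]
      rw [hkq] at hle
      by_contra h
      have h1 : q ^ 1 < q ^ C.n := Nat.pow_lt_pow_right (by omega) (by have := C.hn; omega)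
      rw [pow_one] at h1
      omega
    have hk' : k = q := by rw [hkq, hn1, pow_one]
    have hq5 : 5 ≤ q := by
      rcases hodd with ⟨j, hj⟩
      have : q ≠ 3 := fun h => hexc ⟨hn1, h⟩
      omega
    have hN' : N = q * q := by rw [← hNn, hn1, pow_one]
    have hbase : q * q * q + q * q ≤ M * i := by
      rw [hk', hN'] at hcov
      rw [hik, hk']
      have hM2 : q + 1 ≤ M := by
        by_contra h
        push Not at h
        have h1 : M * q ≤ q * q := Nat.mul_le_mul_right q (show M ≤ q by omega)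
        have hM1 : 1 ≤ M := Finset.card_pos.2 ⟨_, C.self_imgs _⟩
        have h4 : M * q = M * (q - 1) + M := by rw [← Nat.mul_succ, Nat.succ_eq_add_one, Nat.sub_add_cancel (by omega)]
        have h5 : M * (q - 1) ≤ q * (q - 1) := Nat.mul_le_mul_right _ (by omega)
        have h6 : q * q = q * (q - 1) + q := by rw [← Nat.mul_succ, Nat.succ_eq_add_one, Nat.sub_add_cancel (by omega)]
        omega
      calc q * q * q + q * q = (q + 1) * (q * q) := by ring
        _ ≤ _ := Nat.mul_le_mul_right _ hM2
    have hbig : ∀ e, M * i + e ≤ Nat.card X → 3 * q ≤ e → False := fun e he he3 => by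
      obtain ⟨r, hr⟩ : ∃ r, q = r + 3 := ⟨q - 3, by omega⟩
      rw [hV, hN', hr, show r + 3 - 1 = r + 2 by omega] at hd
      rw [hr] at hbase he3
      have := Nat.mul_le_mul_right (r + 2) ((Nat.add_le_add hbase he3).trans he)
      nlinarith
    have hi3 : ∀ y : X, 3 * q ≤ Nat.card (C.orb y) := fun y => by
      have h6 := C.isotropy h2 (hnc y)
      rw [← hNdef, hN', ← sq] at h6
      have h6' : Nat.card (C.Kb y) ≤ q := (Nat.pow_le_pow_iff_left two_ne_zero).1 h6
      have h8 := three_card_le hodd (hnc y)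
      have h9 := C.orb_card y
      rw [← hNdef, hN'] at h9
      refine Nat.le_of_mul_le_mul_right ?_ (show 0 < q * q by positivity)
      calc 3 * q * (q * q) = 3 * (q * (q * q)) := by ring
        _ = 3 * (Nat.card (C.orb y) * (Nat.card (Z1 C.hA C.a y) * Nat.card (C.Kb y))) := by rw [h9]
        _ = Nat.card (C.orb y) * ((3 * Nat.card (Z1 C.hA C.a y)) * Nat.card (C.Kb y)) := by ring
        _ ≤ _ := Nat.mul_le_mul_left _ (Nat.mul_le_mul h8 h6')
    have hkey : ∀ y : X, Z1 C.hA C.a y = ⊥ ∧ (C.Kb y = C.Kb x → y ∈ C.orb x) := by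
      intro y
      refine ⟨?_, fun hKy => ?_⟩
      · by_contra h
        exact hbig _ (C.family_add_le (x := x) (y := y) (Or.inl (by rwa [hx]))) (hi3 y)
      · by_contra h
        have h5 : Z1 C.hA C.a y = Z1 C.hA C.a x := by
          by_contra h'
          exact hbig _ (C.family_add_le (x := x) (y := y) (Or.inl h')) (hi3 y)
        exact hbig _ (C.family_two h5 hKy h) (hi3 x)
    have hdilK : ∀ (l : F) (hl : l ≠ 0) (ε : F) (hε : ε * ε = 1), ∀ y ∈ C.orb x, C.dil l hl ε hε • y ∈ C.orb x := by
      intro l hl ε hε y hy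
      refine (hkey _).2 ?_
      have hyK := (C.inv_orb hy).2
      have hle : l * ε ≠ 0 := mul_ne_zero hl fun h => by simp [h] at hε
      ext u
      have hu : u = (l * ε) • ((l * ε)⁻¹ • u) := by rw [smul_smul, mul_inv_cancel₀ hle, one_smul]
      conv_lhs => rw [hu, C.Kb_dil, hyK]
      rw [hline, hline, Submodule.smul_mem_iff _ (inv_ne_zero hle)]
    obtain ⟨y, hyo, hy⟩ := C.exists_fixed_h0 hodd (x := x) (hdilK _ _ _ _)
    obtain ⟨l, hl, hl2⟩ := exists_torus (show 4 ≤ Nat.card F by omega)
    have horby := C.orb_eq hyo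
    refine C.odd_finish h2 hy (fun z => (hkey z).1) hv0 hl hl2 ?_ ?_
    · rw [horby]
      refine (hkey _).2 ?_
      rw [C.Kb_L, (C.inv_orb hyo).2]
      ext u
      have hfix : ∀ t, t ∈ Submodule.span F ({v} : Set C.U) → C.res (C.tU v 1) t = t := fun t ht => by
        obtain ⟨c, rfl⟩ := Submodule.mem_span_singleton.1 ht
        rw [C.res_tU]
        simp [C.hA (v : V)]
      constructor
      · rintro ⟨t, ht, rfl⟩
        rw [hfix t ((hline _).1 ht)]
        exact ht
      · exact fun hu => ⟨u, hu, hfix u ((hline _).1 hu)⟩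
    · rw [horby]
      exact hdilK _ _ _ _ y hyo

end Frame

end Cfsg.Lib.Known.MinIndexSp
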