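import Cfsg.Agent.Known.MinIndexSp.Frame
import Cfsg.Agent.Known.MinIndexSp.Pairing

/-!
Orbits of the radical of a point stabiliser: their length and their two invariants.
-/

set_option autoImplicit false
set_option linter.unusedSectionVars false
set_option linter.unusedSimpArgs false
set_option linter.style.haveILetI false

namespace Cfsg.Lib.Known.MinIndexSp

open Cfsg.Lib.Classical

universe u v w

variable {F : Type u} [Field F] {V : Type v} [AddCommGroup V] [Module F V] {B : LinearMap.BilinForm F V}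

variable {X : Type w} [MulAction (BilinIsom B) X]

/-- The part of a transvection group fixing a point. -/
def Z1 (hA : B.IsAlt) (a : V) (x : X) : AddSubgroup F where
  carrier := {z | sympT hA a z • x = x}
  zero_mem' := by show sympT hA a 0 • x = x; rw [sympT_zero, one_smul]
  add_mem' {c d} hc hd := by
    show sympT hA a (c + d) • x = x
    rw [sympT_add, mul_smul, show sympT hA a d • x = x from hd, show sympT hA a c • x = x from hc]
  neg_mem' {c} hc := by
    show sympT hA a (-c) • x = x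
    rw [sympT_neg, inv_smul_eq_iff]; exact hc.symm

theorem mem_Z1 {hA : B.IsAlt} {a : V} {x : X} {z : F} : z ∈ Z1 hA a x ↔ sympT hA a z • x = x := Iff.rfl

theorem Z1_map (hA : B.IsAlt) (g : (BilinIsom B)) (a : V) (x : X) : Z1 hA ((g : V ≃ₗ[F] V) a) (g • x) = Z1 hA a x := by
  ext z
  rw [mem_Z1, mem_Z1, ← sympT_conj, fix_conj]

theorem Z1_top {hA : B.IsAlt} {a : V} {x : X} :
    Z1 hA a x = ⊤ ↔ a ∈ transCentres hA (MulAction.stabilizer (BilinIsom B) x) :=
  ⟨fun h c => show sympT hA a c • x = x from mem_Z1.1 (h ▸ AddSubgroup.mem_top c),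
    fun h => eq_top_iff.2 fun c _ => mem_Z1.2 (h c)⟩

namespace Frame

variable (C : Frame B)

theorem rho_inj {u u' : C.U} {z z' : F} (e : rho C.hA C.a (u : V) z = rho C.hA C.a (u' : V) z') :
    u = u' ∧ z = z' := by
  have h := congrArg (fun g : (BilinIsom B) => (g : V ≃ₗ[F] V) C.b) e
  simp only [rho_apply C.hA (C.au _), C.hba, C.bu, zero_smul, add_zero] at h
  have hb := congrArg (B C.b) h
  simp only [map_add, map_smul, C.hA C.b, C.hba, C.bu, smul_eq_mul, mul_zero, mul_one, mul_neg, neg_neg,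
    zero_add, add_zero] at hb
  subst hb
  refine ⟨Subtype.ext (neg_inj.1 ?_), rfl⟩
  linear_combination (norm := module) h

/-- The radical of the point stabiliser. -/
def Q : Subgroup (BilinIsom B) where
  carrier := {g | ∃ (u : C.U) (z : F), g = rho C.hA C.a (u : V) z}
  one_mem' := ⟨0, 0, by simp [rho_zero, sympT_zero]⟩
  mul_mem' := by
    rintro g h ⟨u, z, rfl⟩ ⟨u', z', rfl⟩
    exact ⟨u + u', z + z' + B (u' : V) (u : V), by rw [rho_mul C.hA (C.au u) (C.au u')]; rfl⟩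
  inv_mem' := by
    rintro g ⟨u, z, rfl⟩
    exact ⟨-u, -z, by rw [rho_inv C.hA (C.au u)]; rfl⟩

theorem rho_mem_Q (u : C.U) (z : F) : rho C.hA C.a (u : V) z ∈ C.Q := ⟨u, z, rfl⟩

/-- The radical as a set of pairs. -/
noncomputable def qEquiv : C.U × F ≃ C.Q :=
  Equiv.ofBijective (fun p => ⟨_, C.rho_mem_Q p.1 p.2⟩)
    ⟨fun p p' e => Prod.ext (C.rho_inj (congrArg Subtype.val e)).1 (C.rho_inj (congrArg Subtype.val e)).2,
      fun g => by
        obtain ⟨u, z, h⟩ := g.2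
        exact ⟨(u, z), Subtype.ext h.symm⟩⟩

theorem qEquiv_coe (p : C.U × F) : ((C.qEquiv p : C.Q) : (BilinIsom B)) = rho C.hA C.a (p.1 : V) p.2 := rfl

/-- The image in the orthogonal space of the stabiliser of a point inside the radical. -/
def Kb (x : X) : AddSubgroup C.U where
  carrier := {u | ∃ z, rho C.hA C.a (u : V) z • x = x}
  zero_mem' := ⟨0, by simp [rho_zero, sympT_zero]⟩
  add_mem' := by
    rintro u u' ⟨z, hz⟩ ⟨z', hz'⟩
    refine ⟨z + z' + B (u' : V) (u : V), ?_⟩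
    rw [show ((u + u' : C.U) : V) = (u : V) + u' from rfl, ← rho_mul C.hA (C.au u) (C.au u'), mul_smul, hz', hz]
  neg_mem' := by
    rintro u ⟨z, hz⟩
    refine ⟨-z, ?_⟩
    rw [show ((-u : C.U) : V) = -(u : V) from rfl, ← rho_inv C.hA (C.au u), inv_smul_eq_iff]
    exact hz.symm

theorem mem_Kb {x : X} {u : C.U} : u ∈ C.Kb x ↔ ∃ z, rho C.hA C.a (u : V) z • x = x := Iff.rfl

/-- The orbit of a point under the radical. -/
def orb (x : X) : Set X := MulAction.orbit C.Q x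

theorem mem_orb {x y : X} : y ∈ C.orb x ↔ ∃ (u : C.U) (z : F), rho C.hA C.a (u : V) z • x = y := by
  constructor
  · rintro ⟨g, rfl⟩
    obtain ⟨u, z, h⟩ := g.2
    exact ⟨u, z, by rw [← h]; rfl⟩
  · rintro ⟨u, z, rfl⟩
    exact ⟨⟨_, C.rho_mem_Q u z⟩, rfl⟩

theorem self_orb (x : X) : x ∈ C.orb x := MulAction.mem_orbit_self x

theorem orb_eq {x y : X} (h : y ∈ C.orb x) : C.orb y = C.orb x := MulAction.orbit_eq_iff.2 h

theorem inv_orb {x y : X} (h : y ∈ C.orb x) : Z1 C.hA C.a y = Z1 C.hA C.a x ∧ C.Kb y = C.Kb x := by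
  obtain ⟨u', z', rfl⟩ := C.mem_orb.1 h
  constructor
  · have h1 := Z1_map C.hA (rho C.hA C.a (u' : V) z') C.a x
    rwa [map_rho C.hA (C.au u') z'] at h1
  · ext u
    rw [C.mem_Kb, C.mem_Kb]
    constructor
    · rintro ⟨z, hz⟩
      refine ⟨z - 2 * B (u : V) (u' : V), ?_⟩
      refine (fix_conj (X := X) (rho C.hA C.a (u' : V) z') (rho C.hA C.a (u : V) (z - 2 * B (u : V) (u' : V)))).1 ?_
      rw [rho_conj_rho C.hA (C.au u) (C.au u'), sub_add_cancel]
      exact hz
    · rintro ⟨z, hz⟩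
      refine ⟨z + 2 * B (u : V) (u' : V), ?_⟩
      rw [← rho_conj_rho C.hA (C.au u) (C.au u') z z', fix_conj]
      exact hz

section Card

variable [Finite F] [FiniteDimensional F V]

theorem orb_card (x : X) :
    Nat.card (C.orb x) * (Nat.card (Z1 C.hA C.a x) * Nat.card (C.Kb x)) = Nat.card F * Nat.card C.U := by
  have hQ : Nat.card C.Q = Nat.card F * Nat.card C.U := by
    rw [← Nat.card_congr C.qEquiv, Nat.card_prod, mul_comm]
  have h1 := Nat.card_congr (MulAction.orbitProdStabilizerEquivGroup C.Q x)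
  rw [Nat.card_prod, hQ] at h1
  rw [← h1]
  congr 1
  rw [mul_comm]
  let s : {p : C.U × F // rho C.hA C.a (p.1 : V) p.2 • x = x} ≃ MulAction.stabilizer C.Q x :=
    C.qEquiv.subtypeEquiv fun p => Iff.rfl
  rw [← Nat.card_congr s, ← Nat.card_prod]
  choose f hf using fun u : C.Kb x => C.mem_Kb.1 u.2
  refine Nat.card_congr
    { toFun := fun p => ⟨(p.1.1, p.2.1 + f p.1), ?_⟩
      invFun := fun p => (⟨p.1.1, C.mem_Kb.2 ⟨_, p.2⟩⟩, ⟨p.1.2 - f ⟨p.1.1, C.mem_Kb.2 ⟨_, p.2⟩⟩, ?_⟩)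
      left_inv := fun p => Prod.ext rfl (Subtype.ext (add_sub_cancel_right _ _))
      right_inv := fun p => Subtype.ext (Prod.ext rfl (sub_add_cancel _ _)) }
  · have h := rho_mul C.hA (a := C.a) (u := 0) (u' := ((p.1.1 : C.U) : V)) (map_zero _) (C.au _) p.2.1 (f p.1)
    rw [rho_zero, zero_add, map_zero, add_zero] at h
    rw [← h, mul_smul, hf, mem_Z1.1 p.2.2]
  · have h := rho_mul C.hA (a := C.a) (u := 0) (u' := ((p.1.1 : C.U) : V)) (map_zero _) (C.au _)
      (p.1.2 - f ⟨p.1.1, C.mem_Kb.2 ⟨_, p.2⟩⟩) (f ⟨p.1.1, C.mem_Kb.2 ⟨_, p.2⟩⟩)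
    rw [rho_zero, zero_add, map_zero, add_zero, sub_add_cancel] at h
    rw [mem_Z1]
    conv_rhs => rw [← p.2, ← h, mul_smul, hf ⟨p.1.1, C.mem_Kb.2 ⟨_, p.2⟩⟩]

theorem orb_pos [Finite X] (x : X) : 0 < Nat.card (C.orb x) := by
  have : Nonempty (C.orb x) := ⟨⟨x, C.self_orb x⟩⟩
  exact Nat.card_pos

theorem sum_le [Fintype X] (S : Finset X) (hS : ∀ x ∈ S, ∀ y ∈ S, y ∈ C.orb x → x = y) :
    ∑ x ∈ S, Nat.card (C.orb x) ≤ Nat.card X := by
  classical
  have hd : (S : Set X).PairwiseDisjoint fun x => (C.orb x).toFinset := fun x hx y hy hxy =>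
    Finset.disjoint_left.2 fun z hz hz' => hxy (hS x hx y hy (by
      rw [Set.mem_toFinset] at hz hz'
      rw [← C.orb_eq hz, C.orb_eq hz']
      exact C.self_orb y))
  calc ∑ x ∈ S, Nat.card (C.orb x) = ∑ x ∈ S, (C.orb x).toFinset.card :=
        Finset.sum_congr rfl fun x _ => by rw [Set.toFinset_card, Nat.card_eq_fintype_card]
    _ = (S.biUnion fun x => (C.orb x).toFinset).card := (Finset.card_biUnion hd).symm
    _ ≤ Nat.card X := by rw [Nat.card_eq_fintype_card]; exact Finset.card_le_univ _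

end Card

/-- The symplectic pairing of the orthogonal space through an additive character. -/
def pairing (ψ : AddChar F ℂ) (hψ : ψ ≠ 1) : Pairing C.U where
  χ v := ψ.compAddMonoidHom
    { toFun := fun w : C.U => B (v : V) (w : V)
      map_zero' := map_zero _
      map_add' := fun w w' => map_add _ _ _ }
  add_left v v' w := by
    show ψ (B ((v : V) + v') (w : V)) = ψ (B (v : V) (w : V)) * ψ (B (v' : V) (w : V))
    rw [map_add, LinearMap.add_apply, AddChar.map_add_eq_mul]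
  nd v h := C.nd_U fun w => by
    by_contra hne
    refine hψ (DFunLike.ext _ _ fun c => ?_)
    have e := h ((c * (B (v : V) (w : V))⁻¹) • w)
    change ψ (B (v : V) ((c * (B (v : V) (w : V))⁻¹) • (w : V))) = 1 at e
    rwa [map_smul, smul_eq_mul, mul_assoc, inv_mul_cancel₀ hne, mul_one] at e

theorem pairing_apply (ψ : AddChar F ℂ) (hψ : ψ ≠ 1) (v w : C.U) :
    (C.pairing ψ hψ).χ v w = ψ (B (v : V) (w : V)) := rfl

theorem perp_res (ψ : AddChar F ℂ) (hψ : ψ ≠ 1) (g : C.L) (K : AddSubgroup C.U) :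
    (C.pairing ψ hψ).perp (K.map (C.res g)) = ((C.pairing ψ hψ).perp K).map (C.res g) := by
  ext v
  constructor
  · intro h
    refine ⟨C.res g⁻¹ v, fun k hk => ?_, C.res_inv' g v⟩
    rw [C.pairing_apply, ← C.res_form g, C.res_inv' g, ← C.pairing_apply ψ hψ]
    exact h _ ⟨k, hk, rfl⟩
  · rintro ⟨v, hv, rfl⟩ k ⟨k, hk, rfl⟩
    rw [C.pairing_apply, C.res_form, ← C.pairing_apply ψ hψ]
    exact hv k hk

theorem Z1_L (g : C.L) (x : X) : Z1 C.hA C.a ((g : (BilinIsom B)) • x) = Z1 C.hA C.a x := by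
  conv_lhs => rw [← g.2.1]
  exact Z1_map C.hA _ _ _

theorem Kb_L (g : C.L) (x : X) : C.Kb ((g : (BilinIsom B)) • x) = (C.Kb x).map (C.res g) := by
  ext u
  constructor
  · rintro ⟨z, hz⟩
    refine ⟨C.res g⁻¹ u, ⟨z, ?_⟩, C.res_inv' g u⟩
    rw [← fix_conj (g : (BilinIsom B)), rho_conj, g.2.1, C.res_coe]
    rwa [show ((g : (BilinIsom B)) : V ≃ₗ[F] V) ((((g⁻¹ : C.L) : (BilinIsom B)) : V ≃ₗ[F] V) (u : V)) = (u : V) from
      BilinIsom.apply_inv_self (g : (BilinIsom B)) _]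
  · rintro ⟨u, ⟨z, hz⟩, rfl⟩
    refine ⟨z, ?_⟩
    rw [C.res_coe]
    conv_lhs => rw [← g.2.1, ← rho_conj]
    exact (fix_conj (g : (BilinIsom B)) _).2 hz

end Frame

end Cfsg.Lib.Known.MinIndexSp
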