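import Cfsg.Agent.Classical.Symp.Maximal

/-!
The radical of a point stabiliser in a symplectic group, written with transvections.
-/

set_option autoImplicit false
set_option linter.unusedSectionVars false
set_option linter.style.haveILetI false

namespace Cfsg.Lib.Known.MinIndexSp

open Cfsg.Lib.Classical

universe u v

variable {F : Type u} [Field F] {V : Type v} [AddCommGroup V] [Module F V] {B : LinearMap.BilinForm F V}

local notation "GG" => BilinIsom B

theorem alt_swap (hA : B.IsAlt) (x y : V) : B y x = -B x y := (hA.neg_eq x y).symm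

theorem alt_zero (hA : B.IsAlt) {x y : V} (h : B x y = 0) : B y x = 0 := hA.isRefl _ _ h

/-- The element of the radical of the stabiliser of the point of `a` attached to `u` and `z`. -/
def rho (hA : B.IsAlt) (a u : V) (z : F) : GG :=
  sympT hA (a + u) 1 * sympT hA u (-1) * sympT hA a (z - 1)

theorem rho_apply (hA : B.IsAlt) {a u : V} (h : B a u = 0) (z : F) (x : V) :
    ((rho hA a u z : GG) : V ≃ₗ[F] V) x = x + B x a • u + B x u • a + (z * B x a) • a := by
  simp only [rho, BilinIsom.mul_apply', sympT_apply, map_add, map_smul, LinearMap.add_apply,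
    LinearMap.smul_apply, hA a, hA u, h, alt_zero hA h, smul_eq_mul, mul_zero, add_zero]
  module

theorem rho_zero (hA : B.IsAlt) (a : V) (z : F) : rho hA a 0 z = sympT hA a z :=
  BilinIsom.ext' fun x => by
    rw [rho_apply hA (map_zero _), sympT_apply]
    simp

theorem rho_conj (hA : B.IsAlt) (g : GG) (a u : V) (z : F) :
    g * rho hA a u z * g⁻¹ = rho hA ((g : V ≃ₗ[F] V) a) ((g : V ≃ₗ[F] V) u) z := by
  simp only [rho, ← sympT_conj, ← map_add]
  group

theorem rho_mul (hA : B.IsAlt) {a u u' : V} (h : B a u = 0) (h' : B a u' = 0) (z z' : F) :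
    rho hA a u z * rho hA a u' z' = rho hA a (u + u') (z + z' + B u' u) :=
  BilinIsom.ext' fun x => by
    rw [BilinIsom.mul_apply', rho_apply hA h' z' x, rho_apply hA h, rho_apply hA (by rw [map_add, h, h', add_zero])]
    simp only [map_add, map_smul, LinearMap.add_apply, LinearMap.smul_apply, hA a, h,
      alt_zero hA h', smul_eq_mul, mul_zero, add_zero]
    module

theorem rho_inv (hA : B.IsAlt) {a u : V} (h : B a u = 0) (z : F) : (rho hA a u z)⁻¹ = rho hA a (-u) (-z) := by
  refine inv_eq_of_mul_eq_one_right ?_
  rw [rho_mul hA h (by rw [map_neg, h, neg_zero]), add_neg_cancel, map_neg, LinearMap.neg_apply, hA u, rho_zero]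
  simp [sympT_zero]

theorem rho_smul (hA : B.IsAlt) {a u : V} (h : B a u = 0) (l z : F) :
    rho hA (l • a) u z = rho hA a (l • u) (l ^ 2 * z) :=
  BilinIsom.ext' fun x => by
    rw [rho_apply hA (by simp [h]), rho_apply hA (by simp [h])]
    simp only [map_smul, smul_eq_mul]
    module

theorem rho_shift (hA : B.IsAlt) {a u : V} (h : B a u = 0) (l z : F) :
    rho hA a (u + l • a) z = rho hA a u (z + 2 * l) :=
  BilinIsom.ext' fun x => by
    rw [rho_apply hA (by simp [h, hA a]), rho_apply hA h]
    simp only [map_add, map_smul, smul_eq_mul]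
    module

theorem rho_conj_rho (hA : B.IsAlt) {a u u' : V} (h : B a u = 0) (h' : B a u' = 0) (z z' : F) :
    rho hA a u' z' * rho hA a u z * (rho hA a u' z')⁻¹ = rho hA a u (z + 2 * B u u') := by
  rw [rho_inv hA h', rho_mul hA h' h, rho_mul hA (by simp [h, h']) (by simp [h'])]
  simp only [map_add, map_neg, LinearMap.neg_apply, hA u', alt_swap hA u u', add_zero]
  congr 1
  · abel
  · ring

theorem map_rho (hA : B.IsAlt) {a u : V} (h : B a u = 0) (z : F) :
    ((rho hA a u z : GG) : V ≃ₗ[F] V) a = a := by
  rw [rho_apply hA h]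
  simp [hA a, h]

/-- Moving a point stabiliser. -/
theorem fix_conj {X : Type*} [MulAction GG X] (g q : GG) {x : X} :
    (g * q * g⁻¹) • g • x = g • x ↔ q • x = x := by
  rw [smul_smul, inv_mul_cancel_right, ← smul_smul, smul_left_cancel_iff]

theorem finite_isom [Finite F] [FiniteDimensional F V] : Finite GG := by
  have : Finite V := Module.finite_of_finite F
  exact Finite.of_injective (fun g : GG => ((g : V ≃ₗ[F] V) : V → V)) fun g h e => BilinIsom.ext' (congrFun e)

end Cfsg.Lib.Known.MinIndexSp
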