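import Cfsg.Agent.Known.MinIndexSp.EvenMain

/-!
The field with two elements: the degree of a nontrivial transitive action is at least the smaller number of
quadratic forms of one sign.
-/

set_option autoImplicit false
set_option linter.unusedSectionVars false
set_option linter.unusedSimpArgs false
set_option linter.style.haveILetI false

namespace Cfsg.Lib.Known.MinIndexSp

open Cfsg.Lib.Classical

universe u v w

variable {F : Type u} [Field F] [Finite F] [CharP F 2] {V : Type v} [AddCommGroup V] [Module F V]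
  [FiniteDimensional F V] {B : LinearMap.BilinForm F V} {X : Type w} [MulAction (BilinIsom B) X] [Fintype X]

theorem two_cases (h2 : Nat.card F = 2) (z : F) : z = 0 ∨ z = 1 := by
  obtain ⟨a, b, hab, h⟩ := Nat.card_eq_two_iff.1 h2
  have hz : ∀ w : F, w = a ∨ w = b := fun w => by
    have := (h ▸ Set.mem_univ w : w ∈ ({a, b} : Set F))
    simpa using this
  rcases hz z with e | e <;> rcases hz 0 with e0 | e0 <;> rcases hz 1 with e1 | e1 <;>
    first | exact Or.inl (e.trans e0.symm) | exact Or.inr (e.trans e1.symm) | exact absurd (e0.trans e1.symm) zero_ne_one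

theorem rho_symm (hA : B.IsAlt) {a r : V} (h : B a r = 0) : rho hA a r 0 = rho hA r a 0 :=
  BilinIsom.ext' fun x => by
    rw [rho_apply hA h, rho_apply hA (alt_zero hA h)]
    module

namespace Frame

variable (C : Frame B)

/-- All images full: the forms are inconsistent. -/
theorem two_full_false [Nonempty X] (h2 : Nat.card F = 2) (hn : 2 ≤ C.n) (hK : ∀ x : X, C.Kb x = ⊤)
    (hbot : ∀ x : X, Z1 C.hA C.a x = ⊥) : False := by
  classical
  have hA := C.hA
  obtain ⟨x⟩ := ‹Nonempty X›
  have huniq : ∀ {v u : V} {z z' : F}, v ≠ 0 → B v u = 0 → rho hA v u z • x = x → rho hA v u z' • x = x →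
      z = z' := by
    intro v u z z' hv hvu h h'
    have e : rho hA v u z * rho hA v u z' = sympT hA v (z + z') := by
      rw [rho_mul hA hvu hvu, add_self_V F, hA u, add_zero, rho_zero]
    have h3 : z + z' ∈ Z1 hA v x := by rw [mem_Z1, ← e, mul_smul, h', h]
    rw [Z1_all_bot hA C hbot hv x, AddSubgroup.mem_bot] at h3
    rw [← CharTwo.neg_eq z']
    exact eq_neg_of_add_eq_zero_left h3
  have hex : ∀ v u : V, ∃ z, v ≠ 0 → B v u = 0 → rho hA v u z • x = x := fun v u => by
    by_cases h : v ≠ 0 ∧ B v u = 0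
    · obtain ⟨z, hz⟩ := C.exists_rho_fix hK h.1 h.2 x
      exact ⟨z, fun _ _ => hz⟩
    · exact ⟨0, fun h1 h2 => absurd ⟨h1, h2⟩ h⟩
  choose f hf using hex
  have hadd : ∀ {v u u' : V}, v ≠ 0 → B v u = 0 → B v u' = 0 → f v (u + u') = f v u + f v u' + B u' u := by
    intro v u u' hv h h'
    refine huniq hv (by rw [map_add, h, h', add_zero]) (hf _ _ hv (by rw [map_add, h, h', add_zero])) ?_
    rw [← rho_mul hA h h', mul_smul, hf _ _ hv h', hf _ _ hv h]
  have hsym : ∀ {v u : V}, v ≠ 0 → u ≠ 0 → B v u = 0 → f v u = f u v := by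
    intro v u hv hu h
    have key : ∀ {p r : V}, p ≠ 0 → r ≠ 0 → B p r = 0 → f p r = 0 → f r p = 0 := fun {p r} hp hr hpr h0 => by
      refine huniq hr (alt_zero hA hpr) (hf _ _ hr (alt_zero hA hpr)) ?_
      rw [← rho_symm hA hpr, ← h0]
      exact hf _ _ hp hpr
    rcases two_cases h2 (f v u) with e | e <;> rcases two_cases h2 (f u v) with e' | e'
    · rw [e, e']
    · rw [e, key hv hu h e]
    · rw [e', key hu hv (alt_zero hA h) e']
    · rw [e, e']
  have hab0 : C.a + C.b ≠ 0 := fun h => by
    have := congrArg (fun y => B y C.b) h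
    simp [C.hab, C.hA C.b] at this
  have hb0 : C.b ≠ 0 := fun h => by
    have := C.hab
    rw [h, map_zero] at this
    exact zero_ne_one this
  have hone : ∀ w : C.U, w ≠ 0 → f C.a (w : V) + f C.b (w : V) + f (C.a + C.b) (w : V) = 1 := fun w hw => by
    have hw' : (w : V) ≠ 0 := fun h => hw (Subtype.ext h)
    have hw2 : B (C.a + C.b) (w : V) = 0 := by simp [C.au, C.bu]
    rw [hsym C.ha0 hw' (C.au w), hsym hb0 hw' (C.bu w), hsym hab0 hw' hw2, hadd hw' (C.ua w) (C.ub w), C.hba,
      CharTwo.neg_eq]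
    linear_combination CharTwo.add_self_eq_zero (f (w : V) C.a + f (w : V) C.b)
  obtain ⟨v, hv⟩ : ∃ v : C.U, v ≠ 0 := by
    have : Nontrivial C.U := Module.nontrivial_of_finrank_pos (R := F) (by rw [C.finrank_U]; have := C.hn; omega)
    exact exists_ne 0
  obtain ⟨u, hu, huv⟩ : ∃ u : C.U, B (v : V) (u : V) = 0 ∧ u ∉ Submodule.span F ({v} : Set C.U) := by
    by_contra h
    push Not at h
    let φ : C.U →ₗ[F] F := (B (v : V)).comp C.U.subtype
    have h1 : LinearMap.ker φ ≤ Submodule.span F ({v} : Set C.U) := fun u hu => h u hu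
    have h3 := Submodule.finrank_mono h1
    rw [finrank_span_singleton hv] at h3
    have h4 := φ.finrank_range_add_finrank_ker
    have h5 := Submodule.finrank_le (LinearMap.range φ)
    rw [Module.finrank_self] at h5
    rw [C.finrank_U] at h4
    omega
  have hu0 : u ≠ 0 := fun h => huv (by rw [h]; exact zero_mem _)
  have huv0 : u + v ≠ 0 := fun h => huv (by
    rw [eq_neg_of_add_eq_zero_left h]
    exact neg_mem (Submodule.mem_span_singleton_self v))
  have e1 := hone v hv
  have e2 := hone u hu0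
  have e3 := hone (u + v) huv0
  rw [show ((u + v : C.U) : V) = (u : V) + (v : V) from rfl, hadd C.ha0 (C.au u) (C.au v),
    hadd hb0 (C.bu u) (C.bu v), hadd hab0 (by simp [C.au, C.bu]) (by simp [C.au, C.bu]), hu] at e3
  have : (1 : F) + 1 = 1 := by linear_combination e3 - e1 - e2
  exact one_ne_zero (add_eq_left.1 this)

open scoped _root_.Classical in
/-- The bound over two elements. -/
theorem two_bound [MulAction.IsPretransitive (BilinIsom B) X] [Nonempty X] (h2 : Nat.card F = 2) (hn : 2 ≤ C.n)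
    (hd : Nat.card X + 2 ^ C.n < 2 * Nat.card C.U)
    (hmove : ∀ x : X, MulAction.stabilizer (BilinIsom B) x ≠ ⊤) : False := by
  have : Finite C.U := Module.finite_of_finite F
  obtain ⟨ψ, hψ, -, -, -⟩ := exists_artin_schreier (F := F)
  have hZ : ∀ x : X, Z1 C.hA C.a x = ⊥ ∨ Z1 C.hA C.a x = ⊤ := fun x => by
    by_cases h : (1 : F) ∈ Z1 C.hA C.a x
    · exact Or.inr (eq_top_iff.2 fun z _ => by
        rcases two_cases h2 z with rfl | rfl
        · exact zero_mem _
        · exact h)
    · exact Or.inl (eq_bot_iff.2 fun z hz => by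
        rcases two_cases h2 z with rfl | rfl
        · exact zero_mem _
        · exact absurd hz h)
  have hd1 : Nat.card X * (Nat.card F - 1) + 1 < Nat.card V := by
    rw [C.card_V, h2]
    have h1 : 1 ≤ 2 ^ C.n := Nat.one_le_two_pow
    omega
  have hsemi : ∀ z : X, Z1 C.hA C.a z = ⊥ → C.Kb z = ⊤ := fun z hz => by
    by_contra hKz
    have hp := C.orb_perp ψ hψ z
    rw [hz, AddSubgroup.card_bot, mul_one, h2] at hp
    have hc := C.cover_le ((C.pairing ψ hψ).perp_ne_bot hKz)
    rw [C.perp_imgs ψ hψ] at hc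
    have hM : 1 ≤ (C.imgs (C.Kb z)).card := Finset.card_pos.2 ⟨_, C.self_imgs _⟩
    have hf := C.family_le z
    rw [hp, mul_left_comm] at hf
    have := Nat.one_le_two_pow (n := C.n)
    omega
  have hfull : ∀ y : X, C.a ∈ cen C.hA y → C.Kb y = ⊤ := fun y hy => by
    by_contra hKy
    obtain ⟨z, hz⟩ : ∃ z : X, Z1 C.hA C.a z = ⊥ := by
      by_contra h
      push Not at h
      refine hmove y (eq_top_of_transCentres (hA := C.hA) C.hB fun v => ?_)
      rcases eq_or_ne v 0 with rfl | hv
      · exact transCentres_zero C.hA _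
      obtain ⟨g, hg⟩ := C.exists_to_a hv
      have h1 : C.a ∈ cen C.hA (g • y) := Z1_top.1 ((hZ _).resolve_left (h _))
      rw [← hg] at h1
      exact (cen_map C.hA g y v).1 h1
    have h1 := C.other_add hKy
    have h3 := C.full_half (hsemi z hz) (by rw [hz]; exact bot_ne_top)
    have hp := C.orb_perp ψ hψ y
    rw [Z1_top.2 hy, AddSubgroup.card_top, mul_comm] at hp
    have hi := Nat.eq_of_mul_eq_mul_left Nat.card_pos hp
    have hc := C.cover_le ((C.pairing ψ hψ).perp_ne_bot hKy)
    rw [C.perp_imgs ψ hψ, ← hi] at hc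
    have hM : 1 ≤ (C.imgs (C.Kb y)).card := Finset.card_pos.2 ⟨_, C.self_imgs _⟩
    rw [h2] at h3
    omega
  have hbot : ∀ x : X, Z1 C.hA C.a x = ⊥ := fun x => (hZ x).resolve_right fun h =>
    C.no_full hd1 hmove (fun v u y hv hv0 hvu z => C.full_transport hfull hv hv0 hvu z) x (Z1_top.1 h)
  exact C.two_full_false h2 hn (fun x => hsemi x (hbot x)) hbot

end Frame

end Cfsg.Lib.Known.MinIndexSp
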